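import Mathlib
import Cfsg.Agent.H161.TwoUnip

/-!
Regular unipotent matrices in `SL_n` (S2523).

* `UT`, `LT` : the upper and lower unitriangular matrices of `SL (Fin n) K`; `JS` the Jordan block;
* `gc g A` : the conjugate of `A ∈ SL` by `g ∈ GL`;
* `exists_prod` : `L U` is a product of two `GL`-conjugates of `JS`;
* `exists_pow` : `JS ^ (p ^ N) = 1` in characteristic `p`.
-/

set_option autoImplicit false

namespace Cfsg.Agent.H162.GaussSL

open Matrix

variable {K : Type*} [Field K] {n : ℕ}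

/-- the upper unitriangular matrices -/
def UT (n : ℕ) (K : Type*) [Field K] : Subgroup (SpecialLinearGroup (Fin n) K) where
  carrier := {A | (A : Matrix (Fin n) (Fin n) K).BlockTriangular id ∧ ∀ i, A.1 i i = 1}
  one_mem' := ⟨blockTriangular_one, fun i => Matrix.one_apply_eq i⟩
  mul_mem' := by
    rintro A B ⟨hA, hA1⟩ ⟨hB, hB1⟩
    refine ⟨hA.mul hB, fun i => ?_⟩
    have h1 : (A * B).1 i i = ∑ k, A.1 i k * B.1 k i := by
      change (A.1 * B.1) i i = _
      rw [Matrix.mul_apply]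
    rw [h1, Finset.sum_eq_single i, hA1, hB1, one_mul]
    · intro k _ hk
      rcases lt_or_gt_of_ne hk with h | h
      · rw [hA (i := i) (j := k) h, zero_mul]
      · rw [hB (i := k) (j := i) h, mul_zero]
    · intro h; exact absurd (Finset.mem_univ _) h
  inv_mem' := by
    rintro A ⟨hA, hA1⟩
    have hunit : IsUnit (A : Matrix (Fin n) (Fin n) K).det := by rw [A.2]; exact isUnit_one
    letI : Invertible (A : Matrix (Fin n) (Fin n) K) := Matrix.invertibleOfIsUnitDet _ hunit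
    have hinv : (A⁻¹).1 = (A.1)⁻¹ := by
      change A.1.adjugate = (A.1)⁻¹
      rw [Matrix.inv_def, A.2]
      simp
    have hB : (A⁻¹).1.BlockTriangular id := by
      rw [hinv]
      exact Matrix.blockTriangular_inv_of_blockTriangular hA
    refine ⟨hB, fun i => ?_⟩
    have h1 : (A * A⁻¹).1 i i = ∑ k, A.1 i k * (A⁻¹).1 k i := by
      change (A.1 * (A⁻¹).1) i i = _
      rw [Matrix.mul_apply]
    have h2 : (A * A⁻¹).1 i i = 1 := by
      rw [mul_inv_cancel]
      exact Matrix.one_apply_eq i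
    rw [h2, Finset.sum_eq_single i, hA1, one_mul] at h1
    · exact h1.symm
    · intro k _ hk
      rcases lt_or_gt_of_ne hk with h | h
      · rw [hA (i := i) (j := k) h, zero_mul]
      · rw [hB (i := k) (j := i) h, mul_zero]
    · intro h; exact absurd (Finset.mem_univ _) h

theorem mem_UT {A : SpecialLinearGroup (Fin n) K} :
    A ∈ UT n K ↔ (∀ i j, j < i → A.1 i j = 0) ∧ ∀ i, A.1 i i = 1 :=
  ⟨fun hA => ⟨fun _ _ hij => hA.1 hij, hA.2⟩, fun hA => ⟨fun _ _ hij => hA.1 _ _ hij, hA.2⟩⟩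

/-- the transpose of an element of `SL` -/
def tr (A : SpecialLinearGroup (Fin n) K) : SpecialLinearGroup (Fin n) K := ⟨A.1ᵀ, by rw [det_transpose, A.2]⟩

theorem tr_mul (A B : SpecialLinearGroup (Fin n) K) : tr (A * B) = tr B * tr A := by
  apply Subtype.ext
  change (A.1 * B.1)ᵀ = B.1ᵀ * A.1ᵀ
  rw [transpose_mul]

theorem tr_one : tr (1 : SpecialLinearGroup (Fin n) K) = 1 := by
  apply Subtype.ext
  change (1 : Matrix (Fin n) (Fin n) K)ᵀ = 1
  rw [transpose_one]

theorem tr_inv (A : SpecialLinearGroup (Fin n) K) : tr A⁻¹ = (tr A)⁻¹ := by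
  rw [eq_inv_iff_mul_eq_one, ← tr_mul, mul_inv_cancel, tr_one]

/-- the lower unitriangular matrices -/
def LT (n : ℕ) (K : Type*) [Field K] : Subgroup (SpecialLinearGroup (Fin n) K) where
  carrier := {A | tr A ∈ UT n K}
  one_mem' := by
    change tr 1 ∈ UT n K
    rw [tr_one]; exact one_mem _
  mul_mem' := by
    intro A B hA hB
    change tr (A * B) ∈ UT n K
    rw [tr_mul]; exact mul_mem hB hA
  inv_mem' := by
    intro A hA
    change tr A⁻¹ ∈ UT n K
    rw [tr_inv]; exact inv_mem hA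

theorem mem_LT {A : SpecialLinearGroup (Fin n) K} :
    A ∈ LT n K ↔ (∀ i j, i < j → A.1 i j = 0) ∧ ∀ i, A.1 i i = 1 := by
  change tr A ∈ UT n K ↔ _
  rw [mem_UT]
  exact ⟨fun hA => ⟨fun i j hij => hA.1 j i hij, hA.2⟩, fun hA => ⟨fun i j hij => hA.1 j i hij, hA.2⟩⟩

/-- the entries of the Jordan block -/
def JM (n : ℕ) (K : Type*) [Field K] : Matrix (Fin n) (Fin n) K :=
  Matrix.of fun i j => if i = j then 1 else if j.val = i.val + 1 then 1 else 0

theorem JM_tri : (JM n K).BlockTriangular id := by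
  intro i j hij
  have h1 : j.val < i.val := hij
  rw [JM, Matrix.of_apply, if_neg (fun h => by rw [h] at h1; exact lt_irrefl _ h1), if_neg (by omega)]

theorem JM_diag (i : Fin n) : JM n K i i = 1 := by
  rw [JM, Matrix.of_apply, if_pos rfl]

/-- the Jordan block -/
def JS (n : ℕ) (K : Type*) [Field K] : SpecialLinearGroup (Fin n) K :=
  ⟨JM n K, by rw [Matrix.det_of_isUpperTriangular JM_tri]; simp [JM_diag]⟩

theorem JS_mem : JS n K ∈ UT n K := ⟨JM_tri, JM_diag⟩

/-- the conjugate of `A ∈ SL` by `g ∈ GL` -/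
def gc (g : GL (Fin n) K) (A : SpecialLinearGroup (Fin n) K) : SpecialLinearGroup (Fin n) K :=
  ⟨g.1 * A.1 * (g⁻¹).1, by
    rw [det_mul, det_mul, A.2, mul_one, ← det_mul]
    have : g.1 * (g⁻¹).1 = 1 := by rw [← Units.val_mul, mul_inv_cancel, Units.val_one]
    rw [this, det_one]⟩

theorem coe_gc (g : GL (Fin n) K) (A : SpecialLinearGroup (Fin n) K) :
    (gc g A : GL (Fin n) K) = g * (A : GL (Fin n) K) * g⁻¹ := Units.ext rfl

theorem coe_inj {A B : SpecialLinearGroup (Fin n) K} (h : (A : GL (Fin n) K) = (B : GL (Fin n) K)) : A = B := by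
  apply Subtype.ext
  exact congrArg (fun g : GL (Fin n) K => (g : Matrix (Fin n) (Fin n) K)) h

theorem gc_mul (g : GL (Fin n) K) (A B : SpecialLinearGroup (Fin n) K) : gc g (A * B) = gc g A * gc g B := by
  apply coe_inj
  rw [coe_gc, map_mul, map_mul, coe_gc, coe_gc]
  group

theorem gc_gc (g k : GL (Fin n) K) (A : SpecialLinearGroup (Fin n) K) : gc g (gc k A) = gc (g * k) A := by
  apply coe_inj
  rw [coe_gc, coe_gc, coe_gc]
  group

theorem gc_one (A : SpecialLinearGroup (Fin n) K) : gc 1 A = A := by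
  apply coe_inj
  rw [coe_gc]; group

theorem gc_pow (g : GL (Fin n) K) (A : SpecialLinearGroup (Fin n) K) (k : ℕ) : gc g (A ^ k) = (gc g A) ^ k := by
  induction k with
  | zero =>
    apply coe_inj
    rw [pow_zero, pow_zero, coe_gc]
    simp
  | succ k ih => rw [pow_succ, pow_succ, gc_mul, ih]

theorem gc_inv (g : GL (Fin n) K) (A : SpecialLinearGroup (Fin n) K) : gc g A⁻¹ = (gc g A)⁻¹ := by
  rw [eq_inv_iff_mul_eq_one, ← gc_mul, inv_mul_cancel]
  apply coe_inj
  rw [coe_gc]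
  simp

/-! ### Products -/

theorem coe_JS (i j : Fin n) : ((JS n K : GL (Fin n) K) : Matrix (Fin n) (Fin n) K) i j =
    if i = j then 1 else if j.val = i.val + 1 then 1 else 0 := rfl

/-- a unipotent element of maximal nilpotency degree is conjugate to the Jordan block -/
theorem exists_gc_of_nil {M : SpecialLinearGroup (Fin n) K} (h1 : (M.1 - 1) ^ n = 0) (h2 : (M.1 - 1) ^ (n - 1) ≠ 0) :
    ∃ g : GL (Fin n) K, M = gc g (JS n K) := by
  obtain ⟨w, hw⟩ : ∃ w, ((Matrix.toLin' (M.1 - 1)) ^ (n - 1)) w ≠ 0 := by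
    by_contra hcon
    push Not at hcon
    apply h2
    apply Matrix.toLin'.injective
    rw [Matrix.toLin'_pow, map_zero]
    exact LinearMap.ext hcon
  obtain ⟨P, hP⟩ := Cfsg.Agent.H161.Jordan.exists_conj (JS n K : GL (Fin n) K) coe_JS (Matrix.toLin' (M.1 - 1))
    (by rw [← Matrix.toLin'_pow, h1, map_zero]) w hw (M : GL (Fin n) K) (fun v => by
      rw [Matrix.toLin'_apply, Matrix.sub_mulVec, Matrix.one_mulVec]
      change M.1.mulVec v = _
      abel)
  refine ⟨P, coe_inj ?_⟩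
  rw [coe_gc]
  exact hP

theorem exists_inv (hn : 0 < n) : ∃ g : GL (Fin n) K, (JS n K)⁻¹ = gc g (JS n K) := by
  obtain ⟨P, hP⟩ := Cfsg.Agent.H161.Jordan.inv_conj (JS n K : GL (Fin n) K) coe_JS hn
  refine ⟨P, coe_inj ?_⟩
  rw [coe_gc, ← hP, map_inv]

theorem eq_one_of_LT_UT {L : SpecialLinearGroup (Fin n) K} (h1 : L ∈ LT n K) (h2 : L ∈ UT n K) : L = 1 := by
  rw [mem_LT] at h1
  rw [mem_UT] at h2
  apply Subtype.ext
  ext i j
  rcases lt_trichotomy i j with h | h | h
  · rw [h1.1 i j h]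
    exact (Matrix.one_apply_ne h.ne).symm
  · subst h
    rw [h1.2]
    exact (Matrix.one_apply_eq i).symm
  · rw [h2.1 i j h]
    exact (Matrix.one_apply_ne h.ne').symm

/-- a scalar product of a lower and an upper unitriangular matrix -/
theorem scalar_case {L U : SpecialLinearGroup (Fin n) K} (hn : 0 < n) (hL : L ∈ LT n K) (hU : U ∈ UT n K) {c : K}
    (hc : (L * U).1 = c • (1 : Matrix (Fin n) (Fin n) K)) : L = 1 ∧ U = 1 := by
  have h1 : L.1 = c • (U⁻¹).1 := by
    have h2 : (L * U * U⁻¹).1 = c • (U⁻¹).1 := by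
      change (L * U).1 * (U⁻¹).1 = _
      rw [hc, Matrix.smul_mul, Matrix.one_mul]
    rwa [mul_inv_cancel_right] at h2
  have hU' := mem_UT.1 (inv_mem hU)
  have hL' := mem_LT.1 hL
  have hc1 : c = 1 := by
    have h2 := congrFun (congrFun h1 ⟨0, hn⟩) ⟨0, hn⟩
    rw [hL'.2, Matrix.smul_apply, hU'.2, smul_eq_mul, mul_one] at h2
    exact h2.symm
  rw [hc1, one_smul] at h1
  have h3 : L = U⁻¹ := Subtype.ext h1
  have h4 : L = 1 := eq_one_of_LT_UT hL (by rw [h3]; exact inv_mem hU)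
  refine ⟨h4, ?_⟩
  rw [h4] at h3
  exact inv_eq_one.1 h3.symm

/-- **`L U` is a product of two regular unipotent elements.** -/
theorem exists_prod (hK : (4 : Cardinal) ≤ Cardinal.mk K) {n : ℕ} {L U : SpecialLinearGroup (Fin (n + 2)) K}
    (hL : L ∈ LT (n + 2) K) (hU : U ∈ UT (n + 2) K) :
    ∃ x y : GL (Fin (n + 2)) K, L * U = gc x (JS (n + 2) K) * gc y (JS (n + 2) K) := by
  by_cases hc : ∃ c : K, (L * U).1 = c • (1 : Matrix (Fin (n + 2)) (Fin (n + 2)) K)
  · obtain ⟨c, hc⟩ := hc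
    obtain ⟨rfl, rfl⟩ := scalar_case (by omega) hL hU hc
    obtain ⟨g, hg⟩ := exists_inv (K := K) (n := n + 2) (by omega)
    exact ⟨1, g, by rw [gc_one, ← hg]; group⟩
  · obtain ⟨x, y, hxy⟩ := Cfsg.Agent.H161.TwoUnip.main hK n (JS (n + 2) K : GL (Fin (n + 2)) K)
      ((L * U : SpecialLinearGroup (Fin (n + 2)) K) : GL (Fin (n + 2)) K) coe_JS hc (L * U).2
    refine ⟨x, y, coe_inj ?_⟩
    rw [map_mul (SpecialLinearGroup.toGL) (gc x _), coe_gc, coe_gc]
    exact hxy

/-- the Jordan block has `p`-power order -/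
theorem exists_pow (p : ℕ) [hp : Fact p.Prime] [CharP K p] : ∃ N, (JS n K) ^ (p ^ N) = 1 := by
  obtain ⟨N, hN⟩ : ∃ N, n ≤ p ^ N := ⟨n, (Nat.lt_pow_self hp.out.one_lt).le⟩
  refine ⟨N, Subtype.ext ?_⟩
  have h0 : (JM n K - 1) ^ n = 0 := by
    have h1 : (JM n K).charpoly = (Polynomial.X - Polynomial.C 1) ^ n := by
      rw [Matrix.charpoly_of_isUpperTriangular _ JM_tri]
      simp [JM_diag]
    have h2 := Matrix.aeval_self_charpoly (JM n K)
    rw [h1, map_pow, map_sub, Polynomial.aeval_X, Polynomial.aeval_C, map_one] at h2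
    exact h2
  have h1 : (JM n K - 1) ^ (p ^ N) = 0 := by
    obtain ⟨k, hk⟩ := Nat.exists_eq_add_of_le hN
    rw [hk, pow_add, h0, zero_mul]
  rcases Nat.eq_zero_or_pos n with hn | hn
  · subst hn
    exact Subsingleton.elim _ _
  haveI : Nonempty (Fin n) := ⟨⟨0, hn⟩⟩
  haveI : CharP (Matrix (Fin n) (Fin n) K) p := inferInstance
  have h2 : (JM n K - 1) ^ (p ^ N) = JM n K ^ (p ^ N) - 1 ^ (p ^ N) :=
    sub_pow_char_pow_of_commute _ _ (Commute.one_right (JM n K))
  rw [h1, one_pow] at h2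
  change (JM n K) ^ (p ^ N) = 1
  exact (sub_eq_zero.1 h2.symm)

end Cfsg.Agent.H162.GaussSL
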