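import Mathlib
import Cfsg.Agent.H162.GaussSL
import Cfsg.Agent.LieClassical.SLGen

/-!
Regular unitriangular matrices are conjugate to the Jordan block; tools for the field `gl` of `GaussMain.Blk` (S2523).

* `exists_gc_of_UT`, `exists_gc_of_LT` : unitriangular matrices with nonzero entries next to the diagonal are
  conjugate to `JS`; `exists_tr_inv` : `(JSᵀ)⁻¹` is conjugate to `JS`;
* `dd d` : `diag(d, 1, …, 1)`; `exists_dd` : `GL = diag(d, 1, …, 1) SL`; `gl_of_dd`;
* `hom_ext` : homomorphisms from `SL` agreeing on transvections; `JS_eq_prod` : `JS` is a product of transvections.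
-/

set_option autoImplicit false

namespace Cfsg.Agent.H162.GaussReg

open Matrix Cfsg.Agent.H162.GaussSL

variable {K : Type*} [Field K] {n : ℕ}

theorem pow_last (N : Matrix (Fin (n + 1)) (Fin (n + 1)) K) (h0 : ∀ i j, j ≤ i → N i j = 0)
    (h1 : ∀ i j : Fin (n + 1), j.val = i.val + 1 → N i j ≠ 0) (k : ℕ) :
    (∀ i : Fin (n + 1), n < i.val + k → (N ^ k) i (Fin.last n) = 0) ∧
      ∀ i : Fin (n + 1), i.val + k = n → (N ^ k) i (Fin.last n) ≠ 0 := by
  induction k with
  | zero =>
    refine ⟨fun i hi => absurd hi (by have := i.2; omega), fun i hi => ?_⟩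
    have : i = Fin.last n := Fin.ext (by simpa using hi)
    rw [this, pow_zero, Matrix.one_apply_eq]
    exact one_ne_zero
  | succ k ih =>
    refine ⟨fun i hi => ?_, fun i hi => ?_⟩
    · rw [pow_succ', Matrix.mul_apply]
      refine Finset.sum_eq_zero fun j _ => ?_
      by_cases hj : j ≤ i
      · rw [h0 i j hj, zero_mul]
      · rw [ih.1 j (by have : i.val < j.val := not_le.1 hj; omega), mul_zero]
    · rw [pow_succ', Matrix.mul_apply, Finset.sum_eq_single (⟨i.val + 1, by omega⟩ : Fin (n + 1))]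
      · exact mul_ne_zero (h1 _ _ rfl) (ih.2 _ (by simp; omega))
      · intro j _ hj
        by_cases hj' : j ≤ i
        · rw [h0 i j hj', zero_mul]
        · have h2 : i.val < j.val := not_le.1 hj'
          have h3 : j.val ≠ i.val + 1 := fun h => hj (Fin.ext h)
          rw [ih.1 j (by omega), mul_zero]
      · intro h; exact absurd (Finset.mem_univ _) h

/-- upper unitriangular matrices with nonzero superdiagonal -/
theorem exists_gc_of_UT {M : SpecialLinearGroup (Fin n) K} (hM : M ∈ UT n K)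
    (h1 : ∀ i j : Fin n, j.val = i.val + 1 → M.1 i j ≠ 0) : ∃ g : GL (Fin n) K, M = gc g (JS n K) := by
  have hM' := mem_UT.1 hM
  rcases n with _ | n
  · exact ⟨1, Subsingleton.elim _ _⟩
  refine exists_gc_of_nil ?_ ?_
  · have h2 : M.1.charpoly = (Polynomial.X - Polynomial.C 1) ^ (n + 1) := by
      rw [Matrix.charpoly_of_isUpperTriangular _ hM.1]
      simp [hM'.2]
    have h3 := Matrix.aeval_self_charpoly M.1
    rw [h2, map_pow, map_sub, Polynomial.aeval_X, Polynomial.aeval_C, map_one] at h3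
    exact h3
  · have h2 := (pow_last (M.1 - 1) (fun i j hij => ?_) (fun i j hij => ?_) n).2 0 (by simp)
    · intro h3
      apply h2
      have h4 : (M.1 - 1) ^ n = 0 := h3
      rw [h4]
      rfl
    · rcases hij.lt_or_eq with h | h
      · rw [Matrix.sub_apply, hM'.1 i j h, Matrix.one_apply_ne h.ne', sub_zero]
      · subst h
        rw [Matrix.sub_apply, hM'.2, Matrix.one_apply_eq, sub_self]
    · have hne : i ≠ j := by
        rintro rfl
        omega
      rw [Matrix.sub_apply, Matrix.one_apply_ne hne, sub_zero]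
      exact h1 i j hij

/-- the reversal permutation matrix -/
def rv (n : ℕ) (K : Type*) [Field K] : GL (Fin n) K where
  val := Matrix.of fun i j => if i = Fin.rev j then 1 else 0
  inv := Matrix.of fun i j => if i = Fin.rev j then 1 else 0
  val_inv := by
    ext i j
    rw [Matrix.mul_apply, Finset.sum_eq_single (Fin.rev j)]
    · simp [Matrix.one_apply]
    · intro k _ hk; simp [hk]
    · intro h; exact absurd (Finset.mem_univ _) h
  inv_val := by
    ext i j
    rw [Matrix.mul_apply, Finset.sum_eq_single (Fin.rev j)]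
    · simp [Matrix.one_apply]
    · intro k _ hk; simp [hk]
    · intro h; exact absurd (Finset.mem_univ _) h

theorem gc_rv_apply (M : SpecialLinearGroup (Fin n) K) (i j : Fin n) :
    (gc (rv n K) M).1 i j = M.1 (Fin.rev i) (Fin.rev j) := by
  change ((rv n K).1 * M.1 * (rv n K).inv) i j = _
  rw [Matrix.mul_apply, Finset.sum_eq_single (Fin.rev j), Matrix.mul_apply, Finset.sum_eq_single (Fin.rev i)]
  · simp [rv]
  · intro k _ hk
    have : i ≠ Fin.rev k := by
      rintro rfl
      exact hk (Fin.rev_rev k).symm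
    simp [rv, this]
  · intro h; exact absurd (Finset.mem_univ _) h
  · intro k _ hk
    simp [rv, hk]
  · intro h; exact absurd (Finset.mem_univ _) h

/-- lower unitriangular matrices with nonzero subdiagonal -/
theorem exists_gc_of_LT {M : SpecialLinearGroup (Fin n) K} (hM : M ∈ LT n K)
    (h1 : ∀ i j : Fin n, i.val = j.val + 1 → M.1 i j ≠ 0) : ∃ g : GL (Fin n) K, M = gc g (JS n K) := by
  have hM' := mem_LT.1 hM
  obtain ⟨g, hg⟩ := exists_gc_of_UT (M := gc (rv n K) M) (mem_UT.2 ⟨fun i j hij => by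
    rw [gc_rv_apply]
    exact hM'.1 _ _ (Fin.rev_lt_rev.2 hij), fun i => by rw [gc_rv_apply]; exact hM'.2 _⟩) (fun i j hij => by
      rw [gc_rv_apply]
      refine h1 _ _ ?_
      rw [Fin.val_rev, Fin.val_rev]
      omega)
  refine ⟨(rv n K)⁻¹ * g, ?_⟩
  rw [← gc_gc, ← hg, gc_gc, inv_mul_cancel, gc_one]

/-- the transposed inverse of the Jordan block is conjugate to the Jordan block -/
theorem exists_tr_inv (hn : 0 < n) : ∃ g : GL (Fin n) K, (tr (JS n K))⁻¹ = gc g (JS n K) := by
  obtain ⟨g, hg⟩ := exists_gc_of_LT (M := tr (JS n K)) (K := K) (n := n) (by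
    change tr (tr (JS n K)) ∈ UT n K
    exact JS_mem) (fun i j hij => by
      change (JM n K)ᵀ i j ≠ 0
      rw [Matrix.transpose_apply, JM, Matrix.of_apply, if_neg (by rintro rfl; omega), if_pos hij]
      exact one_ne_zero)
  obtain ⟨k, hk⟩ := exists_inv (K := K) hn
  refine ⟨g * k, ?_⟩
  rw [hg, ← gc_inv, hk, gc_gc]

/-- the transpose of the Jordan block is conjugate to the Jordan block -/
theorem exists_tr : ∃ g : GL (Fin n) K, tr (JS n K) = gc g (JS n K) :=
  exists_gc_of_LT (M := tr (JS n K)) (K := K) (n := n) (by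
    change tr (tr (JS n K)) ∈ UT n K
    exact JS_mem) (fun i j hij => by
      change (JM n K)ᵀ i j ≠ 0
      rw [Matrix.transpose_apply, JM, Matrix.of_apply, if_neg (by rintro rfl; omega), if_pos hij]
      exact one_ne_zero)

/-- `diag(d, 1, …, 1)` -/
def dd (n : ℕ) (d : Kˣ) : GL (Fin (n + 1)) K where
  val := diagonal fun i => if i = 0 then (d : K) else 1
  inv := diagonal fun i => if i = 0 then ((d⁻¹ : Kˣ) : K) else 1
  val_inv := by
    rw [diagonal_mul_diagonal, ← diagonal_one]
    congr 1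
    funext i
    by_cases h : i = 0 <;> simp [h]
  inv_val := by
    rw [diagonal_mul_diagonal, ← diagonal_one]
    congr 1
    funext i
    by_cases h : i = 0 <;> simp [h]

theorem exists_dd (g : GL (Fin (n + 1)) K) : ∃ (d : Kˣ) (A : SpecialLinearGroup (Fin (n + 1)) K),
    g = dd n d * (A : GL (Fin (n + 1)) K) := by
  have hdet : (dd n (Matrix.GeneralLinearGroup.det g)⁻¹ : GL (Fin (n + 1)) K).1.det =
      ((Matrix.GeneralLinearGroup.det g)⁻¹ : Kˣ) := by
    change (diagonal fun i : Fin (n + 1) => if i = 0 then (((Matrix.GeneralLinearGroup.det g)⁻¹ : Kˣ) : K) else 1).det = _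
    rw [det_diagonal, Finset.prod_ite_eq']
    simp
  refine ⟨Matrix.GeneralLinearGroup.det g,
    ⟨(dd n (Matrix.GeneralLinearGroup.det g)⁻¹).1 * g.1, ?_⟩, ?_⟩
  · rw [det_mul, hdet]
    have : ((Matrix.GeneralLinearGroup.det g : Kˣ) : K) = g.1.det := rfl
    rw [← this, ← Units.val_mul, inv_mul_cancel, Units.val_one]
  · apply Units.ext
    change g.1 = (dd n (Matrix.GeneralLinearGroup.det g)).1 * ((dd n (Matrix.GeneralLinearGroup.det g)⁻¹).1 * g.1)
    have h1 : ∀ d : Kˣ, (dd n d).1 * (dd n d⁻¹).1 = 1 := by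
      intro d
      change diagonal _ * diagonal _ = _
      rw [diagonal_mul_diagonal, ← diagonal_one]
      congr 1
      funext i
      by_cases h : i = 0 <;> simp [h]
    rw [← Matrix.mul_assoc, h1, Matrix.one_mul]

/-- the field `gl` of `GaussMain.Blk` from `diag(d, 1, …, 1)` -/
theorem gl_of_dd {Y : Type*} [Group Y] {s₀ : Y} {φ : SpecialLinearGroup (Fin (n + 1)) K →* Y}
    (hcomm : ∀ A, s₀ * φ A = φ A * s₀)
    (hd : ∀ d : Kˣ, ∃ y : Y, y * s₀ * y⁻¹ = s₀ ∧ ∀ A, y * φ A * y⁻¹ = φ (gc (dd n d) A)) (g : GL (Fin (n + 1)) K) :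
    ∃ y : Y, y * s₀ * y⁻¹ = s₀ ∧ ∀ A, y * φ A * y⁻¹ = φ (gc g A) := by
  obtain ⟨d, B, rfl⟩ := exists_dd g
  obtain ⟨y, hy1, hy2⟩ := hd d
  have hB : φ B * s₀ * (φ B)⁻¹ = s₀ := by rw [← hcomm]; group
  refine ⟨y * φ B, ?_, fun A => ?_⟩
  · calc y * φ B * s₀ * (y * φ B)⁻¹ = y * (φ B * s₀ * (φ B)⁻¹) * y⁻¹ := by group
      _ = s₀ := by rw [hB, hy1]
  · have h1 : gc (dd n d * (B : GL (Fin (n + 1)) K)) A = gc (dd n d) (B * A * B⁻¹) := by
      rw [← gc_gc]
      congr 1
    rw [h1, ← hy2, map_mul, map_mul, map_inv]; group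

/-- homomorphisms from `SL` agreeing on transvections -/
theorem hom_ext {Y : Type*} [Group Y] {f f' : SpecialLinearGroup (Fin n) K →* Y}
    (h : ∀ i j (hij : i ≠ j) (c : K), f (SpecialLinearGroup.transvection hij c) =
      f' (SpecialLinearGroup.transvection hij c)) : f = f' := by
  have h1 : (⊤ : Subgroup (SpecialLinearGroup (Fin n) K)) ≤ MonoidHom.eqLocus f f' := by
    rw [← Cfsg.Agent.LieClassical.SLGen.closure_transvections, Subgroup.closure_le]
    rintro _ ⟨i, j, hij, c, rfl⟩
    exact h i j hij c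
  ext g
  exact h1 (Subgroup.mem_top g)

/-- conjugation by `g` as a homomorphism -/
def gcHom (g : GL (Fin n) K) : SpecialLinearGroup (Fin n) K →* SpecialLinearGroup (Fin n) K where
  toFun := gc g
  map_one' := by
    have := gc_pow g (1 : SpecialLinearGroup (Fin n) K) 0
    rwa [pow_zero, pow_zero] at this
  map_mul' := gc_mul g

@[simp] theorem gcHom_apply (g : GL (Fin n) K) (A : SpecialLinearGroup (Fin n) K) : gcHom g A = gc g A := rfl

/-- `diag(d, 1, …, 1)` acts on transvections -/
theorem gc_dd_transvection (d : Kˣ) {i j : Fin (n + 1)} (hij : i ≠ j) (c : K) :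
    gc (dd n d) (SpecialLinearGroup.transvection hij c) = SpecialLinearGroup.transvection hij
      ((if i = 0 then (d : K) else 1) * c * (if j = 0 then ((d⁻¹ : Kˣ) : K) else 1)) := by
  apply Subtype.ext
  change diagonal _ * (1 + single i j c) * diagonal _ = 1 + single i j _
  rw [mul_add, add_mul, mul_one]
  congr 1
  · rw [diagonal_mul_diagonal, ← diagonal_one]
    congr 1
    funext i
    by_cases h : i = 0 <;> simp [h]
  · ext a b
    rw [mul_diagonal, diagonal_mul, single_apply, single_apply]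
    by_cases h : i = a ∧ j = b
    · obtain ⟨rfl, rfl⟩ := h
      simp
    · rw [if_neg h, if_neg h]
      simp

end Cfsg.Agent.H162.GaussReg
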