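import Mathlib
import Cfsg.Agent.Nodes.StabComb

/-!
Support-increasing conjugation in a finite Coxeter group (S2523).

* `mem_of_fix` : an element of `W_{I∖i}` fixing `α_i` lies in the parabolic subgroup of the nodes not joined to `i`;
* `step` : if `w ∈ W_{I∖i}` and `w ∉ W_{I∖j}`, `i`, `j` joined, then `ℓ (s_i w s_i) = ℓ w + 2` and the support of
  `s_i w s_i` contains that of `w` and `i`.
-/

set_option autoImplicit false
set_option linter.unusedSectionVars false

namespace Cfsg.Agent.H162.GaussComb

open CoxeterSystem Cfsg.Agent.ChevalleyStructure.CoxeterGeom Cfsg.Agent.Tits.Roots Cfsg.Agent.Tits.Core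
  Cfsg.Agent.Tits.RootComb Cfsg.Agent.Tits.Exchange Cfsg.Agent.Nodes.Comb Cfsg.Agent.Nodes.Reps
  Cfsg.Agent.Nodes.StabComb

variable {I W : Type*} [Fintype I] [DecidableEq I] [Group W] {M : CoxeterMatrix I} (cs : CoxeterSystem M W)
  {A : I → I → ℤ} (h : IsCartan M A)

/-- the pairing with `α_i` of a nonnegative vector without `α_i` is nonpositive -/
theorem pairing_nonpos (hA : IsCartan M A) {i : I} {y : I → ℤ} (h0 : 0 ≤ y) (hi : y i = 0) : pairing A i y ≤ 0 := by
  unfold pairing
  refine Finset.sum_nonpos fun l _ => ?_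
  by_cases hl : l = i
  · rw [hl, hi, mul_zero]
  · exact mul_nonpos_of_nonpos_of_nonneg (cartan_nonpos hA (Ne.symm hl)) (h0 l)

include h in
/-- an element of `W_{I∖i}` fixing `α_i` -/
theorem mem_of_fix [Finite W] {i : I} : ∀ {w : W}, w ∈ WJ cs {i}ᶜ → rep cs h w (sr i) = sr i →
    w ∈ WJ cs {k | k ≠ i ∧ M i k = 2} := by
  have := Fintype.ofFinite W
  intro w
  induction hn : cs.length w using Nat.strong_induction_on generalizing w with
  | _ N ih =>
  intro hw hfix
  by_cases hw1 : w = 1
  · rw [hw1]; exact one_mem _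
  obtain ⟨k, hk⟩ := cs.exists_rightDescent_of_ne_one hw1
  have hk' : cs.length (w * cs.simple k) < cs.length w := hk
  have hneg : rep cs h w (sr k) ≤ 0 := nonpos_of_lt cs h w k hk'
  have hki : k ≠ i := by
    rintro rfl
    rw [hfix] at hneg
    exact (isRoot_sr cs h k).not_pos_neg (sr_nonneg k) hneg
  have hy0 : (-rep cs h w (sr k)) i = 0 := by
    rw [Pi.neg_apply, rep_apply_of_mem cs h hw (sr k) (k := i) (by simp), sr_ne (Ne.symm hki), neg_zero]
  have h1 : form cs h (-rep cs h w (sr k)) (sr i) ≤ 0 := by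
    by_contra hcon
    push Not at hcon
    exact absurd ((form_sr_pos_iff cs h i _).1 hcon)
      (not_lt.2 (pairing_nonpos h (neg_nonneg.2 hneg) hy0))
  have h2 : 0 ≤ form cs h (sr k) (sr i) := by
    rw [← form_rep cs h w, hfix]
    rw [form_neg_left] at h1
    linarith
  have h3 : 0 ≤ A i k := by
    have := (form_sr_nonneg_iff cs h i (sr k)).1 h2
    rwa [sr, pairing_single, mul_one] at this
  have hM : M i k = 2 := by
    by_contra hM
    have := cartan_neg h (Ne.symm hki) hM
    omega
  have hM' : M k i = 2 := by rw [M.symmetric]; exact hM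
  have h4 : rep cs h (cs.simple k) (sr i) = sr i := by
    rw [rep_simple_eq]
    have : pairing A k (sr i) = 0 := by
      rw [sr, pairing_single, mul_one]
      exact cartan_zero h hki hM'
    rw [this, zero_smul, sub_zero]
  have h5 := ih _ (by omega) (w := w * cs.simple k) rfl
    (mul_mem hw (simple_mem_WJ cs (by simpa using hki))) (by rw [rep_mul_apply, h4, hfix])
  have h7 : w = w * cs.simple k * cs.simple k := by rw [mul_assoc, simple_mul_simple_self, mul_one]
  rw [h7]
  exact mul_mem h5 (simple_mem_WJ cs ⟨hki, hM⟩)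

/-- the support of `w` -/
def supp (w : W) : Set I := {j | w ∉ WJ cs {j}ᶜ}

include h in
theorem step [Finite W] {i j : I} {w : W} (hi : i ∉ supp cs w) (hj : j ∈ supp cs w) (hij : M i j ≠ 2) :
    cs.length (cs.simple i * w * cs.simple i) = cs.length w + 2 ∧
      cs.length (w * cs.simple i) = cs.length w + 1 ∧
      supp cs w ⊆ supp cs (cs.simple i * w * cs.simple i) ∧ i ∈ supp cs (cs.simple i * w * cs.simple i) := by
  have hiw : w ∈ WJ cs {i}ᶜ := by
    by_contra hcon
    exact hi hcon
  have hiw' : w⁻¹ ∈ WJ cs {i}ᶜ := inv_mem hiw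
  have hjw : w ∉ WJ cs {j}ᶜ := hj
  have hji : j ≠ i := by
    rintro rfl
    exact hjw hiw
  have hne : rep cs h w⁻¹ (sr i) ≠ sr i := by
    intro he
    have h1 := mem_of_fix cs h hiw' he
    refine hjw ?_
    have h2 : WJ cs {k | k ≠ i ∧ M i k = 2} ≤ WJ cs {j}ᶜ := by
      refine WJ_mono cs ?_
      rintro k ⟨hk, hk2⟩
      simp only [Set.mem_compl_iff, Set.mem_singleton_iff]
      rintro rfl
      exact hij hk2
    have h3 := inv_mem (h2 h1)
    rwa [inv_inv] at h3
  have hpos : 0 ≤ rep cs h w (sr i) := by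
    refine nonneg_of_pos_apply ((isRoot_sr cs h i).act w) (k := i) ?_
    rw [rep_apply_of_mem cs h hiw (sr i) (k := i) (by simp), sr_self]
    exact one_pos
  have hpos' : 0 ≤ rep cs h w⁻¹ (sr i) := by
    refine nonneg_of_pos_apply ((isRoot_sr cs h i).act w⁻¹) (k := i) ?_
    rw [rep_apply_of_mem cs h hiw' (sr i) (k := i) (by simp), sr_self]
    exact one_pos
  have hl1 : cs.length (w * cs.simple i) = cs.length w + 1 := by
    have h1 := (lt_iff' cs h w i).2 hpos
    have h2 := cs.length_mul_simple w i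
    omega
  have hpos2 : 0 ≤ rep cs h (w * cs.simple i)⁻¹ (sr i) := by
    rw [mul_inv_rev, inv_simple, rep_mul_apply]
    exact ((isRoot_sr cs h i).act w⁻¹).simple_nonneg hpos' i hne
  have hl2 : cs.length (cs.simple i * w * cs.simple i) = cs.length w + 2 := by
    have h1 := (lt_iff' cs h (w * cs.simple i)⁻¹ i).2 hpos2
    have h2 := cs.length_mul_simple (w * cs.simple i)⁻¹ i
    have h3 : cs.simple i * w * cs.simple i = ((w * cs.simple i)⁻¹ * cs.simple i)⁻¹ := by
      rw [mul_inv_rev, inv_simple, inv_inv, mul_assoc]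
    rw [h3, cs.length_inv]
    rw [cs.length_inv] at h1 h2
    omega
  refine ⟨hl2, hl1, ?_, ?_⟩
  · intro k hk hcon
    by_cases hki : k = i
    · subst hki
      exact hk hiw
    · refine hk ?_
      have hsi : cs.simple i ∈ WJ cs {k}ᶜ := simple_mem_WJ cs (by simpa using Ne.symm hki)
      have h1 := mul_mem (mul_mem hsi hcon) hsi
      have h2 : cs.simple i * (cs.simple i * w * cs.simple i) * cs.simple i = w := by
        calc cs.simple i * (cs.simple i * w * cs.simple i) * cs.simple i
            = (cs.simple i * cs.simple i) * w * (cs.simple i * cs.simple i) := by group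
          _ = w := by rw [simple_mul_simple_self, one_mul, mul_one]
      rwa [h2] at h1
  · intro hcon
    have h1 := rep_apply_of_mem cs h (inv_mem hcon) (sr i) (k := i) (by simp)
    have e : (cs.simple i * w * cs.simple i)⁻¹ = (w * cs.simple i)⁻¹ * cs.simple i := by
      rw [mul_assoc, mul_inv_rev (cs.simple i), inv_simple]
    rw [sr_self, e, rep_mul_apply, rep_simple_sr, map_neg, Pi.neg_apply] at h1
    have h2 : 0 ≤ rep cs h (w * cs.simple i)⁻¹ (sr i) i := hpos2 i
    linarith

include h in
theorem exists_mem_supp [Finite W] {w : W} (hw : w ≠ 1) : ∃ j, j ∈ supp cs w := by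
  by_contra hcon
  push Not at hcon
  apply hw
  refine eq_one_of_nonneg cs h w fun i => ?_
  have hiw : w ∈ WJ cs {i}ᶜ := by
    by_contra h1
    exact hcon i h1
  refine nonneg_of_pos_apply ((isRoot_sr cs h i).act w) (k := i) ?_
  change 0 < rep cs h w (sr i) i
  rw [rep_apply_of_mem cs h hiw (sr i) (k := i) (by simp), sr_self]
  exact one_pos

end Cfsg.Agent.H162.GaussComb
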