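import Mathlib
import Cfsg.Agent.Nodes.OppDec
import Cfsg.Agent.OddHalf.NI.Mult.Torus
import Cfsg.Agent.H162.GaussComb

/-!
Gauss decomposition with prescribed torus part, up to conjugation (S2523).

* `exists_full` : every element outside the core of `B` has a conjugate in a Bruhat cell `B w B` with `w` of full
  support (irreducible diagram);
* `GA` : the torus parts `t` with `u k ∈ U⁻ t U` for some `u ∈ U`; `ga_word` ;
* `gauss` : every element outside the core of `B` has a conjugate in `U⁻ U`.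
-/

set_option autoImplicit false
set_option linter.unusedSectionVars false

namespace Cfsg.Agent.H162.GaussDec

open CoxeterSystem Cfsg.Agent.ChevalleyStructure.CoxeterGeom Cfsg.Agent.Tits.Roots Cfsg.Agent.Tits.Core
  Cfsg.Agent.Tits.RootComb Cfsg.Agent.Tits.Exchange Cfsg.Agent.Nodes.Comb Cfsg.Agent.Nodes.Reps
  Cfsg.Agent.Nodes.BNOf Cfsg.Agent.Nodes.StabComb
  Cfsg.Agent.Nodes.RGDLib Cfsg.Agent.Nodes.Bruhat Cfsg.Agent.Nodes.OppDec Cfsg.Agent.OddHalf.NI.Mult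
  Cfsg.Agent.H162.GaussComb
open scoped commutatorElement

variable {I W Y : Type*} [Fintype I] [DecidableEq I] [Group W] [Group Y] {M : CoxeterMatrix I}
  {cs : CoxeterSystem M W} {A : I → I → ℤ} {h : IsCartan M A} {p : ℕ} {T : Subgroup Y} {n : I → Y}
  {X : (I → ℤ) → Subgroup Y}

/-- the negative roots other than `-α_i` -/
def NegNe (cs : CoxeterSystem M W) (h : IsCartan M A) (i : I) : Set (I → ℤ) :=
  {x | IsRoot cs h x ∧ x ≤ 0 ∧ x ≠ -sr i}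

theorem NegNe.btwn {i : I} {x y z : I → ℤ} (hx : ∀ k, k ≠ i → x k = 0) (hy : y ∈ NegNe cs h i)
    (hz : Btwn cs h x y z) : z ∈ NegNe cs h i := by
  obtain ⟨hyr, hy0, hyi⟩ := hy
  obtain ⟨k, hk, hk0⟩ := Cfsg.Agent.Nodes.StabComb.exists_coeff (i := i) hyr.neg (neg_nonneg.2 hy0)
    (fun he => hyi (by rw [← he, neg_neg]))
  have h1 : 0 < (-z) k := by
    obtain ⟨hr, m, a, b, hm, ha, hb, e⟩ := hz
    have h2 := congrFun e k
    simp only [Pi.add_apply, Pi.smul_apply, smul_eq_mul, hx k hk, mul_zero, zero_add] at h2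
    rw [Pi.neg_apply] at hk0 ⊢
    have h3 : 0 < m * (-z k) := by
      rw [mul_neg, h2, ← mul_neg]
      exact mul_pos hb hk0
    exact pos_of_mul_pos_right h3 hm.le
  have h2 : 0 ≤ -z := nonneg_of_pos_apply hz.1.neg h1
  refine ⟨hz.1, neg_nonneg.1 h2, ?_⟩
  rintro rfl
  rw [neg_neg, sr_ne hk] at h1
  exact absurd h1 (lt_irrefl _)

section

variable (R : RGD cs h p T n X)

include R

theorem X_le_normalizer_NegNe {i : I} {x : I → ℤ} (hx : IsRoot cs h x) (hx0 : ∀ k, k ≠ i → x k = 0) :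
    X x ≤ Subgroup.normalizer (RGD.Sup X (NegNe cs h i) : Set Y) := by
  refine R.le_normalizer hx fun y hy => ⟨hy.1, Or.inr ⟨?_, fun z hz => NegNe.btwn hx0 hy hz⟩⟩
  intro he
  obtain ⟨k, hk, hk0⟩ := Cfsg.Agent.Nodes.StabComb.exists_coeff (i := i) hy.1.neg (neg_nonneg.2 hy.2.1)
    (fun he => hy.2.2 (by rw [← he, neg_neg]))
  rw [← he, hx0 k hk] at hk0
  exact absurd hk0 (lt_irrefl _)

theorem sr_apply_zero (i : I) : ∀ k, k ≠ i → (sr i : I → ℤ) k = 0 := fun _ hk => sr_ne hk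

theorem neg_sr_apply_zero (i : I) : ∀ k, k ≠ i → (-sr i : I → ℤ) k = 0 := fun _ hk => by
  rw [Pi.neg_apply, sr_ne hk, neg_zero]

/-- `U⁻ = X_{-i} R_i⁻` -/
theorem exists_UN (i : I) {v : Y} (hv : v ∈ UN cs h X) :
    ∃ y ∈ X (-sr i), ∃ v₁ ∈ RGD.Sup X (NegNe cs h i), v = y * v₁ := by
  have h1 : v ∈ ((X (-sr i) ⊔ RGD.Sup X (NegNe cs h i) : Subgroup Y) : Set Y) := by
    refine (?_ : UN cs h X ≤ _) hv
    refine RGD.Sup_le fun z hz => ?_
    by_cases hz0 : z = -sr i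
    · subst hz0; exact le_sup_left
    · exact le_trans (RGD.le_Sup (S := NegNe cs h i) ⟨hz.1, hz.2, hz0⟩) le_sup_right
  rw [Subgroup.coe_mul_of_left_le_normalizer_right _ _
    (X_le_normalizer_NegNe R (isRoot_sr cs h i).neg (neg_sr_apply_zero R i)), Set.mem_mul] at h1
  obtain ⟨y, hy, v₁, hv₁, e⟩ := h1
  exact ⟨y, hy, v₁, hv₁, e.symm⟩

theorem NegNe_le_UN (i : I) : RGD.Sup X (NegNe cs h i) ≤ UN cs h X :=
  RGD.Sup_mono fun _ hz => ⟨hz.1, hz.2.1⟩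

theorem T_normalizes_UN {t v : Y} (ht : t ∈ T) (hv : v ∈ UN cs h X) : t * v * t⁻¹ ∈ UN cs h X :=
  (Subgroup.mem_normalizer_iff.1 (R.T_le_normalizer (S := Neg cs h) (fun _ hx => hx.1) ht) v).1 hv

theorem T_normalizes_U {t v : Y} (ht : t ∈ T) (hv : v ∈ RGD.Sup X (RGD.Pos cs h)) :
    t * v * t⁻¹ ∈ RGD.Sup X (RGD.Pos cs h) :=
  (Subgroup.mem_normalizer_iff.1 (R.T_le_normalizer_U ht) v).1 hv

theorem T_normalizes_U' {t v : Y} (ht : t ∈ T) (hv : v ∈ RGD.Sup X (RGD.Pos cs h)) :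
    t⁻¹ * v * t ∈ RGD.Sup X (RGD.Pos cs h) := by
  have := T_normalizes_U R (inv_mem ht) hv
  rwa [inv_inv] at this

/-- the torus parts of `k` -/
def GA (_ : RGD cs h p T n X) (k t : Y) : Prop :=
  ∃ u ∈ RGD.Sup X (RGD.Pos cs h), ∃ v ∈ UN cs h X, ∃ u' ∈ RGD.Sup X (RGD.Pos cs h), u * k = v * t * u'

omit R in
/-- the rank one property of the element `m` over `s_i` -/
def R1 (T : Subgroup Y) (X : (I → ℤ) → Subgroup Y) (i : I) (m : Y) : Prop :=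
  ∀ y ∈ X (-sr i), ∀ t ∈ T ⊓ KK X (sr i), ∃ a ∈ X (sr i), ∃ y' ∈ X (-sr i), ∃ x ∈ X (sr i),
    a * m * y = y' * t * x

theorem ga_step {i : I} {m : Y} (hm : Rp cs R.nsys (cs.simple i) m) (hm1 : R1 T X i m) {w' : W} {k' : Y}
    (hk' : Rp cs R.nsys w' k') (hw' : 0 ≤ rep cs h w'⁻¹ (sr i)) {t t' : Y} (ht : t ∈ T ⊓ KK X (sr i))
    (ht' : t' ∈ T) (hga : GA R k' t') : GA R (m * k') (t * t') := by
  obtain ⟨u₀, hu₀, v₀, hv₀, u₀', hu₀', e₀⟩ := hga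
  -- `u₀ = r x`, `r ∈ R_i`, `x ∈ X_i`
  have h1 : u₀ ∈ ((RGD.Sup X (RGD.PosNe cs h i) ⊔ X (sr i) : Subgroup Y) : Set Y) := by
    rw [sup_comm, ← R.Upos_eq i]
    exact hu₀
  rw [Subgroup.coe_mul_of_right_le_normalizer_left _ _ (R.X_le_normalizer_V i), Set.mem_mul] at h1
  obtain ⟨r, hr, x, hx, hrx⟩ := h1
  have hx' : k'⁻¹ * x * k' ∈ RGD.Sup X (RGD.Pos cs h) :=
    RGD.le_Sup (S := RGD.Pos cs h) ⟨(isRoot_sr cs h i).act _, hw'⟩ (R.conj_mem' hk' (isRoot_sr cs h i) hx)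
  -- `r k' = v₀ t' u₁`
  obtain ⟨u₁, hu₁⟩ : ∃ u₁, u₁ = u₀' * (k'⁻¹ * x * k')⁻¹ := ⟨_, rfl⟩
  have hu₁U : u₁ ∈ RGD.Sup X (RGD.Pos cs h) := by
    rw [hu₁]; exact mul_mem hu₀' (inv_mem hx')
  have e₁ : r * k' = v₀ * t' * u₁ := by
    have : r * k' = (u₀ * k') * (k'⁻¹ * x * k')⁻¹ := by rw [← hrx]; group
    rw [this, e₀, hu₁]; group
  obtain ⟨y, hy, v₁, hv₁, hyv⟩ := exists_UN R i hv₀
  obtain ⟨a, ha, y', hy', x₂, hx₂, e₂⟩ := hm1 y hy t ht
  have htT : t ∈ T := (Subgroup.mem_inf.1 ht).1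
  -- `m r m⁻¹ ∈ R_i`
  have hmr : m * r * m⁻¹ ∈ RGD.Sup X (RGD.Pos cs h) := by
    refine conj_mem_Sup R hm (S := RGD.PosNe cs h i) (S' := RGD.Pos cs h) (fun z hz => hz.1) (fun z hz => ?_) hr
    exact ⟨hz.1.act _, hz.1.simple_nonneg hz.2.1 i hz.2.2⟩
  have haU : a ∈ RGD.Sup X (RGD.Pos cs h) := RGD.le_Sup (S := RGD.Pos cs h) ⟨isRoot_sr cs h i, sr_nonneg i⟩ ha
  have hx₂U : x₂ ∈ RGD.Sup X (RGD.Pos cs h) :=
    RGD.le_Sup (S := RGD.Pos cs h) ⟨isRoot_sr cs h i, sr_nonneg i⟩ hx₂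
  have hy'U : y' ∈ UN cs h X := X_le_UN (isRoot_sr cs h i).neg (neg_nonpos.2 (sr_nonneg i)) hy'
  have hv₂ : x₂ * v₁ * x₂⁻¹ ∈ UN cs h X := NegNe_le_UN R i
    ((Subgroup.mem_normalizer_iff.1 (X_le_normalizer_NegNe R (isRoot_sr cs h i) (sr_apply_zero R i) hx₂) v₁).1 hv₁)
  refine ⟨a * (m * r * m⁻¹), mul_mem haU hmr, y' * (t * (x₂ * v₁ * x₂⁻¹) * t⁻¹),
    mul_mem hy'U (T_normalizes_UN R htT hv₂), (t'⁻¹ * x₂ * t') * u₁,
    mul_mem (T_normalizes_U' R ht' hx₂U) hu₁U, ?_⟩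
  calc a * (m * r * m⁻¹) * (m * k') = a * m * (r * k') := by group
    _ = (a * m * y) * v₁ * t' * u₁ := by rw [e₁, hyv]; group
    _ = y' * (t * (x₂ * v₁ * x₂⁻¹) * t⁻¹) * (t * t') * (t'⁻¹ * x₂ * t' * u₁) := by rw [e₂]; group

theorem ga_one : GA R 1 1 := ⟨1, one_mem _, 1, one_mem _, 1, one_mem _, by group⟩

variable {m : I → Y}

omit R in
/-- the product of the `T ⊓ ⟨X_i, X_{-i}⟩`, `i` in the word -/
def QQ (T : Subgroup Y) (X : (I → ℤ) → Subgroup Y) : List I → Subgroup Y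
  | [] => ⊥
  | i :: ω => (T ⊓ KK X (sr i)) ⊔ QQ T X ω

omit R in
theorem QQ_le (ω : List I) : QQ T X ω ≤ T := by
  induction ω with
  | nil => exact bot_le
  | cons i ω ih => exact sup_le inf_le_left ih

omit R in
theorem le_QQ {ω : List I} {i : I} (hi : i ∈ ω) : T ⊓ KK X (sr i) ≤ QQ T X ω := by
  induction ω with
  | nil => simp at hi
  | cons j ω ih =>
    rcases List.mem_cons.1 hi with rfl | h1
    · exact le_sup_left
    · exact le_trans (ih h1) le_sup_right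

theorem ga_word (hmr : ∀ i, Rp cs R.nsys (cs.simple i) (m i)) (hm1 : ∀ i, R1 T X i (m i)) :
    ∀ ω : List I, cs.length (cs.wordProd ω) = ω.length → ∀ t ∈ QQ T X ω, GA R (PW m ω) t := by
  intro ω
  induction ω with
  | nil =>
    intro _ t ht
    have : t = 1 := ht
    subst this
    exact ga_one R
  | cons i ω ih =>
    intro hlen t ht
    rw [wordProd_cons, List.length_cons] at hlen
    have h1 : cs.length (cs.wordProd ω) = ω.length := by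
      have h2 := cs.length_wordProd_le ω
      have h3 := cs.length_simple_mul (cs.wordProd ω) i
      omega
    have hnorm : QQ T X ω ≤ Subgroup.normalizer ((T ⊓ KK X (sr i) : Subgroup Y) : Set Y) := by
      intro s hs
      have hsT := QQ_le ω hs
      rw [mem_normalizer_iff_cj]
      ext z
      rw [mem_cj, Subgroup.mem_inf, Subgroup.mem_inf, ← mem_cj, ← mem_cj, cj_eq_of_mem hsT,
        cj_KK_T R hsT (isRoot_sr cs h i)]
    have h2 : t ∈ (((T ⊓ KK X (sr i)) ⊔ QQ T X ω : Subgroup Y) : Set Y) := ht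
    rw [Subgroup.coe_mul_of_right_le_normalizer_left _ _ hnorm, Set.mem_mul] at h2
    obtain ⟨t₁, ht₁, t₂, ht₂, rfl⟩ := h2
    rw [PW_cons]
    refine ga_step R (hmr i) (hm1 i) (rp_PW' hmr ω) ?_ ht₁ (QQ_le ω ht₂) (ih h1 t₂ ht₂)
    refine (lt_iff' cs h (cs.wordProd ω)⁻¹ i).1 ?_
    have h3 : (cs.wordProd ω)⁻¹ * cs.simple i = (cs.simple i * cs.wordProd ω)⁻¹ := by
      rw [mul_inv_rev, inv_simple]
    rw [h3, cs.length_inv, cs.length_inv]
    omega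
where
  rp_PW' (hmr : ∀ i, Rp cs R.nsys (cs.simple i) (m i)) (ω : List I) :
      Rp cs R.nsys (cs.wordProd ω) (PW m ω) := by
    induction ω with
    | nil => rw [wordProd_nil]; exact rp_one
    | cons i ω ih => rw [wordProd_cons, PW_cons]; exact (hmr i).mul ih

end

/-! ### Full support -/

section

variable (R : RGD cs h p T n X)

include R

theorem exists_full_aux [Finite W]
    (hconn : ∀ J : Set I, J.Nonempty → J ≠ Set.univ → ∃ a ∈ J, ∃ b, b ∉ J ∧ M a b ≠ 2) (N : ℕ) :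
    ∀ (w : W) (g : Y), Cell R.nsys cs h X w g → (supp cs w).Nonempty → (supp cs w)ᶜ.ncard ≤ N →
      ∃ (x : Y) (w' : W), Cell R.nsys cs h X w' (x * g * x⁻¹) ∧ supp cs w' = Set.univ := by
  induction N with
  | zero =>
    intro w g hw hne hN
    refine ⟨1, w, by simpa using hw, ?_⟩
    have : (supp cs w)ᶜ = ∅ := (Set.ncard_eq_zero (Set.toFinite _)).1 (Nat.le_zero.1 hN)
    exact Set.compl_empty_iff.1 this
  | succ N ih =>
    intro w g hw hne hN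
    by_cases huniv : supp cs w = Set.univ
    · exact ⟨1, w, by simpa using hw, huniv⟩
    obtain ⟨a, ha, b, hb, hab⟩ := hconn _ hne huniv
    obtain ⟨h1, h2, h3, h4⟩ := step cs h hb ha (by rwa [M.symmetric])
    have hnb : Cell R.nsys cs h X (cs.simple b) (n b) := cell_of_rp (rp_simple cs R.nsys b)
    have hnb' : Cell R.nsys cs h X (cs.simple b) (n b)⁻¹ := by
      have := hnb.inv
      rwa [inv_simple] at this
    have c1 : Cell R.nsys cs h X (w * cs.simple b) (g * (n b)⁻¹) :=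
      Cell.mul_of_length R (by rw [h2, cs.length_simple]) hw hnb'
    have c2 : Cell R.nsys cs h X (cs.simple b * (w * cs.simple b)) (n b * (g * (n b)⁻¹)) :=
      Cell.mul_of_length R (by rw [← mul_assoc, h1, h2, cs.length_simple]; omega) hnb c1
    rw [← mul_assoc, ← mul_assoc] at c2
    obtain ⟨x, w', hx, hw'⟩ := ih _ _ c2 ⟨b, h4⟩ (by
      have hlt : (supp cs (cs.simple b * w * cs.simple b))ᶜ.ncard < (supp cs w)ᶜ.ncard := by
        refine Set.ncard_lt_ncard ⟨Set.compl_subset_compl.2 h3, ?_⟩ (Set.toFinite _)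
        intro hsub
        exact hsub hb h4
      omega)
    refine ⟨x * n b, w', ?_, hw'⟩
    have e : x * n b * g * (x * n b)⁻¹ = x * (n b * g * (n b)⁻¹) * x⁻¹ := by group
    rw [e]
    exact hx

/-- a conjugate in a cell of full support -/
theorem exists_full [Finite W] (hG : G1 cs h X = ⊤)
    (hconn : ∀ J : Set I, J.Nonempty → J ≠ Set.univ → ∃ a ∈ J, ∃ b, b ∉ J ∧ M a b ≠ 2) {g : Y}
    (hg : g ∉ (RGD.B cs h T X).normalCore) :
    ∃ (x : Y) (w : W), Cell R.nsys cs h X w (x * g * x⁻¹) ∧ supp cs w = Set.univ := by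
  obtain ⟨x, hx⟩ : ∃ x, x * g * x⁻¹ ∉ RGD.B cs h T X := by
    by_contra hcon
    push Not at hcon
    exact hg hcon
  have hGG : x * g * x⁻¹ ∈ GG cs h T X := by
    have : G1 cs h X ≤ GG cs h T X := le_sup_right
    rw [hG] at this
    exact this (Subgroup.mem_top _)
  obtain ⟨w, hw⟩ := (mem_GG R).1 hGG
  have hw1 : w ≠ 1 := by
    rintro rfl
    exact hx hw.mem_of_one
  obtain ⟨y, w', hy, hw'⟩ := exists_full_aux R hconn _ w _ hw (exists_mem_supp cs h hw1) le_rfl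
  refine ⟨y * x, w', ?_, hw'⟩
  have e : y * x * g * (y * x)⁻¹ = y * (x * g * x⁻¹) * y⁻¹ := by group
  rw [e]
  exact hy

/-- **Gauss decomposition up to conjugation, with trivial torus part.** -/
theorem gauss_aux [Finite W] (hG : G1 cs h X = ⊤)
    (hconn : ∀ J : Set I, J.Nonempty → J ≠ Set.univ → ∃ a ∈ J, ∃ b, b ∉ J ∧ M a b ≠ 2)
    {m : I → Y} (hmr : ∀ i, Rp cs R.nsys (cs.simple i) (m i)) (hm1 : ∀ i, R1 T X i (m i)) {g : Y}
    (hg : g ∉ (RGD.B cs h T X).normalCore) :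
    ∃ x : Y, ∃ v ∈ UN cs h X, ∃ u ∈ RGD.Sup X (RGD.Pos cs h), x * g * x⁻¹ = v * u := by
  obtain ⟨x, w, hw, hfull⟩ := exists_full R hG hconn hg
  obtain ⟨b₁, hb₁, k, hk, b₂, hb₂, e⟩ := hw
  obtain ⟨ω, hω, rfl⟩ := cs.exists_isReduced w
  have hω' : cs.length (cs.wordProd ω) = ω.length := hω
  have hmem : ∀ i, i ∈ ω := by
    intro i
    by_contra hi
    have h1 : i ∈ supp cs (cs.wordProd ω) := by rw [hfull]; trivial
    refine h1 (wordProd_mem_WJ cs fun j hj => ?_)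
    simp only [Set.mem_compl_iff, Set.mem_singleton_iff]
    rintro rfl
    exact hi hj
  have hQ : T ≤ QQ T X ω := by
    have h1 : T0 R ≤ QQ T X ω := iSup_le fun i => le_QQ (hmem i)
    rwa [iSup_eq R hG] at h1
  have hk0 : Rp cs R.nsys (cs.wordProd ω) (PW m ω) := ga_word.rp_PW' R hmr ω
  -- `b₁ = u₁ t₁`
  obtain ⟨t₁, ht₁, u₁, hu₁, e₁⟩ := R.mem_B.1 (inv_mem hb₁)
  obtain ⟨t₂, ht₂, u₂, hu₂, e₂⟩ := R.mem_B.1 hb₂
  have hb₁' : b₁ = u₁⁻¹ * t₁⁻¹ := by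
    rw [← inv_inv b₁, e₁]; group
  have ht₃ : (PW m ω)⁻¹ * k ∈ T := hk0.unique hk
  have ht₄ : (PW m ω)⁻¹ * t₁⁻¹ * PW m ω ∈ T := by
    have h1 := (mem_normalizer_iff_cj.1 hk0.inv.mem_normalizer)
    have h2 : (PW m ω)⁻¹ * t₁⁻¹ * (PW m ω)⁻¹⁻¹ ∈ cj (PW m ω)⁻¹ T := conj_mem_cj.2 (inv_mem ht₁)
    rwa [h1, inv_inv] at h2
  obtain ⟨t, ht⟩ : ∃ t, t = ((PW m ω)⁻¹ * t₁⁻¹ * PW m ω) * ((PW m ω)⁻¹ * k) * t₂ := ⟨_, rfl⟩
  have htT : t ∈ T := by rw [ht]; exact mul_mem (mul_mem ht₄ ht₃) ht₂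
  have e' : x * g * x⁻¹ = u₁⁻¹ * PW m ω * t * u₂ := by
    rw [e, hb₁', e₂, ht]; group
  obtain ⟨u, hu, v, hv, u', hu', e3⟩ := ga_word R hmr hm1 ω hω' t⁻¹ (hQ (inv_mem htT))
  refine ⟨u * u₁ * x, v, hv, (t⁻¹ * u' * t) * u₂ * u₁⁻¹ * u⁻¹, ?_, ?_⟩
  · exact mul_mem (mul_mem (mul_mem (T_normalizes_U' R htT hu') hu₂) (inv_mem hu₁)) (inv_mem hu)
  · calc u * u₁ * x * g * (u * u₁ * x)⁻¹ = u * u₁ * (x * g * x⁻¹) * u₁⁻¹ * u⁻¹ := by group
      _ = (u * PW m ω) * t * u₂ * u₁⁻¹ * u⁻¹ := by rw [e']; group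
      _ = v * (t⁻¹ * u' * t * u₂ * u₁⁻¹ * u⁻¹) := by rw [e3]; group

end

/-! ### Coordinates -/

section

variable {F : I → Type*} [∀ i, Field (F i)] {s : ∀ i, Matrix.SpecialLinearGroup (Fin 2) (F i) →* Y}

theorem sl_rank1 {K : Type*} [Field K] (c : K) (t : Kˣ) :
    OddHalf.NI.Mult.up (c - (t : K)) * OddHalf.NI.Mult.nn 1 * OddHalf.NI.Mult.lo c =
      OddHalf.NI.Mult.lo (-((t⁻¹ : Kˣ) : K)) * dg t * OddHalf.NI.Mult.up ((t⁻¹ : Kˣ) : K) := by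
  apply Subtype.ext
  simp only [Matrix.SpecialLinearGroup.coe_mul, coe_up, coe_nn, coe_lo, coe_dg, Matrix.mul_fin_two]
  have ht : (t : K) ≠ 0 := t.ne_zero
  ext i j
  fin_cases i <;> fin_cases j <;> simp

theorem coord_R1 [Finite W] (R : RGD cs h p T n X) (C : Coord X F s) (i : I) : R1 T X i (s i (OddHalf.NI.Mult.nn 1)) := by
  intro y hy t ht
  obtain ⟨c, rfl⟩ := C.exists_lo hy
  rw [T_inf_KK R C i] at ht
  obtain ⟨d, rfl⟩ := ht
  refine ⟨_, C.mem_up i (c - (d : F i)), _, C.mem_lo i (-((d⁻¹ : (F i)ˣ) : F i)), _,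
    C.mem_up i ((d⁻¹ : (F i)ˣ) : F i), ?_⟩
  simp only [MonoidHom.comp_apply, dgHom_apply]
  rw [← map_mul, ← map_mul, ← map_mul, ← map_mul, sl_rank1]

/-- **Gauss decomposition up to conjugation, with trivial torus part.** -/
theorem gauss [Finite W] (R : RGD cs h p T n X) (hG : G1 cs h X = ⊤) (C : Coord X F s)
    (hconn : ∀ J : Set I, J.Nonempty → J ≠ Set.univ → ∃ a ∈ J, ∃ b, b ∉ J ∧ M a b ≠ 2) {g : Y}
    (hg : g ∉ (RGD.B cs h T X).normalCore) :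
    ∃ x : Y, ∃ v ∈ UN cs h X, ∃ u ∈ RGD.Sup X (RGD.Pos cs h), x * g * x⁻¹ = v * u :=
  gauss_aux R hG hconn (m := fun i => s i (OddHalf.NI.Mult.nn 1)) (fun i => rp_nn R C i 1) (fun i => coord_R1 R C i) hg

end

end Cfsg.Agent.H162.GaussDec
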