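import Mathlib
import Cfsg.Agent.Nodes.LeviDec
import Cfsg.Agent.Nodes.NormalForm
import Cfsg.Agent.H162.GaussDec

/-!
From products of two conjugates in a Levi subgroup to the whole group (S2523).

* `fix_VJ`, `fix_VNJ` : an element of `T` without fixed points on the root groups outside `J` has no fixed points on
  the unipotent radicals;
* `levi` : if the elements of `U_J⁻ U_J` are products of two conjugates of `c₀` lying in `L_J` and without fixed points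
  on the unipotent radicals, then every element outside the core of `B` is a product of two conjugates of `c₀`.
-/

set_option autoImplicit false
set_option linter.unusedSectionVars false

namespace Cfsg.Agent.H162.GaussLevi

open CoxeterSystem Cfsg.Agent.ChevalleyStructure.CoxeterGeom Cfsg.Agent.Tits.Roots Cfsg.Agent.Tits.Core
  Cfsg.Agent.Tits.Exchange Cfsg.Agent.Nodes.Reps
  Cfsg.Agent.Nodes.BNOf Cfsg.Agent.Nodes.StabComb
  Cfsg.Agent.Nodes.RGDLib Cfsg.Agent.Nodes.Bruhat Cfsg.Agent.Nodes.OppDec Cfsg.Agent.Nodes.LeviDec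
  Cfsg.Agent.Nodes.NormalForm Cfsg.Agent.OddHalf.NI.Mult
  Cfsg.Agent.H162.GaussDec
open scoped commutatorElement

variable {I W Y : Type*} [Fintype I] [DecidableEq I] [Group W] [Group Y] {M : CoxeterMatrix I}
  {cs : CoxeterSystem M W} {A : I → I → ℤ} {h : IsCartan M A} {p : ℕ} {T : Subgroup Y} {n : I → Y}
  {X : (I → ℤ) → Subgroup Y}

/-- the opposite unipotent group of the Levi subgroup of `J` -/
def UNJ (cs : CoxeterSystem M W) (h : IsCartan M A) (X : (I → ℤ) → Subgroup Y) (J : Set I) : Subgroup Y :=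
  RGD.Sup X {x | -x ∈ PosJ cs h J}

/-- `s` has no fixed points on the root groups outside `J` -/
def NoFix (cs : CoxeterSystem M W) (h : IsCartan M A) (X : (I → ℤ) → Subgroup Y) (J : Set I) (s : Y) : Prop :=
  ∀ r, IsRoot cs h r → (∃ k, k ∉ J ∧ r k ≠ 0) → ∀ a ∈ X r, s * a * s⁻¹ = a → a = 1

section

variable (R : RGD cs h p T n X)

include R

theorem fix_VJ [Finite W] {J : Set I} {s : Y} (hs : s ∈ T) (hf : NoFix cs h X J s) {x : Y}
    (hx : x ∈ VJ cs h X J) (hsx : s * x * s⁻¹ = x) : x = 1 := by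
  have h1 : x ∈ RGD.Sup X (RGD.Pos cs h) ⊓ Subgroup.centralizer {s} := by
    refine Subgroup.mem_inf.2 ⟨VJ_le_U J hx, Subgroup.mem_centralizer_singleton_iff.2 ?_⟩
    rw [mul_inv_eq_iff_eq_mul] at hsx
    exact hsx.symm
  rw [centralizer_U R (Set.singleton_subset_iff.2 hs)] at h1
  have h2 : RGD.Sup (fun x => X x ⊓ Subgroup.centralizer {s}) (RGD.Pos cs h) ≤ UJ cs h X J := by
    refine RGD.Sup_le fun z hz => ?_
    rcases mem_PosJ_or_NotJ J hz.1 hz.2 with h3 | h3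
    · exact le_trans inf_le_left (RGD.le_Sup h3)
    · intro a ha
      obtain ⟨-, -, k, hk, hk0⟩ := h3
      have h4 : a = 1 := by
        refine hf z hz.1 ⟨k, hk, hk0.ne'⟩ a (Subgroup.mem_inf.1 ha).1 ?_
        have h5 := Subgroup.mem_centralizer_singleton_iff.1 (Subgroup.mem_inf.1 ha).2
        rw [mul_inv_eq_iff_eq_mul]
        exact h5.symm
      rw [h4]
      exact one_mem _
  have h3 : x ∈ UJ cs h X J ⊓ VJ cs h X J := ⟨h2 h1, hx⟩
  rw [UJ_inf_VJ R J] at h3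
  exact h3

theorem fix_VNJ [Finite W] {J : Set I} {s : Y} (hs : s ∈ T) (hf : NoFix cs h X J s) {x : Y}
    (hx : x ∈ VNJ cs h X J) (hsx : s * x * s⁻¹ = x) : x = 1 := by
  obtain ⟨k, hk⟩ := exists_rp cs R.nsys (w0 cs)
  have hsT : k⁻¹ * s * k ∈ T := by
    have h2 : k⁻¹ * s * k⁻¹⁻¹ ∈ cj k⁻¹ T := conj_mem_cj.2 hs
    rwa [cj_T R hk.inv, inv_inv] at h2
  have h1 : k⁻¹ * x * k ∈ RGD.Sup X (RGD.Pos cs h) ⊓ Subgroup.centralizer {k⁻¹ * s * k} := by
    refine Subgroup.mem_inf.2 ⟨?_, Subgroup.mem_centralizer_singleton_iff.2 ?_⟩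
    · have h2 := VNJ_le_UN J hx
      rw [← cj_U R hk] at h2
      exact mem_cj.1 h2
    · have : s * x = x * s := by
        rw [mul_inv_eq_iff_eq_mul] at hsx
        exact hsx
      calc k⁻¹ * x * k * (k⁻¹ * s * k) = k⁻¹ * (x * s) * k := by group
        _ = (k⁻¹ * s * k) * (k⁻¹ * x * k) := by rw [← this]; group
  rw [centralizer_U R (Set.singleton_subset_iff.2 hsT)] at h1
  have h2 : RGD.Sup (fun x => X x ⊓ Subgroup.centralizer {k⁻¹ * s * k}) (RGD.Pos cs h) ≤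
      cj k⁻¹ (LJ cs h T X J) := by
    refine RGD.Sup_le fun z hz => ?_
    have hr : IsRoot cs h (rep cs h (w0 cs) z) := hz.1.act _
    by_cases h3 : ∃ l, l ∉ J ∧ rep cs h (w0 cs) z l ≠ 0
    · intro a ha
      have h4 : k * a * k⁻¹ = 1 := by
        refine hf _ hr h3 _ (R.conj_mem hk hz.1 (Subgroup.mem_inf.1 ha).1) ?_
        have h5 := Subgroup.mem_centralizer_singleton_iff.1 (Subgroup.mem_inf.1 ha).2
        calc s * (k * a * k⁻¹) * s⁻¹ = k * ((k⁻¹ * s * k) * a) * (k⁻¹ * s * k)⁻¹ * k⁻¹ := by group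
          _ = k * a * k⁻¹ := by rw [← h5]; group
      have h5 : a = k⁻¹ * (k * a * k⁻¹) * k := by group
      rw [h5, h4, mul_one, inv_mul_cancel]
      exact one_mem _
    · push Not at h3
      intro a ha
      rw [mem_cj, inv_inv]
      exact X_le_LJ ⟨hr, h3⟩ (R.conj_mem hk hz.1 (Subgroup.mem_inf.1 ha).1)
  have h3 := h2 h1
  rw [mem_cj, inv_inv] at h3
  have e : k * (k⁻¹ * x * k) * k⁻¹ = x := by group
  rw [e] at h3
  have h4 : x ∈ LJ cs h T X J ⊓ VNJ cs h X J := ⟨h3, hx⟩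
  rw [LJ_inf_VNJ R J] at h4
  exact h4

/-- an element normalising a finite group `V` without fixed points: `V c` consists of conjugates of `c` -/
theorem exists_conj_of_fix {V : Subgroup Y} [Finite V] {c : Y} (hc : c ∈ Subgroup.normalizer (V : Set Y))
    (hf : ∀ x ∈ V, c * x * c⁻¹ = x → x = 1) {v : Y} (hv : v ∈ V) : ∃ x ∈ V, v * c = x * c * x⁻¹ := by
  let f : V → V := fun x => ⟨(x : Y) * (c * (x : Y)⁻¹ * c⁻¹),
    mul_mem x.2 ((Subgroup.mem_normalizer_iff.1 hc _).1 (inv_mem x.2))⟩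
  have hinj : Function.Injective f := by
    intro x y hxy
    have h1 : (x : Y) * (c * (x : Y)⁻¹ * c⁻¹) = (y : Y) * (c * (y : Y)⁻¹ * c⁻¹) := congrArg Subtype.val hxy
    have h2 : ((y : Y)⁻¹ * x) = 1 := by
      refine hf _ (mul_mem (inv_mem y.2) x.2) ?_
      calc c * ((y : Y)⁻¹ * x) * c⁻¹ = (y : Y)⁻¹ * ((y : Y) * (c * (y : Y)⁻¹ * c⁻¹)) * (c * x * c⁻¹) := by group
        _ = (y : Y)⁻¹ * x := by rw [← h1]; group
    exact Subtype.ext (inv_mul_eq_one.1 h2).symm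
  obtain ⟨x, hx⟩ := (Finite.injective_iff_surjective.1 hinj) ⟨v, hv⟩
  refine ⟨x, x.2, ?_⟩
  have h1 : (x : Y) * (c * (x : Y)⁻¹ * c⁻¹) = v := congrArg Subtype.val hx
  rw [← h1]; group

/-- `U⁻ = V_J⁻ U_J⁻` -/
theorem exists_UNJ {J : Set I} {g : Y} (hg : g ∈ UN cs h X) :
    ∃ v ∈ VNJ cs h X J, ∃ u ∈ UNJ cs h X J, g = v * u := by
  have h2 : UN cs h X ≤ VNJ cs h X J ⊔ UNJ cs h X J := by
    refine RGD.Sup_le fun x hx => ?_
    rcases mem_PosJ_or_NotJ J hx.1.neg (neg_nonneg.2 hx.2) with h1 | h1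
    · exact le_trans (RGD.le_Sup (S := {x | -x ∈ PosJ cs h J}) h1) le_sup_right
    · exact le_trans (RGD.le_Sup (S := NotNJ cs h J) h1) le_sup_left
  have h3 : UNJ cs h X J ≤ LJ cs h T X J := RGD.Sup_le fun z hz => by
    have := X_le_LJ (T := T) (X := X) (RootsJ.neg (PosJ_subset J hz))
    rwa [neg_neg] at this
  have h1 : g ∈ ((VNJ cs h X J ⊔ UNJ cs h X J : Subgroup Y) : Set Y) := h2 hg
  rw [Subgroup.coe_mul_of_right_le_normalizer_left _ _ (le_trans h3 (LJ_le_normalizer_VNJ R J)),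
    Set.mem_mul] at h1
  obtain ⟨v, hv, u, hu, e⟩ := h1
  exact ⟨v, hv, u, hu, e.symm⟩

omit R in
/-- the elements of `L_J` conjugate to `c₀` without fixed points on the unipotent radicals -/
structure Good (cs : CoxeterSystem M W) (h : IsCartan M A) (T : Subgroup Y) (X : (I → ℤ) → Subgroup Y) (J : Set I)
    (c₀ c : Y) : Prop where
  mem : c ∈ LJ cs h T X J
  conj : ∃ y, c = y * c₀ * y⁻¹
  fix : ∀ x ∈ VJ cs h X J, c * x * c⁻¹ = x → x = 1
  fixN : ∀ x ∈ VNJ cs h X J, c * x * c⁻¹ = x → x = 1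

/-- **From the Levi subgroup to the group.** -/
theorem levi_aux [Finite W] [Finite Y] {J : Set I} {c₀ : Y}
    (hb : ∀ v ∈ UNJ cs h X J, ∀ u ∈ UJ cs h X J, ∃ c₁ c₂, v * u = c₁ * c₂ ∧ Good cs h T X J c₀ c₁ ∧
      Good cs h T X J c₀ c₂) {g : Y}
    (hg : ∃ x : Y, ∃ v ∈ UN cs h X, ∃ u ∈ RGD.Sup X (RGD.Pos cs h), x * g * x⁻¹ = v * u) :
    ∃ x y : Y, g = (x * c₀ * x⁻¹) * (y * c₀ * y⁻¹) := by
  obtain ⟨x, v, hv, u, hu, e⟩ := hg
  obtain ⟨vP, hvP, vL, hvL, rfl⟩ := exists_UNJ R (J := J) hv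
  obtain ⟨uL, huL, uP, huP, rfl⟩ := (mem_U_iff R (J := J)).1 hu
  obtain ⟨c₁, c₂, hc, h1, h2⟩ := hb vL hvL uL huL
  obtain ⟨a, ha, e1⟩ := exists_conj_of_fix R (LJ_le_normalizer_VNJ R J h1.mem) h1.fixN hvP
  have huP' : c₂ * uP * c₂⁻¹ ∈ VJ cs h X J :=
    (Subgroup.mem_normalizer_iff.1 (LJ_le_normalizer_VJ R J h2.mem) uP).1 huP
  obtain ⟨b, hb, e2⟩ := exists_conj_of_fix R (LJ_le_normalizer_VJ R J h2.mem) h2.fix huP'
  obtain ⟨y₁, hy₁⟩ := h1.conj
  obtain ⟨y₂, hy₂⟩ := h2.conj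
  have e3 : x * g * x⁻¹ = (a * c₁ * a⁻¹) * (b * c₂ * b⁻¹) := by
    rw [e, ← e1, ← e2]
    calc vP * vL * (uL * uP) = vP * (vL * uL) * uP := by group
      _ = vP * c₁ * (c₂ * uP * c₂⁻¹ * c₂) := by rw [hc]; group
  refine ⟨x⁻¹ * a * y₁, x⁻¹ * b * y₂, ?_⟩
  calc g = x⁻¹ * (x * g * x⁻¹) * x := by group
    _ = x⁻¹ * a * y₁ * c₀ * (x⁻¹ * a * y₁)⁻¹ * (x⁻¹ * b * y₂ * c₀ * (x⁻¹ * b * y₂)⁻¹) := by
      rw [e3, hy₁, hy₂]; group

end

end Cfsg.Agent.H162.GaussLevi
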