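import Mathlib
import Cfsg.Agent.H162.GaussLevi
import Cfsg.Agent.H162.GaussSL

/-!
The main theorem on products of two conjugates in a group with a root group datum (S2523).

* `Blk cs h T X J K n s₀ φ` : `φ : SL_{n+2}(K) →* Y` with image in the Levi subgroup `L_J`, mapping the unitriangular
  matrices onto `U_J`, `U_J⁻`; `s₀ ∈ T` centralises the image, has no fixed points on the root groups outside `J`;
  all `GL`-conjugations are induced by elements centralising `s₀`, and `s₀ φ(J)` is conjugate to `s₀⁻¹ φ(J)`;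
* `main` : every element outside the core of `B`, and `1`, is a product of two conjugates of `s₀ φ(J)`;
* `main0` : the case `J = ∅`;
* `square` : passage to a simple quotient with central kernel.
-/

set_option autoImplicit false
set_option linter.unusedSectionVars false

namespace Cfsg.Agent.H162.GaussMain

open CoxeterSystem Cfsg.Agent.ChevalleyStructure.CoxeterGeom Cfsg.Agent.Tits.Roots Cfsg.Agent.Tits.Core
  Cfsg.Agent.Nodes.Reps
  Cfsg.Agent.Nodes.BNOf Cfsg.Agent.Nodes.StabComb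
  Cfsg.Agent.Nodes.RGDLib Cfsg.Agent.Nodes.Bruhat Cfsg.Agent.Nodes.OppDec Cfsg.Agent.Nodes.LeviDec
  Cfsg.Agent.OddHalf.NI.Mult
  Cfsg.Agent.H162.GaussDec Cfsg.Agent.H162.GaussLevi Cfsg.Agent.H162.GaussSL

variable {I W Y : Type*} [Fintype I] [DecidableEq I] [Group W] [Group Y] {M : CoxeterMatrix I}
  {cs : CoxeterSystem M W} {A : I → I → ℤ} {h : IsCartan M A} {p : ℕ} {T : Subgroup Y} {n : I → Y}
  {X : (I → ℤ) → Subgroup Y}

theorem NoFix.inv {J : Set I} {s : Y} (hf : NoFix cs h X J s) : NoFix cs h X J s⁻¹ := by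
  intro r hr hk a ha hsa
  refine hf r hr hk a ha ?_
  rw [inv_inv] at hsa
  calc s * a * s⁻¹ = s * (s⁻¹ * a * s) * s⁻¹ := by rw [hsa]
    _ = a := by group

section

variable (R : RGD cs h p T n X)

include R

/-- a power of `s u` is `s` -/
theorem exists_pow_eq {s u : Y} (hs : s ∈ T) (hsu : s * u = u * s) {N : ℕ} (hu : u ^ p ^ N = 1) :
    ∃ k : ℕ, (s * u) ^ k = s := by
  obtain ⟨k, hk1, hk2⟩ := Nat.chineseRemainder (n := Nat.card T) (m := p ^ N)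
    (Nat.Coprime.pow_right N R.tcop) 1 0
  refine ⟨k, ?_⟩
  have hc : Commute s u := hsu
  rw [hc.mul_pow]
  have h1 : s ^ Nat.card T = 1 := by
    have h3 : (⟨s, hs⟩ : T) ^ Nat.card T = 1 := pow_card_eq_one'
    have := congrArg Subtype.val h3
    rwa [SubgroupClass.coe_pow] at this
  have h2 : s ^ k = s := by
    have h3 : s ^ k = s ^ 1 := by
      rw [pow_eq_pow_iff_modEq]
      exact hk1.of_dvd (orderOf_dvd_of_pow_eq_one h1)
    rw [h3, pow_one]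
  have h3 : u ^ k = 1 := by
    have h4 : p ^ N ∣ k := (Nat.modEq_zero_iff_dvd).1 hk2
    obtain ⟨l, rfl⟩ := h4
    rw [pow_mul, hu, one_pow]
  rw [h2, h3, mul_one]

omit R in
theorem conj_pow_fix {c x : Y} (hcx : c * x * c⁻¹ = x) (k : ℕ) : c ^ k * x * (c ^ k)⁻¹ = x := by
  have h1 : Commute c x := by
    rw [mul_inv_eq_iff_eq_mul] at hcx
    exact hcx
  have h2 := h1.pow_left k
  rw [mul_inv_eq_iff_eq_mul]
  exact h2

theorem fixc_VJ [Finite W] {J : Set I} {s u : Y} (hs : s ∈ T) (hf : NoFix cs h X J s) (hsu : s * u = u * s)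
    {N : ℕ} (hu : u ^ p ^ N = 1) : ∀ x ∈ VJ cs h X J, (s * u) * x * (s * u)⁻¹ = x → x = 1 := by
  intro x hx hcx
  obtain ⟨k, hk⟩ := exists_pow_eq R hs hsu hu
  have h1 := conj_pow_fix hcx k
  rw [hk] at h1
  exact fix_VJ R hs hf hx h1

theorem fixc_VNJ [Finite W] {J : Set I} {s u : Y} (hs : s ∈ T) (hf : NoFix cs h X J s) (hsu : s * u = u * s)
    {N : ℕ} (hu : u ^ p ^ N = 1) : ∀ x ∈ VNJ cs h X J, (s * u) * x * (s * u)⁻¹ = x → x = 1 := by
  intro x hx hcx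
  obtain ⟨k, hk⟩ := exists_pow_eq R hs hsu hu
  have h1 := conj_pow_fix hcx k
  rw [hk] at h1
  exact fix_VNJ R hs hf hx h1

end

/-- the data of a block of type `A_{n+1}` with a semisimple element -/
structure Blk (cs : CoxeterSystem M W) (h : IsCartan M A) (T : Subgroup Y) (X : (I → ℤ) → Subgroup Y) (J : Set I)
    (K : Type*) [Field K] (n : ℕ) (s₀ : Y) (φ : Matrix.SpecialLinearGroup (Fin (n + 2)) K →* Y) : Prop where
  mem : s₀ ∈ T
  fix : NoFix cs h X J s₀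
  comm : ∀ A, s₀ * φ A = φ A * s₀
  range : ∀ A, φ A ∈ LJ cs h T X J
  up : ∀ r ∈ PosJ cs h J, X r ≤ (UT (n + 2) K).map φ
  lo : ∀ r ∈ PosJ cs h J, X (-r) ≤ (LT (n + 2) K).map φ
  gl : ∀ g : GL (Fin (n + 2)) K, ∃ y : Y, y * s₀ * y⁻¹ = s₀ ∧ ∀ A, y * φ A * y⁻¹ = φ (gc g A)
  inv : ∃ y : Y, y * s₀ * y⁻¹ = s₀⁻¹ ∧ ∃ g : GL (Fin (n + 2)) K, y * φ (JS (n + 2) K) * y⁻¹ = φ (gc g (JS (n + 2) K))

section

variable {F : I → Type*} [∀ i, Field (F i)] {s : ∀ i, Matrix.SpecialLinearGroup (Fin 2) (F i) →* Y}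

/-- the main theorem from the Levi subgroup -/
theorem levi [Finite W] [Finite Y] (R : RGD cs h p T n X) (hG : G1 cs h X = ⊤) (C : Coord X F s)
    (hconn : ∀ J : Set I, J.Nonempty → J ≠ Set.univ → ∃ a ∈ J, ∃ b, b ∉ J ∧ M a b ≠ 2)
    {J : Set I} {c₀ : Y}
    (hb : ∀ v ∈ UNJ cs h X J, ∀ u ∈ UJ cs h X J, ∃ c₁ c₂, v * u = c₁ * c₂ ∧ Good cs h T X J c₀ c₁ ∧
      Good cs h T X J c₀ c₂) {g : Y} (hg : g ∉ (RGD.B cs h T X).normalCore ∨ g = 1) :
    ∃ x y : Y, g = (x * c₀ * x⁻¹) * (y * c₀ * y⁻¹) := by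
  refine levi_aux R hb ?_
  rcases hg with hg | rfl
  · exact gauss R hG C hconn hg
  · exact ⟨1, 1, one_mem _, 1, one_mem _, by group⟩

/-- **Main theorem.** -/
theorem main [Finite W] [Finite Y] [Fact p.Prime] (R : RGD cs h p T n X) (hG : G1 cs h X = ⊤) (C : Coord X F s)
    (hconn : ∀ J : Set I, J.Nonempty → J ≠ Set.univ → ∃ a ∈ J, ∃ b, b ∉ J ∧ M a b ≠ 2)
    {K : Type*} [Field K] [CharP K p] (hK : (4 : Cardinal) ≤ Cardinal.mk K) {k : ℕ} {J : Set I} {s₀ : Y}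
    {φ : Matrix.SpecialLinearGroup (Fin (k + 2)) K →* Y} (D : Blk cs h T X J K k s₀ φ)
    {g : Y} (hg : g ∉ (RGD.B cs h T X).normalCore ∨ g = 1) :
    ∃ x y : Y, g = (x * (s₀ * φ (JS (k + 2) K)) * x⁻¹) * (y * (s₀ * φ (JS (k + 2) K)) * y⁻¹) := by
  obtain ⟨N, hN⟩ := exists_pow (n := k + 2) (K := K) p
  have hpow : ∀ x : GL (Fin (k + 2)) K, (φ (gc x (JS (k + 2) K))) ^ p ^ N = 1 := by
    intro x
    rw [← map_pow, ← gc_pow, hN]
    have : gc x (1 : Matrix.SpecialLinearGroup (Fin (k + 2)) K) = 1 := by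
      have := gc_pow x (1 : Matrix.SpecialLinearGroup (Fin (k + 2)) K) 0
      rwa [pow_zero, pow_zero] at this
    rw [this, map_one]
  have hcomm' : ∀ A, s₀⁻¹ * φ A = φ A * s₀⁻¹ := by
    intro A
    have h1 := D.comm A
    calc s₀⁻¹ * φ A = s₀⁻¹ * (φ A * s₀) * s₀⁻¹ := by group
      _ = φ A * s₀⁻¹ := by rw [← h1]; group
  -- the first class
  have g1 : ∀ x, Good cs h T X J (s₀ * φ (JS (k + 2) K)) (s₀ * φ (gc x (JS (k + 2) K))) := by
    intro x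
    refine ⟨mul_mem (T_le_LJ D.mem) (D.range _), ?_, fixc_VJ R D.mem D.fix (D.comm _) (hpow x),
      fixc_VNJ R D.mem D.fix (D.comm _) (hpow x)⟩
    obtain ⟨y, hy1, hy2⟩ := D.gl x
    refine ⟨y, ?_⟩
    rw [← hy2]
    calc s₀ * (y * φ (JS (k + 2) K) * y⁻¹) = (y * s₀ * y⁻¹) * (y * φ (JS (k + 2) K) * y⁻¹) := by rw [hy1]
      _ = y * (s₀ * φ (JS (k + 2) K)) * y⁻¹ := by group
  -- the second class
  have g2 : ∀ x, Good cs h T X J (s₀ * φ (JS (k + 2) K)) (s₀⁻¹ * φ (gc x (JS (k + 2) K))) := by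
    intro x
    refine ⟨mul_mem (inv_mem (T_le_LJ D.mem)) (D.range _), ?_,
      fixc_VJ R (inv_mem D.mem) (NoFix.inv D.fix) (hcomm' _) (hpow x),
      fixc_VNJ R (inv_mem D.mem) (NoFix.inv D.fix) (hcomm' _) (hpow x)⟩
    obtain ⟨y₀, hy0, g₀, hg0⟩ := D.inv
    obtain ⟨y, hy1, hy2⟩ := D.gl (x * g₀⁻¹)
    have hy1' : y * s₀⁻¹ * y⁻¹ = s₀⁻¹ := by
      calc y * s₀⁻¹ * y⁻¹ = (y * s₀ * y⁻¹)⁻¹ := by group
        _ = s₀⁻¹ := by rw [hy1]
    refine ⟨y * y₀, ?_⟩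
    have e1 : gc x (JS (k + 2) K) = gc (x * g₀⁻¹) (gc g₀ (JS (k + 2) K)) := by
      rw [gc_gc, inv_mul_cancel_right]
    rw [e1, ← hy2, ← hg0]
    calc s₀⁻¹ * (y * (y₀ * φ (JS (k + 2) K) * y₀⁻¹) * y⁻¹)
        = (y * s₀⁻¹ * y⁻¹) * (y * (y₀ * φ (JS (k + 2) K) * y₀⁻¹) * y⁻¹) := by rw [hy1']
      _ = (y * (y₀ * s₀ * y₀⁻¹) * y⁻¹) * (y * (y₀ * φ (JS (k + 2) K) * y₀⁻¹) * y⁻¹) := by rw [hy0]
      _ = y * y₀ * (s₀ * φ (JS (k + 2) K)) * (y * y₀)⁻¹ := by group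
  have hU : UJ cs h X J ≤ (UT (k + 2) K).map φ := RGD.Sup_le fun r hr => D.up r hr
  have hUN : UNJ cs h X J ≤ (LT (k + 2) K).map φ := RGD.Sup_le fun r hr => by
    have := D.lo (-r) hr
    rwa [neg_neg] at this
  refine levi R hG C hconn (J := J) ?_ hg
  intro v hv u hu
  obtain ⟨L, hL, rfl⟩ := hUN hv
  obtain ⟨U, hU', rfl⟩ := hU hu
  obtain ⟨x, y, hxy⟩ := exists_prod hK hL hU'
  refine ⟨_, _, ?_, g1 x, g2 y⟩
  rw [← map_mul, hxy, map_mul]
  have h1 := D.comm (gc x (JS (k + 2) K))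
  rw [h1]; group

/-- **Main theorem**, `J = ∅`. -/
theorem main0 [Finite W] [Finite Y] (R : RGD cs h p T n X) (hG : G1 cs h X = ⊤) (C : Coord X F s)
    (hconn : ∀ J : Set I, J.Nonempty → J ≠ Set.univ → ∃ a ∈ J, ∃ b, b ∉ J ∧ M a b ≠ 2)
    {s₀ : Y} (hs : s₀ ∈ T) (hf : NoFix cs h X ∅ s₀) (hinv : ∃ y : Y, y * s₀ * y⁻¹ = s₀⁻¹)
    {g : Y} (hg : g ∉ (RGD.B cs h T X).normalCore ∨ g = 1) :
    ∃ x y : Y, g = (x * s₀ * x⁻¹) * (y * s₀ * y⁻¹) := by
  refine levi R hG C hconn (J := ∅) ?_ hg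
  have hP : ∀ x, x ∉ PosJ cs h ∅ := by
    rintro x ⟨hx, -, h0⟩
    exact hx.ne_zero (funext fun k => h0 k (Set.notMem_empty k))
  intro v hv u hu
  have hv1 : v = 1 := by
    have : UNJ cs h X ∅ ≤ ⊥ := RGD.Sup_le fun z hz => absurd hz (hP _)
    exact this hv
  have hu1 : u = 1 := by
    have : UJ cs h X ∅ ≤ ⊥ := RGD.Sup_le fun z hz => absurd hz (hP _)
    exact this hu
  obtain ⟨y, hy⟩ := hinv
  refine ⟨s₀, s₀⁻¹, by rw [hv1, hu1]; group, ?_, ?_⟩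
  · exact ⟨T_le_LJ hs, ⟨1, by group⟩, fun x hx h1 => fix_VJ R hs hf hx h1, fun x hx h1 => fix_VNJ R hs hf hx h1⟩
  · refine ⟨T_le_LJ (inv_mem hs), ⟨y, hy.symm⟩, fun x hx h1 => fix_VJ R (inv_mem hs) (NoFix.inv hf) hx h1,
      fun x hx h1 => fix_VNJ R (inv_mem hs) (NoFix.inv hf) hx h1⟩

end

/-- the core of `B` lies in the kernel of a homomorphism onto a simple group with central kernel -/
theorem core_le_ker [Finite W] (R : RGD cs h p T n X) [Nonempty I] {G : Type*} [Group G] [IsSimpleGroup G] (π : Y →* G)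
    (hπ : Function.Surjective π) (hk : π.ker ≤ Subgroup.center Y) : (RGD.B cs h T X).normalCore ≤ π.ker := by
  have hN : ((RGD.B cs h T X).normalCore.map π).Normal := Subgroup.Normal.map inferInstance π hπ
  rcases hN.eq_bot_or_eq_top with h1 | h1
  · intro g hg
    have h2 : π g ∈ (RGD.B cs h T X).normalCore.map π := Subgroup.mem_map_of_mem π hg
    rw [h1] at h2
    exact h2
  · exfalso
    obtain ⟨i⟩ := ‹Nonempty I›
    apply R.not_neg_le_B i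
    obtain ⟨b, hb, hbn⟩ : π (n i) ∈ (RGD.B cs h T X).normalCore.map π := by rw [h1]; trivial
    have hbB : b ∈ RGD.B cs h T X := Subgroup.normalCore_le _ hb
    have hz : b⁻¹ * n i ∈ Subgroup.center Y := hk (by rw [MonoidHom.mem_ker, map_mul, map_inv, hbn, inv_mul_cancel])
    intro x hx
    have h2 : (n i)⁻¹ * x * n i ∈ RGD.B cs h T X := by
      have := R.conj_mem' (rp_simple cs R.nsys i) (isRoot_sr cs h i).neg hx
      rw [inv_simple, map_neg, rep_simple_sr, neg_neg] at this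
      exact RGD.X_le_B (isRoot_sr cs h i) (sr_nonneg i) this
    obtain ⟨z, hz'⟩ : ∃ z, z = b⁻¹ * n i := ⟨_, rfl⟩
    rw [← hz'] at hz
    have hni : n i = b * z := by rw [hz']; group
    have h3 : b⁻¹ * x * b ∈ RGD.B cs h T X := by
      have h4 : (n i)⁻¹ * x * n i = b⁻¹ * x * b := by
        have h5 := (Subgroup.mem_center_iff.1 hz) (b⁻¹ * x * b)
        rw [hni]
        calc (b * z)⁻¹ * x * (b * z) = z⁻¹ * ((b⁻¹ * x * b) * z) := by group
          _ = b⁻¹ * x * b := by rw [h5]; group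
      rwa [h4] at h2
    have h5 : x = b * (b⁻¹ * x * b) * b⁻¹ := by group
    rw [h5]
    exact mul_mem (mul_mem hbB h3) (inv_mem hbB)

/-- passage to the simple quotient -/
theorem square [Finite W] (R : RGD cs h p T n X) [Nonempty I] {G : Type*} [Group G] [IsSimpleGroup G] (π : Y →* G)
    (hπ : Function.Surjective π) (hk : π.ker ≤ Subgroup.center Y) {c₀ : Y}
    (hc : ∀ g : Y, g ∉ (RGD.B cs h T X).normalCore ∨ g = 1 → ∃ x y : Y, g = (x * c₀ * x⁻¹) * (y * c₀ * y⁻¹)) :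
    ∃ c : G, ∀ g : G, ∃ x y : G, g = (x * c * x⁻¹) * (y * c * y⁻¹) := by
  refine ⟨π c₀, fun g => ?_⟩
  have key : ∀ g' : Y, π g' = g → (g' ∉ (RGD.B cs h T X).normalCore ∨ g' = 1) →
      ∃ x y : G, g = (x * π c₀ * x⁻¹) * (y * π c₀ * y⁻¹) := by
    intro g' hg' h1
    obtain ⟨x, y, e⟩ := hc g' h1
    refine ⟨π x, π y, ?_⟩
    rw [← hg']
    conv_lhs => rw [e]
    simp only [map_mul, map_inv]
  by_cases hg1 : g = 1
  · exact key 1 (by rw [map_one, hg1]) (Or.inr rfl)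
  · obtain ⟨g', hg'⟩ := hπ g
    refine key g' hg' (Or.inl fun h1 => hg1 ?_)
    rw [← hg']
    exact core_le_ker R π hπ hk h1

end Cfsg.Agent.H162.GaussMain
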