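import Cfsg.Agent.H162.GaussExc
import Cfsg.Agent.TitsThree.KExcRT
import Cfsg.Agent.CTFrame.Hom

/-!
The Chevalley groups of type `G₂`, `F₄`, `E₆`, `E₇`, `E₈` over a field with at least 9 elements are squares of
conjugacy classes (S2523).
-/

set_option autoImplicit false
set_option linter.unusedSectionVars false

namespace Cfsg.Agent.H162.GaussExcMain

open CoxeterSystem Cfsg.Agent.ChevalleyStructure.CoxeterGeom Cfsg.Agent.Tits.Roots Cfsg.Agent.Tits.Core
  Cfsg.Agent.Nodes.Reps Cfsg.Agent.Nodes.BNOf Cfsg.Agent.Nodes.RGDLib Cfsg.Agent.Nodes.Bruhat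
  Cfsg.Agent.Nodes.OppDec Cfsg.Agent.Nodes.LeviDec Cfsg.Agent.Nodes.KindChev Cfsg.Agent.Nodes.ChevCls
  Cfsg.Agent.OddHalf.NI.ModelChev
  Cfsg.Agent.H162.GaussDec Cfsg.Agent.H162.GaussLevi Cfsg.Agent.H162.GaussSL
  Cfsg.Agent.H162.GaussMain Cfsg.Agent.H162.GaussPQ Cfsg.Agent.H162.GaussExc
open Cfsg.Lie Cfsg.Agent.ChevalleyStructure Cfsg.Agent.ChevalleyStructure.Elts
  Cfsg.Agent.ChevalleyStructure.RootVec Cfsg.Agent.ChevalleyStructure.NPerm
  Cfsg.Agent.ChevalleyStructure.CoxeterGeomTypes Cfsg.Agent.Nodes.RGDChev Cfsg.Agent.KFacts.RgdChevCoord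
open Cfsg.Agent.FixBN.FieldRGD (uu vv dd ww)
open Cfsg.Agent.TitsThree.KExcRT Cfsg.Agent.AGraded
open scoped MatrixGroups

universe u

/-- a unit of large order -/
theorem exists_unit {K : Type*} [Field K] [Fintype K] (hK : 9 ≤ Fintype.card K) :
    ∃ t : Kˣ, ∀ k : ℤ, k ≠ 0 → |k| ≤ 7 → t ^ k ≠ 1 := by
  classical
  obtain ⟨t, ht⟩ := IsCyclic.exists_ofOrder_eq_natCard (α := Kˣ)
  refine ⟨t, fun k hk hk7 h1 => ?_⟩
  have h2 : Nat.card Kˣ = Fintype.card K - 1 := by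
    rw [Nat.card_eq_fintype_card, Fintype.card_units]
  rw [← orderOf_dvd_iff_zpow_eq_one, ht, h2] at h1
  have h3 := Int.le_of_dvd (abs_pos.2 hk) ((dvd_abs _ _).2 h1)
  have h4 : ((Fintype.card K - 1 : ℕ) : ℤ) = (Fintype.card K : ℤ) - 1 := by
    rw [Nat.cast_sub (by omega), Nat.cast_one]
  rw [h4] at h3
  have h5 : (9 : ℤ) ≤ Fintype.card K := by exact_mod_cast hK
  omega

section

variable {D : ChevalleyDatum} {l : ℕ} {M : CoxeterMatrix (Fin l)} (hp : IsType D l M) {K : Type u} [Field K]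

include hp in
theorem exists_hom_D {n : ℕ} {r : Fin (n + 3) → Fin (n + 3) → ℕ} {ε : ℤ} (hε : ε * ε = 1)
    (ha : RTa D r) (hb : RTb D r fun _ _ => ε) (hc : RTc D r) (hneg : ∀ i j, i ≠ j → r j i = D.neg (r i j)) :
    ∃ φ : Matrix.SpecialLinearGroup (Fin (n + 3)) K →* ↥(D.group K), ∀ a b (hab : a ≠ b) c,
      φ (Matrix.SpecialLinearGroup.transvection hab c) = xc hp (vec D l (r a b)) ((ε : K) * c) := by
  have hεK : (ε : K) * (ε : K) = 1 := by rw [← Int.cast_mul, hε, Int.cast_one]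
  have hε0 : (ε : K) ≠ 0 := left_ne_zero_of_mul_eq_one hεK
  let X : Fin (n + 3) → Fin (n + 3) → K → ↥(D.group K) := fun a b c =>
    ⟨xG hp.inList (r a b) ((ε : K) * c), xG_mem_group hp.inList _ _⟩
  have hX : ∀ a b, a ≠ b → ∀ c, X a b c = xc hp (vec D l (r a b)) ((ε : K) * c) := by
    intro a b hab c
    apply Subtype.ext
    rw [coe_xc hp (ha a b hab)]
  have hS := stein (F := K) hp.inList (r := r) (s := fun _ _ => ε) ha hb hc (fun _ _ => hε)
  have hSt : SteinRel X := by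
    refine ⟨?_, ?_, ?_⟩
    · intro i j hij a b
      apply Subtype.ext
      exact hS.add i j hij a b
    · intro i j k l hij hkl hjk hil a b
      apply Subtype.ext
      exact hS.comm i j k l hij hkl hjk hil a b
    · intro i j k hij hjk hik a b
      apply Subtype.ext
      exact hS.br i j k hij hjk hik a b
  have hH : CTFrame.Torus.HRel X := by
    intro i j hij
    obtain ⟨f, hf1, hf2, -, -, -⟩ := exists_sl hp (K := K) (ha i j hij)
    have e1 : ∀ c, X i j c = f (uu ((ε : K) * c)) := by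
      intro c
      rw [hf1, hX i j hij]
    have e2 : ∀ c, X j i c = f (vv ((ε : K) * c)) := by
      intro c
      rw [hf2, hX j i hij.symm, hneg i j hij, vec_neg hp (ha i j hij)]
    have e3 : ∀ u : K, (hu : u ≠ 0) → CTFrame.Weyl.t X i j u = f (dd u hu) := by
      intro u hu
      unfold CTFrame.Weyl.t CTFrame.Weyl.w
      rw [e1, e1, e2, e2, ← map_mul, ← map_mul, ← map_mul, ← map_mul, ← map_mul]
      congr 1
      apply Subtype.ext
      change (!![1, (ε : K) * u; 0, 1] * !![1, 0; (ε : K) * -u⁻¹, 1] * !![1, (ε : K) * u; 0, 1]) *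
        (!![1, (ε : K) * -1; 0, 1] * !![1, 0; (ε : K) * -(-1)⁻¹, 1] * !![1, (ε : K) * -1; 0, 1]) = !![u, 0; 0, u⁻¹]
      have g1 : (!![1, (ε : K) * u; 0, 1] * !![1, 0; (ε : K) * -u⁻¹, 1] * !![1, (ε : K) * u; 0, 1] :
          Matrix (Fin 2) (Fin 2) K) = !![0, (ε : K) * u; (ε : K) * -u⁻¹, 0] := by
        have g2 : (ε : K) * u * ((ε : K) * u⁻¹) = 1 := by
          rw [mul_mul_mul_comm, hεK, mul_inv_cancel₀ hu, one_mul]
        rw [Matrix.mul_fin_two, Matrix.mul_fin_two]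
        have g3 : (ε : K) * u⁻¹ * ((ε : K) * u) = 1 := by
          rw [mul_mul_mul_comm, hεK, inv_mul_cancel₀ hu, one_mul]
        ext a b
        fin_cases a <;> fin_cases b
        · simp [g2]
        · simp [g2]
        · simp
        · simp [g3]
      have g1' : (!![1, (ε : K) * -1; 0, 1] * !![1, 0; (ε : K) * -(-1)⁻¹, 1] * !![1, (ε : K) * -1; 0, 1] :
          Matrix (Fin 2) (Fin 2) K) = !![0, -(ε : K); (ε : K), 0] := by
        rw [Matrix.mul_fin_two, Matrix.mul_fin_two]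
        ext a b
        fin_cases a <;> fin_cases b
        · simp [hεK]
        · simp [hεK]
        · simp
        · simp [hεK]
      rw [g1, g1', Matrix.mul_fin_two]
      ext a b
      fin_cases a <;> fin_cases b
      · simp
        rw [mul_right_comm, hεK, one_mul]
      · simp
      · simp
      · simp
        rw [mul_right_comm, hεK, one_mul]
    intro a b ha0 hb0
    rw [e3 a ha0, e3 b hb0, e3 (a * b) (mul_ne_zero ha0 hb0), ← map_mul]
    congr 1
    apply Subtype.ext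
    change !![a, 0; 0, a⁻¹] * !![b, 0; 0, b⁻¹] = !![a * b, 0; 0, (a * b)⁻¹]
    rw [Matrix.mul_fin_two, mul_inv]
    simp
  obtain ⟨φ, hφ, -⟩ := CTFrame.Hom.exists_hom hSt hH (by simp)
  exact ⟨φ, fun a b hab c => by rw [hφ a b hab c, hX a b hab]⟩


/-- the square theorem with a block -/
theorem square_blk [Fintype K] (hK : 9 ≤ Fintype.card K) (hl : 0 < l)
    (hG : IsSimpleGroup ↥(D.group K) ∧ ¬ IsMulCommutative ↥(D.group K))
    (hM : ∀ J : Finset (Fin l), J = ∅ ∨ J = Finset.univ ∨ ∃ a ∈ J, ∃ b, b ∉ J ∧ M a b ≠ 2)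
    {J : List (Fin l)} {m e : Fin l → ℤ} {ω : List (Fin l)} (TS : TabS D l J m ω) {n : ℕ}
    {r : Fin (n + 2) → Fin (n + 2) → ℕ} (TB : TabB D l J e ω n r)
    {φ : Matrix.SpecialLinearGroup (Fin (n + 2)) K →* ↥(D.group K)} {s : Fin (n + 2) → Fin (n + 2) → K}
    (hs : ∀ a b, s a b ≠ 0)
    (hφ : ∀ a b (hab : a ≠ b) c, φ (Matrix.SpecialLinearGroup.transvection hab c) =
      xc hp (vec D l (r a b)) (s a b * c)) :
    ∃ c : ↥(D.group K), ∀ g : ↥(D.group K), ∃ x y : ↥(D.group K), g = (x * c * x⁻¹) * (y * c * y⁻¹) := by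
  obtain ⟨p, hpc⟩ := CharP.exists K
  have : Fact p.Prime := ⟨(CharP.char_is_prime_or_zero K p).resolve_right (CharP.char_ne_zero_of_finite K p)⟩
  obtain ⟨t, ht⟩ := exists_unit hK
  have hZ := Cfsg.Agent.Nodes.ChevChart.center_eq_bot hG
  have := finite_W hp M.toCoxeterSystem
  have := hG.1
  have hc4 : (4 : Cardinal) ≤ Cardinal.mk K := by
    rw [Cardinal.mk_fintype]
    exact_mod_cast (by omega : 4 ≤ Fintype.card K)
  have : Nonempty (Fin l) := ⟨⟨0, hl⟩⟩
  refine square (rgd (K := K) hp M.toCoxeterSystem p) (MonoidHom.id _) Function.surjective_id (fun x hx => ?_)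
    (fun g hg => main (rgd (K := K) hp M.toCoxeterSystem p) (G1_eq_top hp _) (coord hp)
      (Cfsg.Agent.Nodes.ChevChart.irr_of hM) hc4 (blk hp t TB hs hφ p hZ TS ht) hg)
  rw [MonoidHom.mem_ker] at hx
  change x = 1 at hx
  rw [hx]
  exact one_mem _

include hp in
/-- the square theorem without a block -/
theorem square_zero [Fintype K] (hK : 9 ≤ Fintype.card K) (hl : 0 < l)
    (hG : IsSimpleGroup ↥(D.group K) ∧ ¬ IsMulCommutative ↥(D.group K))
    (hM : ∀ J : Finset (Fin l), J = ∅ ∨ J = Finset.univ ∨ ∃ a ∈ J, ∃ b, b ∉ J ∧ M a b ≠ 2)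
    {m : Fin l → ℤ} {ω : List (Fin l)} (TS : TabS D l [] m ω) :
    ∃ c : ↥(D.group K), ∀ g : ↥(D.group K), ∃ x y : ↥(D.group K), g = (x * c * x⁻¹) * (y * c * y⁻¹) := by
  obtain ⟨p, hpc⟩ := CharP.exists K
  have : Fact p.Prime := ⟨(CharP.char_is_prime_or_zero K p).resolve_right (CharP.char_ne_zero_of_finite K p)⟩
  obtain ⟨t, ht⟩ := exists_unit hK
  have hZ := Cfsg.Agent.Nodes.ChevChart.center_eq_bot hG
  have := finite_W hp M.toCoxeterSystem
  have := hG.1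
  have : Nonempty (Fin l) := ⟨⟨0, hl⟩⟩
  have hf := noFix hp t TS ht
  have he : {k : Fin l | k ∈ ([] : List (Fin l))} = ∅ := by
    ext k
    simp
  rw [he] at hf
  refine square (rgd (K := K) hp M.toCoxeterSystem p) (MonoidHom.id _) Function.surjective_id (fun x hx => ?_)
    (fun g hg => main0 (rgd (K := K) hp M.toCoxeterSystem p) (G1_eq_top hp _) (coord hp)
      (Cfsg.Agent.Nodes.ChevChart.irr_of hM) (sg_mem hp m t) hf ⟨_, wd_sg hp t TS p hZ⟩ hg)
  rw [MonoidHom.mem_ker] at hx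
  change x = 1 at hx
  rw [hx]
  exact one_mem _

end

/-! ### The tables -/

section Tables

variable (D : ChevalleyDatum) (l : ℕ) (J : List (Fin l)) (m e : Fin l → ℤ) (ω : List (Fin l)) (n : ℕ)
  (r : Fin (n + 2) → Fin (n + 2) → ℕ)

/-- decidable form of `TabS` -/
def ChkS : Prop :=
  (∀ j : Fin l, ∑ i : Fin l, m i * D.cartan i (D.simple j) = if j ∈ J then 0 else 1) ∧
  (∀ q < D.nroots, (∃ k : Fin l, k ∉ J ∧ vec D l q k ≠ 0) → lam J (vec D l q) ≠ 0 ∧ |lam J (vec D l q)| ≤ 7) ∧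
  ∀ j : Fin l, lam J (vec D l (GaussExc.fr D ω (D.simple j))) = - lam J (vec D l (D.simple j))

instance : Decidable (ChkS D l J m ω) := by
  unfold ChkS lam; infer_instance

/-- the third part of the table of the block -/
def ChkSub : Prop :=
  ∀ q < D.nroots, (∀ k, k ∉ J → vec D l q k = 0) → ∃ a b, a ≠ b ∧ r a b = q ∧
    (a < b → ∃ k, 0 < vec D l q k) ∧ (b < a → ∃ k, vec D l q k < 0)

instance : Decidable (ChkSub D l J n r) := by
  unfold ChkSub
  refine @Nat.decidableBallLT _ _ fun q _ => ?_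
  refine @instDecidableForall _ _ inferInstance ?_
  refine @Fintype.decidableExistsFintype _ _ (fun a => ?_) _
  refine @Fintype.decidableExistsFintype _ _ (fun b => ?_) _
  infer_instance

/-- decidable form of `TabB` -/
def ChkB : Prop :=
  (∀ a b, a ≠ b → r a b < D.nroots) ∧ (∀ a b, a ≠ b → ∀ k, k ∉ J → vec D l (r a b) k = 0) ∧
  (∀ a b, a ≠ b → ∑ i : Fin l, e i * D.cartan i (r a b) = (if a = 0 then 1 else 0) - (if b = 0 then 1 else 0)) ∧
  ∀ a b, a ≠ b → GaussExc.fr D ω (r a b) = r b a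

instance : Decidable (ChkB D l J e ω n r) := by
  unfold ChkB; infer_instance

variable {D l J m e ω n r}

theorem ChkS.tab (h : ChkS D l J m ω) : TabS D l J m ω := ⟨h.1, h.2.1, h.2.2⟩

theorem ChkB.tab (h : ChkB D l J e ω n r) (h' : ChkSub D l J n r) : TabB D l J e ω n r :=
  ⟨h.1, h.2.1, h', h.2.2.1, h.2.2.2⟩

end Tables

/-! ### `G₂` -/

theorem chkG : ChkS chevG2 2 [] ![3, 5] [0, 1, 0, 1, 0, 1] := by decide +kernel

theorem square_G2 {K : Type u} [Field K] [Fintype K] (hK : 9 ≤ Fintype.card K) :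
    ∃ c : ↥(chevG2.group K), ∀ g : ↥(chevG2.group K), ∃ x y : ↥(chevG2.group K), g = (x * c * x⁻¹) * (y * c * y⁻¹) := by
  obtain ⟨t, ht⟩ := exists_unit hK
  refine square_zero Cit.TypeDet.KindsEF.isTypeG hK (by norm_num) (Cfsg.Agent.S1055.result ⟨(t : K), t.ne_zero, fun h => ?_⟩)
    Cfsg.Agent.Nodes.ChevChart.irrG chkG.tab
  exact ht 1 one_ne_zero (by norm_num) (by rw [zpow_one]; exact Units.ext h)

/-! ### `F₄` -/

/-- the roots of the block of `F₄` -/
def rF : Fin 2 → Fin 2 → ℕ := ![![0, 27], ![20, 0]]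

/-- a word for the longest element of `F₄` -/
def wF : List (Fin 4) := (List.replicate 6 [0, 1, 2, 3]).flatten

theorem chkF : ChkS chevF4 4 [1] ![5, 9, 13, 7] wF := by decide +kernel

theorem chkF' : ChkB chevF4 4 [1] ![0, 0, -1, 0] wF 0 rF := by decide +kernel

theorem chkF'' : ChkSub chevF4 4 [1] 0 rF := by decide +kernel

theorem simple_F : chevF4.simple 1 = 27 ∧ chevF4.neg 27 = 20 := by decide +kernel

theorem square_F4 {K : Type u} [Field K] [Fintype K] (hK : 9 ≤ Fintype.card K) :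
    ∃ c : ↥(chevF4.group K), ∀ g : ↥(chevF4.group K), ∃ x y : ↥(chevF4.group K), g = (x * c * x⁻¹) * (y * c * y⁻¹) := by
  have hp := Cfsg.Agent.Nodes.KindF.isType
  have h27 : 27 < chevF4.nroots := by decide +kernel
  obtain ⟨φ, h1, h2, -, -, -⟩ := exists_sl hp (K := K) h27
  refine square_blk hp hK (by norm_num) (Cfsg.Agent.S1054.result chevF4 (by simp)) Cfsg.Agent.Nodes.ChevChart.irrF
    chkF.tab (chkF'.tab chkF'') (φ := φ) (s := fun _ _ => 1) (fun _ _ => one_ne_zero) ?_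
  intro a b hab c
  rw [one_mul]
  have e1 : ∀ c : K, Matrix.SpecialLinearGroup.transvection (show (0 : Fin 2) ≠ 1 by decide) c = uu c := by
    intro c
    apply Subtype.ext
    ext i j
    fin_cases i <;> fin_cases j <;> simp [Matrix.SpecialLinearGroup.transvection, Matrix.transvection, uu]
  have e2 : ∀ c : K, Matrix.SpecialLinearGroup.transvection (show (1 : Fin 2) ≠ 0 by decide) c = vv c := by
    intro c
    apply Subtype.ext
    ext i j
    fin_cases i <;> fin_cases j <;> simp [Matrix.SpecialLinearGroup.transvection, Matrix.transvection, vv]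
  have e3 : vec chevF4 4 20 = - vec chevF4 4 27 := by
    rw [← vec_neg hp h27, simple_F.2]
  fin_cases a <;> fin_cases b
  · exact absurd rfl hab
  · exact (congrArg φ (e1 c)).trans (h1 c)
  · refine (congrArg φ (e2 c)).trans ((h2 c).trans ?_)
    rw [← e3]
    rfl
  · exact absurd rfl hab

/-! ### `E₆` -/

/-- the roots of the block of `E₆` -/
def r6 : Fin 3 → Fin 3 → ℕ := ![![0, 39, 47], ![32, 0, 46], ![24, 25, 0]]

/-- a word for the longest element of `E₆` -/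
def w6 : List (Fin 6) := (List.replicate 6 [0, 3, 5, 1, 2, 4]).flatten

theorem chk6 : ChkS chevE6 6 [3, 1] ![5, 6, 9, 12, 9, 5] w6 := by decide +kernel

theorem chk6' : ChkB chevE6 6 [3, 1] ![0, 0, 0, 0, -1, 0] w6 1 r6 := by decide +kernel

theorem chk6'' : ChkSub chevE6 6 [3, 1] 1 r6 := by decide +kernel

theorem rt6 : RTa chevE6 r6 ∧ (RTb chevE6 r6 fun _ _ => 1) ∧ RTc chevE6 r6 ∧
    ∀ i j, i ≠ j → r6 j i = chevE6.neg (r6 i j) := by decide +kernel

theorem square_E6 {K : Type u} [Field K] [Fintype K] (hK : 9 ≤ Fintype.card K) :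
    ∃ c : ↥(chevE6.group K), ∀ g : ↥(chevE6.group K), ∃ x y : ↥(chevE6.group K), g = (x * c * x⁻¹) * (y * c * y⁻¹) := by
  obtain ⟨φ, hφ⟩ := exists_hom_D Cfsg.Agent.Nodes.KindE.isType6 (K := K) (ε := 1) (by norm_num) rt6.1 rt6.2.1 rt6.2.2.1
    rt6.2.2.2
  exact square_blk Cfsg.Agent.Nodes.KindE.isType6 hK (by norm_num) (Cfsg.Agent.S1054.result chevE6 (by simp))
    Cfsg.Agent.Nodes.ChevChart.irr6 chk6.tab (chk6'.tab chk6'') (s := fun _ _ => ((1 : ℤ) : K))
    (fun _ _ => by simp) hφ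

/-! ### `E₇` -/

/-- the roots of the block of `E₇` -/
def r7 : Fin 4 → Fin 4 → ℕ := ![![0, 73, 74, 75], ![52, 0, 69, 70], ![51, 56, 0, 66], ![50, 55, 59, 0]]

/-- a word for the longest element of `E₇` -/
def w7 : List (Fin 7) := (List.replicate 9 [0, 1, 2, 3, 4, 5, 6]).flatten

theorem chk7 : ChkS chevE7 7 [2, 3, 4] ![7, 10, 13, 19, 15, 11, 6] w7 := by decide +kernel

theorem chk7' : ChkB chevE7 7 [2, 3, 4] ![-1, 0, 0, 0, 0, 0, 0] w7 2 r7 := by decide +kernel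

theorem chk7'' : ChkSub chevE7 7 [2, 3, 4] 2 r7 := by decide +kernel

theorem rt7 : RTa chevE7 r7 ∧ (RTb chevE7 r7 fun _ _ => -1) ∧ RTc chevE7 r7 ∧
    ∀ i j, i ≠ j → r7 j i = chevE7.neg (r7 i j) := by decide +kernel

theorem square_E7 {K : Type u} [Field K] [Fintype K] (hK : 9 ≤ Fintype.card K) :
    ∃ c : ↥(chevE7.group K), ∀ g : ↥(chevE7.group K), ∃ x y : ↥(chevE7.group K), g = (x * c * x⁻¹) * (y * c * y⁻¹) := by
  obtain ⟨φ, hφ⟩ := exists_hom_D Cfsg.Agent.Nodes.KindE.isType7 (K := K) (ε := -1) (by norm_num) rt7.1 rt7.2.1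
    rt7.2.2.1 rt7.2.2.2
  exact square_blk Cfsg.Agent.Nodes.KindE.isType7 hK (by norm_num) (Cfsg.Agent.S1054.result chevE7 (by simp))
    Cfsg.Agent.Nodes.ChevChart.irr7 chk7.tab (chk7'.tab chk7'') (s := fun _ _ => ((-1 : ℤ) : K))
    (fun _ _ => by simp) hφ

/-! ### `E₈` -/

/-- the roots of the block of `E₈` -/
def r8 : Fin 6 → Fin 6 → ℕ := ![![0, 135, 136, 137, 138, 139], ![104, 0, 130, 131, 132, 133],
  ![103, 109, 0, 126, 127, 128], ![102, 108, 113, 0, 123, 124], ![101, 107, 112, 116, 0, 121],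
  ![100, 106, 111, 115, 118, 0]]

/-- a word for the longest element of `E₈` -/
def w8 : List (Fin 8) := (List.replicate 15 [0, 1, 2, 3, 4, 5, 6, 7]).flatten

theorem chk8 : ChkS chevE8 8 [2, 3, 4, 5, 6] ![11, 16, 21, 31, 25, 19, 13, 7] w8 := by decide +kernel

theorem chk8'_a : (∀ a b : Fin (4 + 2), a ≠ b → r8 a b < chevE8.nroots) ∧
    ∀ a b : Fin (4 + 2), a ≠ b → ∀ k, k ∉ ([2, 3, 4, 5, 6] : List (Fin 8)) → vec chevE8 8 (r8 a b) k = 0 := by decide +kernel

theorem chk8'_b : ∀ a b : Fin (4 + 2), a ≠ b → ∑ i : Fin 8, (![-1, 0, 0, 0, 0, 0, 0, 0] : Fin 8 → ℤ) i * chevE8.cartan i (r8 a b) =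
    (if a = 0 then 1 else 0) - (if b = 0 then 1 else 0) := by decide +kernel

theorem chk8'_c0 : ∀ b : Fin (4 + 2), (0 : Fin (4 + 2)) ≠ b → GaussExc.fr chevE8 w8 (r8 0 b) = r8 b 0 := by decide +kernel

theorem chk8'_c1 : ∀ b : Fin (4 + 2), (1 : Fin (4 + 2)) ≠ b → GaussExc.fr chevE8 w8 (r8 1 b) = r8 b 1 := by decide +kernel

theorem chk8'_c2 : ∀ b : Fin (4 + 2), (2 : Fin (4 + 2)) ≠ b → GaussExc.fr chevE8 w8 (r8 2 b) = r8 b 2 := by decide +kernel

theorem chk8'_c3 : ∀ b : Fin (4 + 2), (3 : Fin (4 + 2)) ≠ b → GaussExc.fr chevE8 w8 (r8 3 b) = r8 b 3 := by decide +kernel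

theorem chk8'_c4 : ∀ b : Fin (4 + 2), (4 : Fin (4 + 2)) ≠ b → GaussExc.fr chevE8 w8 (r8 4 b) = r8 b 4 := by decide +kernel

theorem chk8'_c5 : ∀ b : Fin (4 + 2), (5 : Fin (4 + 2)) ≠ b → GaussExc.fr chevE8 w8 (r8 5 b) = r8 b 5 := by decide +kernel

theorem chk8'_c : ∀ a b : Fin (4 + 2), a ≠ b → GaussExc.fr chevE8 w8 (r8 a b) = r8 b a
  | 0 => chk8'_c0
  | 1 => chk8'_c1
  | 2 => chk8'_c2
  | 3 => chk8'_c3
  | 4 => chk8'_c4
  | 5 => chk8'_c5

theorem chk8' : ChkB chevE8 8 [2, 3, 4, 5, 6] ![-1, 0, 0, 0, 0, 0, 0, 0] w8 4 r8 :=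
  ⟨chk8'_a.1, chk8'_a.2, chk8'_b, chk8'_c⟩

theorem chk8'' : ChkSub chevE8 8 [2, 3, 4, 5, 6] 4 r8 := by decide +kernel

theorem rt8 : RTa chevE8 r8 ∧ (RTb chevE8 r8 fun _ _ => -1) ∧ RTc chevE8 r8 ∧
    ∀ i j, i ≠ j → r8 j i = chevE8.neg (r8 i j) := by decide +kernel

theorem square_E8 {K : Type u} [Field K] [Fintype K] (hK : 9 ≤ Fintype.card K) :
    ∃ c : ↥(chevE8.group K), ∀ g : ↥(chevE8.group K), ∃ x y : ↥(chevE8.group K), g = (x * c * x⁻¹) * (y * c * y⁻¹) := by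
  obtain ⟨φ, hφ⟩ := exists_hom_D Cfsg.Agent.Nodes.KindE.isType8 (K := K) (ε := -1) (by norm_num) rt8.1 rt8.2.1
    rt8.2.2.1 rt8.2.2.2
  exact square_blk Cfsg.Agent.Nodes.KindE.isType8 hK (by norm_num) (Cfsg.Agent.S1054.result chevE8 (by simp))
    Cfsg.Agent.Nodes.ChevChart.irr8 chk8.tab (chk8'.tab chk8'') (s := fun _ _ => ((-1 : ℤ) : K))
    (fun _ _ => by simp) hφ

end Cfsg.Agent.H162.GaussExcMain
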