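import Cfsg.Agent.H162.GaussReg

/-!
Products of simple transvections are regular unitriangular (S2523).

* `pU c` : the product of the transvections `t_{i,i+1}(c_i)`, `exists_pU` : it is conjugate to `JS` if all `c_i ≠ 0`;
* `pL c`, `exists_pL` : the same for `t_{i+1,i}(c_i)`.
-/

set_option autoImplicit false

namespace Cfsg.Agent.H162.GaussPQ

open Matrix Cfsg.Agent.H162.GaussSL Cfsg.Agent.H162.GaussReg

variable {K : Type*} [Field K] {n : ℕ}

theorem UT_super {M N : SpecialLinearGroup (Fin (n + 1)) K} (hM : M ∈ UT (n + 1) K) (hN : N ∈ UT (n + 1) K) (i : Fin n) :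
    (M * N).1 i.castSucc i.succ = M.1 i.castSucc i.succ + N.1 i.castSucc i.succ := by
  have hM' := mem_UT.1 hM
  have hN' := mem_UT.1 hN
  change (M.1 * N.1) i.castSucc i.succ = _
  rw [Matrix.mul_apply, ← Finset.sum_subset (Finset.subset_univ {i.castSucc, i.succ})]
  · rw [Finset.sum_pair (Fin.castSucc_lt_succ).ne, hM'.2, hN'.2, one_mul, mul_one, add_comm]
  · intro k _ hk
    simp only [Finset.mem_insert, Finset.mem_singleton, not_or] at hk
    rcases lt_trichotomy k i.castSucc with h | h | h
    · rw [hM'.1 _ _ h, zero_mul]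
    · exact absurd h hk.1
    · have h2 : i.succ < k := by
        rcases lt_trichotomy k i.succ with h3 | h3 | h3
        · exfalso
          rw [Fin.lt_def] at h h3
          simp only [Fin.val_castSucc, Fin.val_succ] at h h3
          omega
        · exact absurd h3 hk.2
        · exact h3
      rw [hN'.1 _ _ h2, mul_zero]

theorem LT_sub {M N : SpecialLinearGroup (Fin (n + 1)) K} (hM : M ∈ LT (n + 1) K) (hN : N ∈ LT (n + 1) K) (i : Fin n) :
    (M * N).1 i.succ i.castSucc = M.1 i.succ i.castSucc + N.1 i.succ i.castSucc := by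
  have hM' := mem_LT.1 hM
  have hN' := mem_LT.1 hN
  change (M.1 * N.1) i.succ i.castSucc = _
  rw [Matrix.mul_apply, ← Finset.sum_subset (Finset.subset_univ {i.castSucc, i.succ})]
  · rw [Finset.sum_pair (Fin.castSucc_lt_succ).ne, hM'.2, hN'.2, one_mul, mul_one]
  · intro k _ hk
    simp only [Finset.mem_insert, Finset.mem_singleton, not_or] at hk
    rcases lt_trichotomy k i.castSucc with h | h | h
    · rw [hN'.1 _ _ h, mul_zero]
    · exact absurd h hk.1
    · have h2 : i.succ < k := by
        rcases lt_trichotomy k i.succ with h3 | h3 | h3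
        · exfalso
          rw [Fin.lt_def] at h h3
          simp only [Fin.val_castSucc, Fin.val_succ] at h h3
          omega
        · exact absurd h3 hk.2
        · exact h3
      rw [hM'.1 _ _ h2, zero_mul]

theorem cs_ne (i : Fin n) : i.castSucc ≠ i.succ := (Fin.castSucc_lt_succ).ne

theorem coe_tv (i j : Fin n) (hij : i ≠ j) (c : K) (a b : Fin n) :
    (SpecialLinearGroup.transvection hij c).1 a b = (1 : Matrix (Fin n) (Fin n) K) a b + single i j c a b := rfl

theorem tv_mem_UT {i j : Fin n} (hij : i ≠ j) (h : i < j) (c : K) : SpecialLinearGroup.transvection hij c ∈ UT n K := by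
  refine mem_UT.2 ⟨fun a b hab => ?_, fun a => ?_⟩
  · rw [coe_tv, Matrix.one_apply_ne (ne_of_gt hab), single_apply, if_neg, zero_add]
    rintro ⟨rfl, rfl⟩
    exact lt_asymm h hab
  · rw [coe_tv, Matrix.one_apply_eq, single_apply, if_neg, add_zero]
    rintro ⟨rfl, h2⟩
    exact hij h2.symm

theorem tv_mem_LT {i j : Fin n} (hij : i ≠ j) (h : j < i) (c : K) : SpecialLinearGroup.transvection hij c ∈ LT n K := by
  refine mem_LT.2 ⟨fun a b hab => ?_, fun a => ?_⟩
  · rw [coe_tv, Matrix.one_apply_ne (ne_of_lt hab), single_apply, if_neg, zero_add]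
    rintro ⟨rfl, rfl⟩
    exact lt_asymm h hab
  · rw [coe_tv, Matrix.one_apply_eq, single_apply, if_neg, add_zero]
    rintro ⟨rfl, h2⟩
    exact hij h2.symm

/-- the product of the `t_{i,i+1}(c_i)` -/
def pU (c : Fin n → K) : SpecialLinearGroup (Fin (n + 1)) K :=
  (List.ofFn fun i : Fin n => SpecialLinearGroup.transvection (cs_ne i) (c i)).prod

/-- the product of the `t_{i+1,i}(c_i)` -/
def pL (c : Fin n → K) : SpecialLinearGroup (Fin (n + 1)) K :=
  (List.ofFn fun i : Fin n => SpecialLinearGroup.transvection (cs_ne i).symm (c i)).prod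

theorem listU (c : Fin n → K) (L : List (Fin n)) :
    (L.map fun i : Fin n => SpecialLinearGroup.transvection (cs_ne i) (c i)).prod ∈ UT (n + 1) K ∧
    ∀ i : Fin n, (L.map fun i : Fin n => SpecialLinearGroup.transvection (cs_ne i) (c i)).prod.1 i.castSucc i.succ =
      (L.count i : K) * c i := by
  induction L with
  | nil =>
    refine ⟨one_mem _, fun i => ?_⟩
    change (1 : Matrix _ _ K) _ _ = _
    rw [Matrix.one_apply_ne (cs_ne i)]
    simp
  | cons j L ih =>
    rw [List.map_cons, List.prod_cons]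
    have hj := tv_mem_UT (cs_ne j) Fin.castSucc_lt_succ (c j)
    refine ⟨mul_mem hj ih.1, fun i => ?_⟩
    rw [UT_super hj ih.1, ih.2, coe_tv, Matrix.one_apply_ne (cs_ne i), zero_add, single_apply, List.count_cons]
    by_cases h : j = i
    · subst h
      simp
      ring
    · rw [if_neg (by rintro ⟨h1, -⟩; exact h (Fin.castSucc_injective _ h1))]
      simp [h]

theorem listL (c : Fin n → K) (L : List (Fin n)) :
    (L.map fun i : Fin n => SpecialLinearGroup.transvection (cs_ne i).symm (c i)).prod ∈ LT (n + 1) K ∧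
    ∀ i : Fin n, (L.map fun i : Fin n => SpecialLinearGroup.transvection (cs_ne i).symm (c i)).prod.1
      i.succ i.castSucc = (L.count i : K) * c i := by
  induction L with
  | nil =>
    refine ⟨one_mem _, fun i => ?_⟩
    change (1 : Matrix _ _ K) _ _ = _
    rw [Matrix.one_apply_ne (cs_ne i).symm]
    simp
  | cons j L ih =>
    rw [List.map_cons, List.prod_cons]
    have hj := tv_mem_LT (cs_ne j).symm Fin.castSucc_lt_succ (c j)
    refine ⟨mul_mem hj ih.1, fun i => ?_⟩
    rw [LT_sub hj ih.1, ih.2, coe_tv, Matrix.one_apply_ne (cs_ne i).symm, zero_add, single_apply, List.count_cons]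
    by_cases h : j = i
    · subst h
      simp
      ring
    · rw [if_neg (by rintro ⟨h1, -⟩; exact h (Fin.succ_injective _ h1))]
      simp [h]

theorem exists_pU {c : Fin n → K} (hc : ∀ i, c i ≠ 0) : ∃ g : GL (Fin (n + 1)) K, pU c = gc g (JS (n + 1) K) := by
  have h1 := listU c (List.finRange n)
  rw [← List.ofFn_eq_map] at h1
  refine exists_gc_of_UT h1.1 fun i j hij => ?_
  have hi : i.val < n := by have := j.2; omega
  have e1 : i = (⟨i.val, hi⟩ : Fin n).castSucc := rfl
  have e2 : j = (⟨i.val, hi⟩ : Fin n).succ := Fin.ext hij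
  rw [e1, e2]
  have h2 := h1.2 ⟨i.val, hi⟩
  rw [List.count_eq_one_of_mem (List.nodup_finRange n) (List.mem_finRange _), Nat.cast_one, one_mul] at h2
  unfold pU
  rw [h2]
  exact hc _

theorem exists_pL {c : Fin n → K} (hc : ∀ i, c i ≠ 0) : ∃ g : GL (Fin (n + 1)) K, pL c = gc g (JS (n + 1) K) := by
  have h1 := listL c (List.finRange n)
  rw [← List.ofFn_eq_map] at h1
  refine exists_gc_of_LT h1.1 fun j i hij => ?_
  have hi : i.val < n := by have := j.2; omega
  have e1 : i = (⟨i.val, hi⟩ : Fin n).castSucc := rfl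
  have e2 : j = (⟨i.val, hi⟩ : Fin n).succ := Fin.ext hij
  rw [e1, e2]
  have h2 := h1.2 ⟨i.val, hi⟩
  rw [List.count_eq_one_of_mem (List.nodup_finRange n) (List.mem_finRange _), Nat.cast_one, one_mul] at h2
  unfold pL
  rw [h2]
  exact hc _

end Cfsg.Agent.H162.GaussPQ
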