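import Cfsg.Agent.H162.GaussMain
import Cfsg.Agent.H162.GaussReg
import Cfsg.Agent.H162.GaussPQ
import Cfsg.Agent.OddHalf.NI.ModelChev

/-!
The data of `GaussMain` for the Chevalley groups `D.group K` from tables (S2523).
-/

set_option autoImplicit false
set_option linter.unusedSectionVars false

namespace Cfsg.Agent.H162.GaussExc

open CoxeterSystem Cfsg.Agent.ChevalleyStructure.CoxeterGeom Cfsg.Agent.Tits.Roots Cfsg.Agent.Tits.Core
  Cfsg.Agent.Nodes.Reps Cfsg.Agent.Nodes.BNOf Cfsg.Agent.Nodes.RGDLib Cfsg.Agent.Nodes.Bruhat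
  Cfsg.Agent.Nodes.OppDec Cfsg.Agent.Nodes.LeviDec Cfsg.Agent.Nodes.KindChev Cfsg.Agent.Nodes.ChevCls
  Cfsg.Agent.OddHalf.NI.Mult Cfsg.Agent.OddHalf.NI.ModelChev
  Cfsg.Agent.H162.GaussDec Cfsg.Agent.H162.GaussLevi Cfsg.Agent.H162.GaussSL Cfsg.Agent.H162.GaussReg
  Cfsg.Agent.H162.GaussMain Cfsg.Agent.H162.GaussPQ
open Cfsg.Lie Cfsg.Agent.ChevalleyStructure Cfsg.Agent.ChevalleyStructure.Elts
  Cfsg.Agent.ChevalleyStructure.RootVec Cfsg.Agent.ChevalleyStructure.NPerm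
  Cfsg.Agent.ChevalleyStructure.CoxeterGeomTypes Cfsg.Agent.Nodes.RGDChev Cfsg.Agent.KFacts.RgdChevCoord

universe u

/-! ### Generalities -/

theorem prod_zpow {G ι : Type*} [CommGroup G] (s : Finset ι) (t : G) (f : ι → ℤ) :
    ∏ i ∈ s, t ^ f i = t ^ ∑ i ∈ s, f i := by
  classical
  induction s using Finset.induction_on with
  | empty => simp
  | insert a s ha ih => rw [Finset.prod_insert ha, Finset.sum_insert ha, zpow_add, ih]

section

variable {D : ChevalleyDatum} {l : ℕ} {M : CoxeterMatrix (Fin l)} (hp : IsType D l M) {K : Type u} [Field K]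

theorem coord : Coord (XX D l K) (fun _ : Fin l => K) (fun i => sl hp (K := K) i) where
  up i := coe_X hp i
  lo i := coe_X_neg hp i

/-- the torus element `∏ h_i(t^{m_i})` -/
noncomputable def sg (hp : IsType D l M) (m : Fin l → ℤ) (t : Kˣ) : ↥(D.group K) := th hp fun i => t ^ m i

variable (m : Fin l → ℤ) (t : Kˣ)

theorem sg_mem : sg hp m t ∈ TT D K := (thT hp _).2

theorem ch_sg {r : ℕ} (hr : r < D.nroots) :
    ch hp (vec D l r) (sg hp m t) = ((t ^ (∑ i : Fin l, m i * D.cartan i r) : Kˣ) : K) := by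
  have h1 := chH_thT hp hr (fun i => t ^ m i)
  have h2 : ch hp (vec D l r) (sg hp m t) = chH hp hr (thT hp fun i => t ^ m i) := rfl
  rw [h2, h1, ← prod_zpow, Units.coe_prod]
  refine Finset.prod_congr rfl fun i _ => ?_
  rw [← Units.val_zpow_eq_zpow_val, ← zpow_mul]

theorem act_sg {r : ℕ} (hr : r < D.nroots) (a : K) :
    sg hp m t * xc hp (vec D l r) a * (sg hp m t)⁻¹ =
      xc hp (vec D l r) (((t ^ (∑ i : Fin l, m i * D.cartan i r) : Kˣ) : K) * a) := by
  rw [(act hp hr (sg_mem hp m t)).2, ch_sg hp m t hr]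

/-- the product of the reflections of a word -/
noncomputable def wd (hp : IsType D l M) (K : Type u) [Field K] (ω : List (Fin l)) : ↥(D.group K) :=
  (ω.map (nc hp K)).prod

/-- the image of a root under a word -/
def fr (D : ChevalleyDatum) {l : ℕ} (ω : List (Fin l)) (r : ℕ) : ℕ := ω.foldr (fun i q => D.reflectRoot i q) r

include hp in
theorem fr_lt (ω : List (Fin l)) {r : ℕ} (hr : r < D.nroots) : fr D ω r < D.nroots := by
  induction ω with
  | nil => exact hr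
  | cons i ω ih => exact reflectRoot_lt hp.inList (lt_rank hp i) ih

theorem wd_act (ω : List (Fin l)) {r : ℕ} (hr : r < D.nroots) : ∃ c : K, c ≠ 0 ∧ ∀ a,
    wd hp K ω * xc hp (vec D l r) a * (wd hp K ω)⁻¹ = xc hp (vec D l (fr D ω r)) (c * a) := by
  induction ω with
  | nil =>
    refine ⟨1, one_ne_zero, fun a => ?_⟩
    rw [one_mul]
    change 1 * xc hp (vec D l r) a * 1⁻¹ = _
    rw [one_mul, inv_one, mul_one]
    rfl
  | cons i ω ih =>
    obtain ⟨c, hc, e⟩ := ih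
    obtain ⟨c', hc', e'⟩ := nact hp (K := K) (i := i) (fr_lt hp ω hr)
    refine ⟨c' * c, mul_ne_zero hc' hc, fun a => ?_⟩
    have h1 : wd hp K (i :: ω) = nc hp K i * wd hp K ω := by
      unfold wd
      rw [List.map_cons, List.prod_cons]
    rw [h1]
    calc nc hp K i * wd hp K ω * xc hp (vec D l r) a * (nc hp K i * wd hp K ω)⁻¹
        = nc hp K i * (wd hp K ω * xc hp (vec D l r) a * (wd hp K ω)⁻¹) * (nc hp K i)⁻¹ := by group
      _ = xc hp (vec D l (D.reflectRoot i (fr D ω r))) (c' * (c * a)) := by rw [e, e']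
      _ = _ := by rw [mul_assoc]; rfl

theorem fr_vec {W : Type*} [Group W] (cs : CoxeterSystem M W) (ω : List (Fin l)) {r : ℕ} (hr : r < D.nroots) :
    vec D l (fr D ω r) = rep cs hp.isCartan (cs.wordProd ω) (vec D l r) := by
  induction ω with
  | nil => rw [wordProd_nil, map_one, Module.End.one_apply]; rfl
  | cons i ω ih =>
    rw [wordProd_cons, rep_mul_apply, ← ih, rep_vec hp cs i (fr_lt hp ω hr)]
    rfl


theorem wd_norm [Finite K] (p : ℕ) [Fact p.Prime] [CharP K p] (ω : List (Fin l)) :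
    wd hp K ω ∈ Subgroup.normalizer (TT D K : Set ↥(D.group K)) := by
  have R := rgd (K := K) hp M.toCoxeterSystem p
  refine list_prod_mem fun g hg => ?_
  obtain ⟨i, -, rfl⟩ := List.mem_map.1 hg
  exact R.nsys.norm i

theorem xc_zero {r : ℕ} (hr : r < D.nroots) : xc (K := K) hp (vec D l r) 0 = 1 := by
  apply Subtype.ext
  rw [coe_xc hp hr, xG_zero]
  rfl

/-- elements of the torus with the same characters are equal -/
theorem eq_of_ch [Finite K] (hZ : Subgroup.center ↥(D.group K) = ⊥) {a b : ↥(D.group K)} (ha : a ∈ TT D K)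
    (hb : b ∈ TT D K) (h : ∀ r < D.nroots, ch hp (vec D l r) a = ch hp (vec D l r) b) : a = b := by
  have h1 : b⁻¹ * a ∈ Subgroup.center ↥(D.group K) := by
    rw [Subgroup.mem_center_iff]
    intro g
    have h2 : (⊤ : Subgroup ↥(D.group K)) ≤ Subgroup.centralizer {b⁻¹ * a} := by
      rw [← G1_eq_top hp (M.toCoxeterSystem) (K := K)]
      refine RGD.Sup_le fun x hx => ?_
      obtain ⟨r, hr, rfl⟩ := (isRoot_iff hp _ x).1 hx
      intro y hy
      obtain ⟨c, rfl⟩ := (mem_XX hp hr y).1 hy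
      rw [Subgroup.mem_centralizer_singleton_iff]
      have e1 := (act hp hr ha).2 c
      have e2 := (act hp hr hb).2 c
      rw [h r hr, ← e2] at e1
      calc xc hp (vec D l r) c * (b⁻¹ * a) = b⁻¹ * (b * xc hp (vec D l r) c * b⁻¹) * a := by group
        _ = b⁻¹ * (a * xc hp (vec D l r) c * a⁻¹) * a := by rw [e1]
        _ = b⁻¹ * a * xc hp (vec D l r) c := by group
    exact (Subgroup.mem_centralizer_singleton_iff.1 (h2 (Subgroup.mem_top g)))
  rw [hZ, Subgroup.mem_bot] at h1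
  calc a = b * (b⁻¹ * a) := by group
    _ = b := by rw [h1, mul_one]

/-! ### The tables of the semisimple element -/

/-- the height outside `J` -/
def lam {l : ℕ} (J : List (Fin l)) (v : Fin l → ℤ) : ℤ := ∑ k : Fin l, if k ∈ J then 0 else v k

/-- the table of the semisimple element -/
structure TabS (D : ChevalleyDatum) (l : ℕ) (J : List (Fin l)) (m : Fin l → ℤ) (ω : List (Fin l)) : Prop where
  hm : ∀ j : Fin l, ∑ i : Fin l, m i * D.cartan i (D.simple j) = if j ∈ J then 0 else 1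
  ht : ∀ q < D.nroots, (∃ k : Fin l, k ∉ J ∧ vec D l q k ≠ 0) → lam J (vec D l q) ≠ 0 ∧ |lam J (vec D l q)| ≤ 7
  wr : ∀ j : Fin l, lam J (vec D l (fr D ω (D.simple j))) = - lam J (vec D l (D.simple j))

variable {m} {J : List (Fin l)} {ω : List (Fin l)} (TS : TabS D l J m ω)

include hp TS

theorem lam_eq {r : ℕ} (hr : r < D.nroots) : ∑ i : Fin l, m i * D.cartan i r = lam J (vec D l r) := by
  have h1 : ∀ i : Fin l, D.cartan i r = ∑ j : Fin l, D.cartan i (D.simple j) * vec D l r j := by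
    intro i
    rw [← pairing_vec hp i hr]
    rfl
  have h2 : ∀ i : Fin l, m i * D.cartan i r = ∑ j : Fin l, m i * D.cartan i (D.simple j) * vec D l r j := by
    intro i
    rw [h1 i, Finset.mul_sum]
    exact Finset.sum_congr rfl fun j _ => (mul_assoc _ _ _).symm
  rw [Finset.sum_congr rfl fun i _ => h2 i, Finset.sum_comm]
  unfold lam
  refine Finset.sum_congr rfl fun j _ => ?_
  rw [← Finset.sum_mul, TS.hm]
  split_ifs <;> simp

theorem lam_fr {r : ℕ} (hr : r < D.nroots) : lam J (vec D l (fr D ω r)) = - lam J (vec D l r) := by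
  have key : ∀ v : Fin l → ℤ, lam J (rep M.toCoxeterSystem hp.isCartan (M.toCoxeterSystem.wordProd ω) v) =
      - lam J v := by
    let L : (Fin l → ℤ) →ₗ[ℤ] ℤ := ∑ k : Fin l, if k ∈ J then 0 else LinearMap.proj k
    have hL : ∀ v, L v = lam J v := by
      intro v
      simp only [L, lam, LinearMap.sum_apply]
      refine Finset.sum_congr rfl fun k _ => ?_
      split_ifs <;> simp
    have h1 : L ∘ₗ (rep M.toCoxeterSystem hp.isCartan (M.toCoxeterSystem.wordProd ω)) = - L := by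
      refine LinearMap.pi_ext' fun i => ?_
      refine LinearMap.ext_ring ?_
      change L (rep M.toCoxeterSystem hp.isCartan (M.toCoxeterSystem.wordProd ω) (Pi.single i 1)) =
        - L (Pi.single i 1)
      have h2 : (Pi.single i 1 : Fin l → ℤ) = vec D l (D.simple i) := (vec_simple hp i).symm
      rw [h2, hL, hL, ← fr_vec hp M.toCoxeterSystem ω (simple_lt hp.inList (lt_rank hp i)), TS.wr i]
    intro v
    rw [← hL, ← hL]
    exact LinearMap.congr_fun h1 v
  rw [fr_vec hp M.toCoxeterSystem ω hr, key]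

theorem ch_sg' {r : ℕ} (hr : r < D.nroots) :
    ch hp (vec D l r) (sg hp m t) = ((t ^ lam J (vec D l r) : Kˣ) : K) := by
  rw [ch_sg hp m t hr, lam_eq hp TS hr]

theorem act_sg' {r : ℕ} (hr : r < D.nroots) (a : K) :
    sg hp m t * xc hp (vec D l r) a * (sg hp m t)⁻¹ = xc hp (vec D l r) (((t ^ lam J (vec D l r) : Kˣ) : K) * a) := by
  rw [act_sg hp m t hr, lam_eq hp TS hr]

theorem noFix (h7 : ∀ k : ℤ, k ≠ 0 → |k| ≤ 7 → t ^ k ≠ 1) :
    NoFix M.toCoxeterSystem hp.isCartan (XX D l K) {k | k ∈ J} (sg hp m t) := by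
  intro x hx hk a ha hsa
  obtain ⟨r, hr, rfl⟩ := (isRoot_iff hp _ x).1 hx
  obtain ⟨c, rfl⟩ := (mem_XX hp hr a).1 ha
  obtain ⟨h1, h2⟩ := TS.ht r hr hk
  rw [act_sg' hp t TS hr] at hsa
  have h3 := xc_inj hp hr hsa
  by_cases hc : c = 0
  · rw [hc, xc_zero hp hr]
  · exfalso
    apply h7 _ h1 h2
    apply Units.ext
    rw [Units.val_one]
    exact mul_right_cancel₀ hc (by rw [h3, one_mul])

theorem wd_sg [Finite K] (p : ℕ) [Fact p.Prime] [CharP K p] (hZ : Subgroup.center ↥(D.group K) = ⊥) :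
    wd hp K ω * sg hp m t * (wd hp K ω)⁻¹ = (sg hp m t)⁻¹ := by
  have hs := sg_mem (K := K) hp m t
  have hn := wd_norm (K := K) hp p ω
  have hn' := inv_mem hn
  have h1 : (wd hp K ω)⁻¹ * sg hp m t * (wd hp K ω) ∈ TT D K := by
    have := (Subgroup.mem_normalizer_iff.1 hn' (sg hp m t)).1 hs
    rwa [inv_inv] at this
  have h2 : (wd hp K ω)⁻¹ * sg hp m t * wd hp K ω = (sg hp m t)⁻¹ := by
    refine eq_of_ch hp hZ h1 (inv_mem hs) fun r hr => ?_
    obtain ⟨c, hc, e⟩ := wd_act (K := K) hp ω hr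
    have e1 : ch hp (vec D l r) (sg hp m t)⁻¹ = ((t ^ (- lam J (vec D l r)) : Kˣ) : K) := by
      refine ch_eq hp hr (inv_mem hs) ?_
      have h3 := act_sg' (K := K) hp t TS hr (((t ^ (- lam J (vec D l r)) : Kˣ) : K))
      rw [← Units.val_mul, ← zpow_add, add_neg_cancel, zpow_zero, Units.val_one] at h3
      rw [← h3]
      group
    rw [e1]
    refine ch_eq hp hr h1 ?_
    have h4 := act_sg' (K := K) hp t TS (fr_lt hp ω hr) (c * 1)
    rw [← e 1, lam_fr hp TS hr] at h4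
    have h5 : wd hp K ω * xc hp (vec D l r) ((t ^ (- lam J (vec D l r)) : Kˣ) : K) * (wd hp K ω)⁻¹ =
        sg hp m t * (wd hp K ω * xc hp (vec D l r) 1 * (wd hp K ω)⁻¹) * (sg hp m t)⁻¹ := by
      rw [h4, e]
      congr 1
      ring
    calc (wd hp K ω)⁻¹ * sg hp m t * wd hp K ω * xc hp (vec D l r) 1 * ((wd hp K ω)⁻¹ * sg hp m t * wd hp K ω)⁻¹
        = (wd hp K ω)⁻¹ * (sg hp m t * (wd hp K ω * xc hp (vec D l r) 1 * (wd hp K ω)⁻¹) * (sg hp m t)⁻¹) *
            wd hp K ω := by group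
      _ = _ := by rw [← h5]; group
  have h3 : sg hp m t = wd hp K ω * (sg hp m t)⁻¹ * (wd hp K ω)⁻¹ := by rw [← h2]; group
  calc wd hp K ω * sg hp m t * (wd hp K ω)⁻¹ = (wd hp K ω * (sg hp m t)⁻¹ * (wd hp K ω)⁻¹)⁻¹ := by group
    _ = (sg hp m t)⁻¹ := by rw [← h3]

omit TS

/-! ### The tables of the block -/

/-- the table of a block of type `A_{n+1}` -/
structure TabB (D : ChevalleyDatum) (l : ℕ) (J : List (Fin l)) (e : Fin l → ℤ) (ω : List (Fin l)) (n : ℕ)
    (r : Fin (n + 2) → Fin (n + 2) → ℕ) : Prop where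
  rlt : ∀ a b, a ≠ b → r a b < D.nroots
  rJ : ∀ a b, a ≠ b → ∀ k, k ∉ J → vec D l (r a b) k = 0
  sub : ∀ q < D.nroots, (∀ k, k ∉ J → vec D l q k = 0) → ∃ a b, a ≠ b ∧ r a b = q ∧
    (a < b → ∃ k, 0 < vec D l q k) ∧ (b < a → ∃ k, vec D l q k < 0)
  he : ∀ a b, a ≠ b → ∑ i : Fin l, e i * D.cartan i (r a b) = (if a = 0 then 1 else 0) - (if b = 0 then 1 else 0)
  wb : ∀ a b, a ≠ b → fr D ω (r a b) = r b a

variable {e : Fin l → ℤ} {n : ℕ} {r : Fin (n + 2) → Fin (n + 2) → ℕ} (TB : TabB D l J e ω n r)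
  {φ : Matrix.SpecialLinearGroup (Fin (n + 2)) K →* ↥(D.group K)} {s : Fin (n + 2) → Fin (n + 2) → K}
  (hs : ∀ a b, s a b ≠ 0)
  (hφ : ∀ a b (hab : a ≠ b) c, φ (Matrix.SpecialLinearGroup.transvection hab c) = xc hp (vec D l (r a b)) (s a b * c))

omit hp in
theorem lam_zero {v : Fin l → ℤ} (h : ∀ k, k ∉ J → v k = 0) : lam J v = 0 := by
  unfold lam
  refine Finset.sum_eq_zero fun k _ => ?_
  split_ifs with h1
  · rfl
  · exact h k h1

include TB hφ

theorem comm_phi (TS : TabS D l J m ω) (A : Matrix.SpecialLinearGroup (Fin (n + 2)) K) :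
    sg hp m t * φ A = φ A * sg hp m t := by
  have h1 : (MulAut.conj (sg hp m t)).toMonoidHom.comp φ = φ := by
    refine hom_ext fun a b hab c => ?_
    change sg hp m t * φ _ * (sg hp m t)⁻¹ = φ _
    rw [hφ, act_sg' hp t TS (TB.rlt a b hab), lam_zero (TB.rJ a b hab), zpow_zero, Units.val_one, one_mul]
  have h2 := DFunLike.congr_fun h1 A
  change sg hp m t * φ A * (sg hp m t)⁻¹ = φ A at h2
  calc sg hp m t * φ A = (sg hp m t * φ A * (sg hp m t)⁻¹) * sg hp m t := by group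
    _ = φ A * sg hp m t := by rw [h2]

theorem phi_mem (A : Matrix.SpecialLinearGroup (Fin (n + 2)) K) :
    φ A ∈ LJ M.toCoxeterSystem hp.isCartan (TT D K) (XX D l K) {k | k ∈ J} := by
  have h1 : (⊤ : Subgroup (Matrix.SpecialLinearGroup (Fin (n + 2)) K)) ≤
      (LJ M.toCoxeterSystem hp.isCartan (TT D K) (XX D l K) {k | k ∈ J}).comap φ := by
    rw [← Cfsg.Agent.LieClassical.SLGen.closure_transvections, Subgroup.closure_le]
    rintro _ ⟨a, b, hab, c, rfl⟩
    change φ _ ∈ LJ M.toCoxeterSystem hp.isCartan (TT D K) (XX D l K) {k | k ∈ J}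
    rw [hφ]
    refine X_le_LJ (J := {k | k ∈ J}) (x := vec D l (r a b)) ⟨isRoot_vec hp _ (TB.rlt a b hab), TB.rJ a b hab⟩ ?_
    exact (mem_XX hp (TB.rlt a b hab) _).2 ⟨_, rfl⟩
  exact h1 (Subgroup.mem_top A)

include hs

theorem up_phi (x : Fin l → ℤ) (hx : x ∈ Cfsg.Agent.Nodes.StabComb.PosJ M.toCoxeterSystem hp.isCartan {k | k ∈ J}) :
    XX D l K x ≤ (UT (n + 2) K).map φ := by
  obtain ⟨q, hq, rfl⟩ := (isRoot_iff hp _ x).1 hx.1
  obtain ⟨a, b, hab, rfl, h1, h2⟩ := TB.sub q hq hx.2.2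
  have hlt : a < b := by
    rcases lt_or_gt_of_ne hab with h | h
    · exact h
    · obtain ⟨k, hk⟩ := h2 h
      exact absurd (hx.2.1 k) (not_le.2 hk)
  intro y hy
  obtain ⟨c, rfl⟩ := (mem_XX hp hq y).1 hy
  refine ⟨Matrix.SpecialLinearGroup.transvection hab ((s a b)⁻¹ * c), tv_mem_UT hab hlt _, ?_⟩
  rw [hφ, mul_inv_cancel_left₀ (hs a b)]

theorem lo_phi (x : Fin l → ℤ) (hx : x ∈ Cfsg.Agent.Nodes.StabComb.PosJ M.toCoxeterSystem hp.isCartan {k | k ∈ J}) :
    XX D l K (-x) ≤ (LT (n + 2) K).map φ := by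
  obtain ⟨q, hq, hqx⟩ := (isRoot_iff hp _ (-x)).1 hx.1.neg
  have hx' : ∀ k, vec D l q k = - x k := fun k => by rw [hqx, Pi.neg_apply]
  obtain ⟨a, b, hab, rfl, h1, h2⟩ := TB.sub q hq (fun k hk => by rw [hx', hx.2.2 k hk, neg_zero])
  have hlt : b < a := by
    rcases lt_or_gt_of_ne hab with h | h
    · obtain ⟨k, hk⟩ := h1 h
      rw [hx'] at hk
      have h3 : 0 ≤ x k := hx.2.1 k
      exact absurd hk (not_lt.2 (neg_nonpos.2 h3))
    · exact h
  rw [← hqx]
  intro y hy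
  obtain ⟨c, rfl⟩ := (mem_XX hp hq y).1 hy
  refine ⟨Matrix.SpecialLinearGroup.transvection hab ((s a b)⁻¹ * c), tv_mem_LT hab hlt _, ?_⟩
  rw [hφ, mul_inv_cancel_left₀ (hs a b)]

omit hs in
theorem gl_phi (TS : TabS D l J m ω) (g : GL (Fin (n + 2)) K) :
    ∃ y : ↥(D.group K), y * sg hp m t * y⁻¹ = sg hp m t ∧ ∀ A, y * φ A * y⁻¹ = φ (gc g A) := by
  refine gl_of_dd (comm_phi hp t TB hφ TS) (fun d => ⟨sg hp e d, ?_, ?_⟩) g
  · have h1 := congrArg Subtype.val (comm_TT hp (⟨sg hp e d, sg_mem hp e d⟩ : ↥(TT D K)) ⟨sg hp m t, sg_mem hp m t⟩)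
    change sg hp e d * sg hp m t = sg hp m t * sg hp e d at h1
    rw [h1]
    group
  · have h1 : (MulAut.conj (sg hp e d)).toMonoidHom.comp φ = φ.comp (gcHom (dd (n + 1) d)) := by
      refine hom_ext fun a b hab c => ?_
      change sg hp e d * φ _ * (sg hp e d)⁻¹ = φ (gc (dd (n + 1) d) _)
      rw [gc_dd_transvection, hφ, hφ, act_sg hp e d (TB.rlt a b hab), TB.he a b hab]
      congr 1
      by_cases ha : a = 0
      · have hb : b ≠ 0 := fun h => hab (ha.trans h.symm)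
        simp [ha, hb]
        ring
      · by_cases hb : b = 0
        · simp [ha, hb]
          ring
        · simp [ha, hb]
    exact fun A => DFunLike.congr_fun h1 A

theorem inv_phi [Finite K] (p : ℕ) [Fact p.Prime] [CharP K p] (hZ : Subgroup.center ↥(D.group K) = ⊥)
    (TS : TabS D l J m ω) : ∃ y : ↥(D.group K), y * sg hp m t * y⁻¹ = (sg hp m t)⁻¹ ∧
      ∃ g : GL (Fin (n + 2)) K, y * φ (JS (n + 2) K) * y⁻¹ = φ (gc g (JS (n + 2) K)) := by
  -- the transvections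
  have h1 : ∀ i : Fin (n + 1), ∃ c : K, c ≠ 0 ∧
      wd hp K ω * φ (Matrix.SpecialLinearGroup.transvection (cs_ne i) 1) * (wd hp K ω)⁻¹ =
        φ (Matrix.SpecialLinearGroup.transvection (cs_ne i).symm c) := by
    intro i
    obtain ⟨c, hc, h⟩ := wd_act (K := K) hp ω (TB.rlt _ _ (cs_ne i))
    refine ⟨(s i.succ i.castSucc)⁻¹ * (c * s i.castSucc i.succ),
      mul_ne_zero (inv_ne_zero (hs _ _)) (mul_ne_zero hc (hs _ _)), ?_⟩
    rw [hφ, h, hφ, TB.wb _ _ (cs_ne i), mul_inv_cancel_left₀ (hs _ _), mul_one]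
  choose κ hκ h2 using h1
  have h3 : wd hp K ω * φ (pU fun _ : Fin (n + 1) => (1 : K)) * (wd hp K ω)⁻¹ = φ (pL κ) := by
    change ((MulAut.conj (wd hp K ω)).toMonoidHom.comp φ) _ = _
    unfold pU pL
    rw [map_list_prod, map_list_prod, List.map_ofFn, List.map_ofFn]
    congr 2
    funext i
    exact h2 i
  obtain ⟨g₁, hg₁⟩ := exists_pU (K := K) (c := fun _ : Fin (n + 1) => (1 : K)) fun _ => one_ne_zero
  obtain ⟨g₂, hg₂⟩ := exists_pL hκ
  obtain ⟨y, hy1, hy2⟩ := gl_phi hp t TB hφ TS g₁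
  refine ⟨wd hp K ω * y, ?_, g₂, ?_⟩
  · calc wd hp K ω * y * sg hp m t * (wd hp K ω * y)⁻¹ = wd hp K ω * (y * sg hp m t * y⁻¹) * (wd hp K ω)⁻¹ := by group
      _ = _ := by rw [hy1, wd_sg hp t TS p hZ]
  · calc wd hp K ω * y * φ (JS (n + 2) K) * (wd hp K ω * y)⁻¹
        = wd hp K ω * (y * φ (JS (n + 2) K) * y⁻¹) * (wd hp K ω)⁻¹ := by group
      _ = _ := by rw [hy2, ← hg₁, h3, hg₂]

theorem blk [Finite K] (p : ℕ) [Fact p.Prime] [CharP K p] (hZ : Subgroup.center ↥(D.group K) = ⊥)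
    (TS : TabS D l J m ω) (h7 : ∀ k : ℤ, k ≠ 0 → |k| ≤ 7 → t ^ k ≠ 1) :
    Blk M.toCoxeterSystem hp.isCartan (TT D K) (XX D l K) {k | k ∈ J} K n (sg hp m t) φ where
  mem := sg_mem hp m t
  fix := noFix hp t TS h7
  comm := comm_phi hp t TB hφ TS
  range := phi_mem hp TB hφ
  up := up_phi hp TB hs hφ
  lo := lo_phi hp TB hs hφ
  gl := gl_phi hp t TB hφ TS
  inv := inv_phi hp t TB hs hφ p hZ TS

end

end Cfsg.Agent.H162.GaussExc
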