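import Cfsg.Agent.H162.WeilFam2

/-!
# Representations of rank at most two: the relation `R3` for rank two weights (helper162)
-/

set_option autoImplicit false
open Matrix

namespace Cfsg.Agent.H162.Weil

variable {F : Type*} [Field F] {n : ℕ} [Fintype F] {V : Type*} [AddCommGroup V] [Module ℂ V]
  {ρ : Representation ℂ (Sp n F) V} {ψ : AddChar F ℂ}

/-- Every weight has rank at most two. -/
def RkTwo (ρ : Representation ℂ (Sp n F) V) (ψ : AddChar F ℂ) : Prop :=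
  ∀ T ∈ Sym n F, ∀ v ∈ Wt ρ ψ T, v ≠ 0 → ∀ r c : Fin 3 → Fin n, (T.submatrix r c).det = 0

/-- The rank two weight. -/
def TU (a b : F) (x y : Fin n → F) : Matrix (Fin n) (Fin n) F := TT a x + TT b y

theorem TU_mem (a b : F) (x y : Fin n → F) : TU a b x y ∈ Sym n F :=
  add_mem (TT_mem a x) (TT_mem b y)

theorem TU_apply (a b : F) (x y : Fin n → F) (k l : Fin n) :
    TU a b x y k l = a * (x k * x l) + b * (y k * y l) := by
  rw [TU, Matrix.add_apply, TT_apply, TT_apply]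

theorem pr_TU (a b : F) (x y : Fin n → F) (S : Matrix (Fin n) (Fin n) F) :
    pr (TU a b x y) S = a * (x ⬝ᵥ (S *ᵥ x)) + b * (y ⬝ᵥ (S *ᵥ y)) := by
  rw [TU, pr_add_left, pr_TT, pr_TT]

theorem actT_TU (h : GL (Fin n) F) (a b : F) (x y : Fin n → F) :
    actT h (TU a b x y) = TU a b (x ᵥ* ((h⁻¹ : GL (Fin n) F) : Matrix (Fin n) (Fin n) F))
      (y ᵥ* ((h⁻¹ : GL (Fin n) F) : Matrix (Fin n) (Fin n) F)) := by
  have h1 : actT h (TU a b x y) = actT h (TT a x) + actT h (TT b y) := by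
    simp only [actT, TU, Matrix.mul_add, Matrix.add_mul]
  rw [h1, actT_TT, actT_TT, TU]

theorem mm_mem_TU (h : GL (Fin n) F) {a b : F} {x y : Fin n → F} {v : V}
    (hv : v ∈ Wt ρ ψ (TU a b x y)) :
    ρ (mm h) v ∈ Wt ρ ψ (TU a b (x ᵥ* ((h⁻¹ : GL (Fin n) F) : Matrix (Fin n) (Fin n) F))
      (y ᵥ* ((h⁻¹ : GL (Fin n) F) : Matrix (Fin n) (Fin n) F))) := by
  rw [← actT_TU]; exact mm_mem_Wt h hv

theorem uu_TU_single {a b : F} {i k : Fin n} {v : V}
    (hv : v ∈ Wt ρ ψ (TU a b (Pi.single i 1) (Pi.single k 1)))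
    (S : Sym n F) : ρ (uu S) v = ψ (a * S.1 i i + b * S.1 k k) • v := by
  rw [hv S, pr_TU]
  simp

section F2

variable (hψ : ψ.IsPrimitive) (h2 : (2 : F) ≠ 0) (hR : RkTwo ρ ψ) {i k j : Fin n} (hik : i ≠ k)
  (hij : i ≠ j) (hkj : k ≠ j) {a b : F} (ha : a ≠ 0) (hb : b ≠ 0)

include hik ha hb in
/-- the rank two formula -/
theorem RkTwo.formula (hR : RkTwo ρ ψ) {T : Matrix (Fin n) (Fin n) F} (hT : T ∈ Sym n F) {v : V}
    (hv : v ∈ Wt ρ ψ T) (hne : v ≠ 0) (hii : T i i = a) (hkk : T k k = b) (h0 : T i k = 0)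
    (p q : Fin n) : T p q = a⁻¹ * (T i p * T i q) + b⁻¹ * (T k p * T k q) := by
  have h := hR T hT v hv hne ![i, k, p] ![i, k, q]
  rw [Matrix.det_fin_three] at h
  simp only [submatrix_apply, Matrix.cons_val_zero, Matrix.cons_val_one, Matrix.cons_val_two,
    Matrix.head_cons, Matrix.tail_cons, Matrix.cons_val] at h
  have hs : ∀ x y, T x y = T y x := fun x y => Sym.apply ⟨T, hT⟩ x y
  rw [hii, hkk, h0, hs k i, h0, hs p i, hs p k] at h
  field_simp
  linear_combination h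

include hij hkj in
theorem ev2_vecMul (y y' : F) :
    ev k j y' ᵥ* (((tv i j hij (-y))⁻¹ : GL (Fin n) F) : Matrix (Fin n) (Fin n) F) =
      ev k j y' + Pi.single j (ev k j y' i * y) := by
  rw [tv_inv_coe, vecMul_add, vecMul_one, vecMul_sgl, neg_neg]

theorem ev_ne {i k j : Fin n} (hik : i ≠ k) (hij : i ≠ j) (y : F) : ev k j y i = 0 := by
  simp [ev, hik, hij]

theorem ev_self {i j : Fin n} (hij : i ≠ j) (y : F) : ev i j y i = 1 := by
  simp [ev, hij]

theorem ev_snd {i j : Fin n} (hij : i ≠ j) (y : F) : ev i j y j = y := by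
  simp [ev, hij.symm]

/-- The operators `N(y₁, y₂)`. -/
noncomputable def Nz (ρ : Representation ℂ (Sp n F) V) (i k j : Fin n) (hij : i ≠ j)
    (hkj : k ≠ j) (y : F × F) : V →ₗ[ℂ] V := Ny ρ i j hij y.1 ∘ₗ Ny ρ k j hkj y.2

theorem Nz_apply (y : F × F) (v : V) :
    Nz ρ i k j hij hkj y v = Ny ρ i j hij y.1 (Ny ρ k j hkj y.2 v) := rfl

/-- the group element of `Nz` -/
def nz (i k j : Fin n) (hij : i ≠ j) (hkj : k ≠ j) (y : F × F) : GL (Fin n) F :=
  tv i j hij (-y.1) * tv k j hkj (-y.2)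

theorem Nz_eq (y : F × F) : Nz ρ i k j hij hkj y = ρ (mm (nz i k j hij hkj y)) := by
  apply LinearMap.ext
  intro v
  rw [Nz_apply, Ny, Ny, ← rho_mul, ← map_mul, nz]

include hik in
theorem ev_nz1 (y y' : F × F) :
    ev i j y'.1 ᵥ* (((nz i k j hij hkj y)⁻¹ : GL (Fin n) F) : Matrix (Fin n) (Fin n) F) =
      ev i j (y.1 + y'.1) := by
  rw [nz, _root_.mul_inv_rev, Units.val_mul, ← vecMul_vecMul, ev2_vecMul hkj hij, ev_ne hik.symm hkj,
    zero_mul, Pi.single_zero, add_zero, ev_vecMul hij]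

include hik in
theorem ev_nz2 (y y' : F × F) :
    ev k j y'.2 ᵥ* (((nz i k j hij hkj y)⁻¹ : GL (Fin n) F) : Matrix (Fin n) (Fin n) F) =
      ev k j (y.2 + y'.2) := by
  rw [nz, _root_.mul_inv_rev, Units.val_mul, ← vecMul_vecMul, ev_vecMul hkj, ev2_vecMul hij hkj,
    ev_ne hik hij, zero_mul, Pi.single_zero, add_zero]

/-- the weights -/
abbrev TV (a b : F) (i k j : Fin n) (y : F × F) : Matrix (Fin n) (Fin n) F :=
  TU a b (ev i j y.1) (ev k j y.2)

theorem TV_apply (a b : F) (i k j : Fin n) (y : F × F) (p q : Fin n) :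
    TV a b i k j y p q = a * (ev i j y.1 p * ev i j y.1 q) + b * (ev k j y.2 p * ev k j y.2 q) :=
  TU_apply _ _ _ _ _ _

include hik in
theorem Nz_mem {y y' : F × F} {v : V} (hv : v ∈ Wt ρ ψ (TV a b i k j y')) :
    Nz ρ i k j hij hkj y v ∈ Wt ρ ψ (TV a b i k j (y + y')) := by
  have := mm_mem_TU (nz i k j hij hkj y) hv
  rwa [ev_nz1 hik hij hkj, ev_nz2 hik hij hkj, ← Nz_eq] at this

include hik in
theorem Nz_Pj (y y' : F × F) (v : V) :
    Nz ρ i k j hij hkj y (Pj ρ ψ (TV a b i k j y') v) =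
      Pj ρ ψ (TV a b i k j (y + y')) (Nz ρ i k j hij hkj y v) := by
  rw [Nz_eq, mm_Pj, actT_TU, ev_nz1 hik hij hkj, ev_nz2 hik hij hkj]
  rfl

theorem Nz_zero (v : V) : Nz ρ i k j hij hkj 0 v = v := by
  have : ∀ (i j : Fin n) (hij : i ≠ j), tv i j hij (0 : F) = 1 := by
    intro i j hij
    apply Units.ext
    rw [tv_coe]; simp
  rw [Nz_eq, nz, Prod.fst_zero, Prod.snd_zero, neg_zero, this, this, mul_one, map_one, map_one,
    Module.End.one_apply]

include hik hij hkj ha hb in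
theorem TV_inj : Function.Injective (fun y : F × F => TV a b i k j y) := by
  intro y y' h
  have h1 := congrFun (congrFun h i) j
  have h3 := congrFun (congrFun h k) j
  simp only [TU_apply, ev_self hij, ev_self hkj, ev_ne hik hij, ev_ne hik.symm hkj,
    ev_snd hij, ev_snd hkj, zero_mul, mul_zero, add_zero, zero_add, one_mul] at h1 h3
  exact Prod.ext (mul_left_cancel₀ ha h1) (mul_left_cancel₀ hb h3)

theorem TV_zero : TV a b i k j 0 = TU a b (Pi.single i 1) (Pi.single k 1) := by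
  rw [TV, Prod.fst_zero, Prod.snd_zero, ev_zero, ev_zero]

/-- The operator `K`. -/
noncomputable def Lop (ρ : Representation ℂ (Sp n F) V) (ψ : AddChar F ℂ) (i k j : Fin n)
    (a b : F) (v : V) : V := Pj ρ ψ (TV a b i k j 0) (ρ (ww j) v)

include hψ h2 hR hik hij hkj ha hb in
theorem ww_decomp2 {v : V} (hv : v ∈ Wt ρ ψ (TU a b (Pi.single i 1) (Pi.single k 1))) :
    ∑ y : F × F, Pj ρ ψ (TV a b i k j y) (ρ (ww j) v) = ρ (ww j) v := by
  classical
  conv_rhs => rw [← sum_Pj (ρ := ρ) hψ h2 (ρ (ww j) v)]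
  refine Fintype.sum_of_injective (fun y => (⟨TV a b i k j y, TU_mem _ _ _ _⟩ : Sym n F))
    (fun y y' h => TV_inj hik hij hkj ha hb (congrArg Subtype.val h)) _ _ ?_ (fun y => rfl)
  intro T hT
  by_contra h0
  apply hT
  have hTm := Pj_mem (ρ := ρ) (ψ := ψ) T.1 (ρ (ww j) v)
  -- action of `uu S` commuting with `ww j`
  have h1 : ∀ S : Sym n F, (∀ k, S.1 j k = 0) →
      ψ (pr T.1 S.1) = ψ (a * S.1 i i + b * S.1 k k) := by
    intro S hS
    have h3 := hTm S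
    rw [rho_uu_Pj, ← rho_mul, ← ww_comm_uu j S hS, rho_mul, uu_TU_single hv, map_smul,
      map_smul] at h3
    have h4 : (ψ (a * S.1 i i + b * S.1 k k) - ψ (pr T.1 S.1)) •
        Pj ρ ψ T.1 (ρ (ww j) v) = 0 := by
      rw [sub_smul, h3, sub_self]
    rcases smul_eq_zero.mp h4 with h5 | h5
    · exact (sub_eq_zero.mp h5).symm
    · exact absurd h5 h0
  have hpsi : ∀ x y : F, ψ x = ψ y → ψ (x - y) = 1 := by
    intro x y h
    rw [sub_eq_add_neg, AddChar.map_add_eq_mul, h, ← AddChar.map_add_eq_mul, add_neg_cancel,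
      AddChar.map_zero_eq_one]
  have hdd : ∀ l, l ≠ j → T.1 l l = a * (if l = i then 1 else 0) + b * (if l = k then 1 else 0) := by
    intro l hl
    by_contra hne
    obtain ⟨s, hs⟩ := exists_ne_one hψ (sub_ne_zero.mpr hne)
    apply hs
    have := hpsi _ _ (h1 (sD l s) (fun m => sD_zero_of_ne _ _ _ _ (fun h => hl h.1.symm)))
    rw [pr_sD] at this
    rw [← this]
    congr 1
    have e : ∀ m : Fin n, (sD l s).1 m m = if l = m then s else 0 := by
      intro m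
      simp only [sD, single_apply]
      by_cases h : l = m <;> simp [h]
    rw [e, e]
    split_ifs <;> ring
  have hod : ∀ l m, l ≠ m → l ≠ j → m ≠ j → T.1 l m = 0 := by
    intro l m hlm hl hm
    by_contra hne
    obtain ⟨s, hs⟩ := exists_ne_one hψ (mul_ne_zero h2 hne)
    apply hs
    have := h1 (sE l m s) (fun q => sE_zero_of_ne _ _ _ _ _ (fun h => hl h.1.symm)
      (fun h => hm h.1.symm))
    have e : ∀ q : Fin n, (sE l m s).1 q q = 0 := by
      intro q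
      apply sE_zero_of_ne
      · rintro ⟨rfl, h⟩; exact hlm h
      · rintro ⟨rfl, h⟩; exact hlm h.symm
    rw [pr_sE, Sym.apply T m l, ← two_mul, e, e, mul_zero, mul_zero, add_zero,
      AddChar.map_zero_eq_one] at this
    exact this
  have hii : T.1 i i = a := by rw [hdd i hij]; simp [hik]
  have hkk : T.1 k k = b := by rw [hdd k hkj]; simp [hik.symm]
  refine ⟨(a⁻¹ * T.1 i j, b⁻¹ * T.1 k j), ?_⟩
  apply Subtype.ext
  ext p q
  have hkl := RkTwo.formula hik ha hb hR T.2 hTm h0 hii hkk (hod i k hik hij hkj) p q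
  show TV a b i k j (a⁻¹ * T.1 i j, b⁻¹ * T.1 k j) p q = T.1 p q
  have hev1 : ∀ p, a * (ev i j (a⁻¹ * T.1 i j)) p = T.1 i p := by
    intro p
    by_cases hpi : p = i
    · subst hpi
      rw [ev_self hij, hii, mul_one]
    · by_cases hpj : p = j
      · subst hpj
        rw [ev_snd hij, mul_inv_cancel_left₀ ha]
      · rw [hod i p (Ne.symm hpi) hij hpj, ev_ne hpi hpj, mul_zero]
  have hev2 : ∀ p, b * (ev k j (b⁻¹ * T.1 k j)) p = T.1 k p := by
    intro p
    by_cases hpi : p = k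
    · subst hpi
      rw [ev_self hkj, hkk, mul_one]
    · by_cases hpj : p = j
      · subst hpj
        rw [ev_snd hkj, mul_inv_cancel_left₀ hb]
      · rw [hod k p (Ne.symm hpi) hkj hpj, ev_ne hpi hpj, mul_zero]
  rw [hkl, TV_apply]
  rw [← hev1 p, ← hev1 q, ← hev2 p, ← hev2 q]
  field_simp

theorem Nz_ww {v : V} (hv : v ∈ Wt ρ ψ (TU a b (Pi.single i 1) (Pi.single k 1))) (y : F × F) :
    Nz ρ i k j hij hkj y (ρ (ww j) v) = ρ (ww j) v := by
  have h : ∀ (l : Fin n) (hl : l ≠ j) (z : F), Ny ρ l j hl z (ρ (ww j) v) = ρ (ww j) v := by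
    intro l hl z
    have e : ∀ q : Fin n, (sE l j (-z)).1 q q = 0 := by
      intro q
      apply sE_zero_of_ne
      · rintro ⟨rfl, h⟩; exact hl h
      · rintro ⟨rfl, h⟩; exact hl h.symm
    rw [Ny, ← rho_mul, ← ww_mul_uu l j hl, rho_mul, uu_TU_single hv, e, e, mul_zero, mul_zero,
      add_zero, AddChar.map_zero_eq_one, one_smul]
  rw [Nz_apply, h, h]

include hψ h2 hR hik ha hb in
theorem ww_eq_sum2 {v : V} (hv : v ∈ Wt ρ ψ (TU a b (Pi.single i 1) (Pi.single k 1))) :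
    ρ (ww j) v = ∑ y : F × F, Nz ρ i k j hij hkj y (Lop ρ ψ i k j a b v) := by
  rw [← ww_decomp2 hψ h2 hR hik hij hkj ha hb hv]
  refine Finset.sum_congr rfl fun y _ => ?_
  rw [Lop, Nz_Pj hik, Nz_ww hij hkj hv, add_zero]

theorem Lop_mem (v : V) :
    Lop ρ ψ i k j a b v ∈ Wt ρ ψ (TU a b (Pi.single i 1) (Pi.single k 1)) := by
  rw [← TV_zero (j := j)]
  exact Pj_mem _ _

include hik in
theorem Nz_mem0 {v : V} (hv : v ∈ Wt ρ ψ (TU a b (Pi.single i 1) (Pi.single k 1))) (y : F × F) :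
    Nz ρ i k j hij hkj y v ∈ Wt ρ ψ (TV a b i k j y) := by
  have h := Nz_mem hik hij hkj (y := y) (y' := 0) (v := v) (by
    rw [TV_zero]; exact hv)
  rwa [add_zero] at h

include hψ h2 hR hik ha hb in
theorem ww_Nz {v : V} (hv : v ∈ Wt ρ ψ (TU a b (Pi.single i 1) (Pi.single k 1))) (x : F × F) :
    ρ (ww j) (Nz ρ i k j hij hkj x v) =
      ∑ y : F × F, ψ (2 * (a * x.1 * y.1 + b * x.2 * y.2)) •
        Nz ρ i k j hij hkj y (Lop ρ ψ i k j a b v) := by
  rw [Nz_apply, Ny, Ny, ← rho_mul, ww_mul_mm, rho_mul, ← rho_mul (ww j), ww_mul_mm, rho_mul,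
    ww_eq_sum2 hψ h2 hR hik hij hkj ha hb hv, map_sum, map_sum, neg_neg, neg_neg]
  refine Finset.sum_congr rfl fun y _ => ?_
  have h := Nz_mem0 hik hij hkj (Lop_mem (ρ := ρ) (ψ := ψ) (i := i) (k := k) (j := j) (a := a)
    (b := b) v) y
  rw [h (sE k j x.2), map_smul, h (sE i j x.1), smul_smul, ← AddChar.map_add_eq_mul]
  congr 2
  rw [pr_sE, pr_sE, TV_apply, TV_apply, TV_apply, TV_apply]
  simp only [ev_self hij, ev_self hkj, ev_ne hik hij, ev_ne hik.symm hkj,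
    ev_snd hij, ev_snd hkj, zero_mul, mul_zero, add_zero, zero_add, one_mul, mul_one]
  ring

/-- the product of the two Gauss sums -/
noncomputable def g2 (ψ : AddChar F ℂ) (a b : F) : ℂ := gs ψ a * gs ψ b

theorem g2_eq (a b : F) : g2 ψ a b = ∑ y : F × F, ψ (a * y.1 ^ 2 + b * y.2 ^ 2) := by
  rw [g2, gs, gs, Finset.sum_mul_sum, ← Finset.univ_product_univ, Finset.sum_product]
  refine Finset.sum_congr rfl fun x _ => Finset.sum_congr rfl fun y _ => ?_
  rw [AddChar.map_add_eq_mul]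

include hψ h2 hR hik hij hkj ha hb in
theorem key_ht2 {v : V} (hv : v ∈ Wt ρ ψ (TU a b (Pi.single i 1) (Pi.single k 1))) (t : Fˣ) :
    g2 ψ (-((t⁻¹ : Fˣ) : F) * a) (-((t⁻¹ : Fˣ) : F) * b) •
      Lop ρ ψ i k j a b (Lop ρ ψ i k j a b v) =
      ρ (mm (ht j t)) (Lop ρ ψ i k j a b v) := by
  classical
  have hK := Lop_mem (ρ := ρ) (ψ := ψ) (i := i) (k := k) (j := j) (a := a) (b := b) v
  have hN := Nz_mem0 hik hij hkj hK
  have hE : ∀ y y' : F × F, ∀ u : V, u ∈ Wt ρ ψ (TV a b i k j y') →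
      Pj ρ ψ (TV a b i k j y) u = if y' = y then u else 0 := by
    intro y y' u hu
    split_ifs with h
    · subst h; exact Pj_of_mem hu
    · exact Pj_of_mem_ne hψ h2 (TU_mem _ _ _ _) (TU_mem _ _ _ _)
        (fun h' => h (TV_inj hik hij hkj ha hb h').symm) hu
  have hrel := congrArg (fun g => Pj ρ ψ (TV a b i k j 0) (ρ g v)) (ww_uu_ww j t)
  simp only [rho_mul] at hrel
  -- left side
  have hL : Pj ρ ψ (TV a b i k j 0)
      (ρ (ww j) (ρ (uu (sD j (-((t⁻¹ : Fˣ) : F)))) (ρ (ww j) v))) =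
      g2 ψ (-((t⁻¹ : Fˣ) : F) * a) (-((t⁻¹ : Fˣ) : F) * b) •
        Lop ρ ψ i k j a b (Lop ρ ψ i k j a b v) := by
    rw [ww_eq_sum2 hψ h2 hR hik hij hkj ha hb hv, map_sum, map_sum, map_sum, g2_eq,
      Finset.sum_smul]
    refine Finset.sum_congr rfl fun y _ => ?_
    rw [hN y, map_smul, map_smul, ww_Nz hψ h2 hR hik hij hkj ha hb hK, map_sum]
    rw [Finset.sum_eq_single 0]
    · rw [Prod.fst_zero, Prod.snd_zero, mul_zero, mul_zero, add_zero, mul_zero,
        AddChar.map_zero_eq_one, one_smul, Nz_zero]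
      rw [hE 0 0 _ (by rw [TV_zero]; exact Lop_mem _), if_pos rfl]
      congr 2
      rw [pr_sD, TV_apply, ev_snd hij, ev_snd hkj]
      ring
    · intro y' _ hy'
      have h := Nz_mem0 hik hij hkj (Lop_mem (ρ := ρ) (ψ := ψ) (i := i) (k := k) (j := j)
        (a := a) (b := b) (Lop ρ ψ i k j a b v)) y'
      rw [map_smul, hE 0 y' _ h, if_neg hy', smul_zero]
    · simp
  have hR' : Pj ρ ψ (TV a b i k j 0)
      (ρ (uu (sD j (t : F))) (ρ (mm (ht j t)) (ρ (ww j) (ρ (uu (sD j (t : F))) v)))) =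
      ρ (mm (ht j t)) (Lop ρ ψ i k j a b v) := by
    rw [uu_TU_single hv, sD_zero_of_ne _ _ _ _ (fun h => hij h.1),
      sD_zero_of_ne _ _ _ _ (fun h => hkj h.1), mul_zero, mul_zero, add_zero,
      AddChar.map_zero_eq_one, one_smul, ww_eq_sum2 hψ h2 hR hik hij hkj ha hb hv, map_sum,
      map_sum, map_sum]
    have hmv : ∀ (l : Fin n) (hl : l ≠ j) (y : F), ev l j y ᵥ*
        (((ht j t)⁻¹ : GL (Fin n) F) : Matrix (Fin n) (Fin n) F) =
        ev l j (y * ((t⁻¹ : Fˣ) : F)) := by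
      intro l hl y
      rw [ht_inv, ht_coe, vecMul_add, vecMul_one, vecMul_sgl]
      simp only [ev]
      rw [add_assoc, ← Pi.single_add]
      congr 2
      simp only [Pi.add_apply, Pi.single_eq_same, Pi.single_eq_of_ne hl.symm, zero_add]
      ring
    have hm : ∀ y : F × F, ρ (mm (ht j t)) (Nz ρ i k j hij hkj y (Lop ρ ψ i k j a b v)) ∈
        Wt ρ ψ (TV a b i k j (y.1 * ((t⁻¹ : Fˣ) : F), y.2 * ((t⁻¹ : Fˣ) : F))) := by
      intro y
      have := mm_mem_TU (ht j t) (hN y)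
      rwa [hmv i hij, hmv k hkj] at this
    rw [Finset.sum_eq_single 0]
    · have h3 := hm 0
      rw [Nz_zero, Prod.fst_zero, Prod.snd_zero, zero_mul] at h3
      rw [Nz_zero, h3, map_smul, hE 0 0 _ h3, if_pos rfl, pr_sD, TV_apply, ev_snd hij,
        ev_snd hkj, mul_zero, mul_zero, mul_zero, add_zero, mul_zero, AddChar.map_zero_eq_one,
        one_smul]
    · intro y _ hy
      rw [hm y, map_smul, hE 0 _ _ (hm y), if_neg, smul_zero]
      intro h
      apply hy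
      have h1 := congrArg Prod.fst h
      have h3 := congrArg Prod.snd h
      have ht0 := Units.ne_zero (t⁻¹ : Fˣ)
      exact Prod.ext ((mul_eq_zero.mp h1).resolve_right ht0)
        ((mul_eq_zero.mp h3).resolve_right ht0)
    · simp
  rw [← hL, ← hR', hrel]

include hψ h2 hR hik hij hkj ha hb in
theorem g2_Lop {v : V} (hv : v ∈ Wt ρ ψ (TU a b (Pi.single i 1) (Pi.single k 1))) :
    g2 ψ (-a) (-b) • Lop ρ ψ i k j a b v = v := by
  have h1 := key_ht2 hψ h2 hR hik hij hkj ha hb hv 1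
  have h3 : ht j (1 : Fˣ) = 1 := by
    apply Units.ext
    rw [ht_coe]; simp
  rw [h3, map_one, map_one, Module.End.one_apply, inv_one, Units.val_one, neg_one_mul,
    neg_one_mul] at h1
  have hlin : ∀ u w : V, Lop ρ ψ i k j a b (u - w) = Lop ρ ψ i k j a b u - Lop ρ ψ i k j a b w := by
    intro u w; simp [Lop]
  have hsm : ∀ (c : ℂ) (u : V), Lop ρ ψ i k j a b (c • u) = c • Lop ρ ψ i k j a b u := by
    intro c u; simp [Lop]
  set u := g2 ψ (-a) (-b) • Lop ρ ψ i k j a b v - v with hu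
  have hu0 : Lop ρ ψ i k j a b u = 0 := by
    rw [hu, hlin, hsm, h1, sub_self]
  have hum : u ∈ Wt ρ ψ (TU a b (Pi.single i 1) (Pi.single k 1)) :=
    Submodule.sub_mem _ (Submodule.smul_mem _ _ (Lop_mem v)) hv
  have := ww_eq_sum2 hψ h2 hR hik hij hkj ha hb hum
  simp only [hu0, map_zero, Finset.sum_const_zero] at this
  have h5 : u = 0 := by
    apply rho_inj (ρ := ρ) (ww j)
    rw [this, map_zero]
  exact sub_eq_zero.mp h5

include hψ h2 hR hik ha hb in
/-- (F2) for rank two weights -/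
theorem g2_ww {v : V} (hv : v ∈ Wt ρ ψ (TU a b (Pi.single i 1) (Pi.single k 1))) (x : F × F) :
    g2 ψ (-a) (-b) • ρ (ww j) (Nz ρ i k j hij hkj x v) =
      ∑ y : F × F, ψ (2 * (a * x.1 * y.1 + b * x.2 * y.2)) • Nz ρ i k j hij hkj y v := by
  rw [ww_Nz hψ h2 hR hik hij hkj ha hb hv, Finset.smul_sum]
  refine Finset.sum_congr rfl fun y _ => ?_
  rw [smul_comm, ← map_smul, g2_Lop hψ h2 hR hik hij hkj ha hb hv]

include hψ h2 hR hik hij hkj ha hb in
/-- (F3) for rank two weights -/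
theorem g2_ht {v : V} (hv : v ∈ Wt ρ ψ (TU a b (Pi.single i 1) (Pi.single k 1))) (t : Fˣ) :
    g2 ψ (-a) (-b) • ρ (mm (ht j t)) v =
      g2 ψ (-((t⁻¹ : Fˣ) : F) * a) (-((t⁻¹ : Fˣ) : F) * b) • v := by
  have h1 := key_ht2 hψ h2 hR hik hij hkj ha hb hv t
  have hsm : ∀ (c : ℂ) (u : V), Lop ρ ψ i k j a b (c • u) = c • Lop ρ ψ i k j a b u := by
    intro c u; simp [Lop]
  have h3 : (g2 ψ (-a) (-b) * g2 ψ (-a) (-b)) •
      g2 ψ (-((t⁻¹ : Fˣ) : F) * a) (-((t⁻¹ : Fˣ) : F) * b) •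
      Lop ρ ψ i k j a b (Lop ρ ψ i k j a b v) =
      (g2 ψ (-a) (-b) * g2 ψ (-a) (-b)) • ρ (mm (ht j t)) (Lop ρ ψ i k j a b v) :=
    congrArg (fun w => (g2 ψ (-a) (-b) * g2 ψ (-a) (-b)) • w) h1
  have hg := fun {u : V} (hu : u ∈ Wt ρ ψ (TU a b (Pi.single i 1) (Pi.single k 1))) =>
    g2_Lop hψ h2 hR hik hij hkj ha hb hu
  rw [mul_smul, mul_smul, smul_comm (g2 ψ (-a) (-b)) (g2 ψ (-((t⁻¹ : Fˣ) : F) * a) _), ← hsm,
    hg hv, smul_comm (g2 ψ (-a) (-b)) (g2 ψ (-((t⁻¹ : Fˣ) : F) * a) _),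
    hg hv, ← map_smul (ρ (mm (ht j t))), hg hv] at h3
  exact h3.symm

end F2

end Cfsg.Agent.H162.Weil
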