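import Cfsg.Agent.H162.WeilStab

/-!
# Generation of the pointwise stabiliser of coordinate functionals in `GL` (helper162)
-/

set_option autoImplicit false
open Matrix

namespace Cfsg.Agent.H162.Weil

variable {F : Type*} [Field F] {n : ℕ} (p : Fin n → Prop) [DecidablePred p]

/-- Embedding of matrices on a subset of the indices. -/
def embP (A : Matrix {k : Fin n // p k} {k : Fin n // p k} F) :
    Matrix (Fin n) (Fin n) F :=
  fun a b => if ha : p a then (if hb : p b then A ⟨a, ha⟩ ⟨b, hb⟩ else 0) else
    if a = b then 1 else 0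

variable {p}

theorem embP_pp (A : Matrix {k : Fin n // p k} {k : Fin n // p k} F) {a b : Fin n} (ha : p a)
    (hb : p b) : embP p A a b = A ⟨a, ha⟩ ⟨b, hb⟩ := by simp [embP, ha, hb]

theorem embP_pn (A : Matrix {k : Fin n // p k} {k : Fin n // p k} F) {a b : Fin n} (ha : p a)
    (hb : ¬ p b) : embP p A a b = 0 := by simp [embP, ha, hb]

theorem embP_n (A : Matrix {k : Fin n // p k} {k : Fin n // p k} F) {a : Fin n} (b : Fin n)
    (ha : ¬ p a) : embP p A a b = if a = b then 1 else 0 := by simp [embP, ha]

theorem embP_mul (A B : Matrix {k : Fin n // p k} {k : Fin n // p k} F) :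
    embP p (A * B) = embP p A * embP p B := by
  ext a b
  rw [Matrix.mul_apply, ← Fintype.sum_subtype_add_sum_subtype p]
  by_cases ha : p a
  · have h0 : ∑ k : {k : Fin n // ¬ p k}, embP p A a k.1 * embP p B k.1 b = 0 :=
      Finset.sum_eq_zero fun k _ => by rw [embP_pn A ha k.2, zero_mul]
    rw [h0, add_zero]
    by_cases hb : p b
    · rw [embP_pp _ ha hb, Matrix.mul_apply]
      exact Finset.sum_congr rfl fun k _ => by rw [embP_pp _ ha k.2, embP_pp _ k.2 hb]
    · rw [embP_pn _ ha hb]
      symm
      exact Finset.sum_eq_zero fun k _ => by rw [embP_pn B k.2 hb, mul_zero]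
  · have h0 : ∑ k : {k : Fin n // p k}, embP p A a k.1 * embP p B k.1 b = 0 :=
      Finset.sum_eq_zero fun k _ => by
        rw [embP_n A _ ha, if_neg (fun h : a = k.1 => ha (by rw [h]; exact k.2)), zero_mul]
    rw [h0, zero_add, Finset.sum_eq_single (⟨a, ha⟩ : {k : Fin n // ¬ p k}), embP_n _ _ ha,
      embP_n _ _ ha, if_pos rfl, one_mul, embP_n _ _ ha]
    · intro k _ hk
      rw [embP_n A _ ha, if_neg (fun h => hk (Subtype.ext h.symm)), zero_mul]
    · simp

theorem embP_one : embP p (1 : Matrix {k : Fin n // p k} {k : Fin n // p k} F) = 1 := by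
  ext a b
  by_cases ha : p a
  · by_cases hb : p b
    · rw [embP_pp _ ha hb, Matrix.one_apply, Matrix.one_apply]
      simp only [Subtype.mk.injEq]
    · rw [embP_pn _ ha hb, Matrix.one_apply_ne]
      rintro rfl; exact hb ha
  · rw [embP_n _ _ ha, Matrix.one_apply]

variable (p) in
/-- `embP` on units. -/
def embPU (A : GL {k : Fin n // p k} F) : GL (Fin n) F :=
  ⟨embP p A.1, embP p A.2, by rw [← embP_mul, A.3, embP_one], by rw [← embP_mul, A.4, embP_one]⟩

variable (p) in
/-- the part of a matrix in the off-diagonal block -/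
def offP (C : Matrix (Fin n) (Fin n) F) : Matrix (Fin n) (Fin n) F :=
  fun a b => if p a ∧ ¬ p b then C a b else 0

theorem offP_add (C D : Matrix (Fin n) (Fin n) F) : offP p (C + D) = offP p C + offP p D := by
  ext a b
  simp only [offP, Matrix.add_apply]
  split_ifs <;> simp

theorem offP_mul (C D : Matrix (Fin n) (Fin n) F) : offP p C * offP p D = 0 := by
  ext a b
  rw [Matrix.mul_apply]
  refine Finset.sum_eq_zero fun k _ => ?_
  simp only [offP]
  by_cases hk : p k
  · rw [if_neg (fun h => h.2 hk), zero_mul]
  · rw [if_neg (c := p k ∧ ¬ p b) (fun h => hk h.1), mul_zero]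

theorem offP_neg (C : Matrix (Fin n) (Fin n) F) : offP p (-C) = - offP p C := by
  ext a b
  simp only [offP, Matrix.neg_apply]
  split_ifs <;> simp

variable (p) in
/-- The unipotent elements. -/
def uniP (C : Matrix (Fin n) (Fin n) F) : GL (Fin n) F :=
  ⟨1 + offP p C, 1 + offP p (-C), by
    rw [Matrix.mul_add, Matrix.mul_one, Matrix.add_mul, Matrix.one_mul, offP_mul, offP_neg]
    abel, by
    rw [Matrix.mul_add, Matrix.mul_one, Matrix.add_mul, Matrix.one_mul, offP_mul, offP_neg]
    abel⟩

theorem uniP_coe (C : Matrix (Fin n) (Fin n) F) :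
    ((uniP p C : GL (Fin n) F) : Matrix (Fin n) (Fin n) F) = 1 + offP p C := rfl

theorem uniP_add (C D : Matrix (Fin n) (Fin n) F) : uniP p (C + D) = uniP p C * uniP p D := by
  apply Units.ext
  rw [Units.val_mul, uniP_coe, uniP_coe, uniP_coe, Matrix.mul_add, Matrix.mul_one, Matrix.add_mul,
    Matrix.one_mul, offP_mul, offP_add]
  abel

/-- **Generation of the pointwise stabiliser.** -/
theorem stabP_mem (K : Subgroup (GL (Fin n) F))
    (htv : ∀ (a b : Fin n) (hab : a ≠ b) (s : F), p a → tv a b hab s ∈ K)
    (hdg : ∀ d : Fin n → Fˣ, (∀ k, ¬ p k → d k = 1) → dg d ∈ K)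
    (h : GL (Fin n) F)
    (hh : ∀ k, ¬ p k → (Pi.single k 1 : Fin n → F) ᵥ* (h : Matrix (Fin n) (Fin n) F) =
      Pi.single k 1) : h ∈ K := by
  -- the unipotent part
  have hU : ∀ C : Matrix (Fin n) (Fin n) F, uniP p C ∈ K := by
    intro C
    induction C using Matrix.induction_on' with
    | h_zero =>
      have : uniP p (0 : Matrix (Fin n) (Fin n) F) = 1 := by
        apply Units.ext
        rw [uniP_coe]
        have : offP p (0 : Matrix (Fin n) (Fin n) F) = 0 := by
          ext a b; simp [offP]
        rw [this, add_zero]; rfl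
      rw [this]; exact K.one_mem
    | h_add C D hC hD => rw [uniP_add]; exact K.mul_mem hC hD
    | h_std_basis a b s =>
      by_cases hab : p a ∧ ¬ p b
      · have hne : a ≠ b := by rintro rfl; exact hab.2 hab.1
        have : uniP p (single a b s) = tv a b hne s := by
          apply Units.ext
          rw [uniP_coe, tv_coe]
          congr 1
          ext k l
          simp only [offP, single_apply]
          by_cases h1 : a = k ∧ b = l
          · obtain ⟨rfl, rfl⟩ := h1
            rw [if_pos hab]
          · rw [if_neg h1, ite_self]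
        rw [this]
        exact htv _ _ _ _ hab.1
      · have : uniP p (single a b s) = 1 := by
          apply Units.ext
          rw [uniP_coe]
          have : offP p (single a b s) = 0 := by
            ext k l
            simp only [offP, single_apply]
            split_ifs with h1 h3
            · obtain ⟨rfl, rfl⟩ := h3
              exact absurd h1 hab
            · rfl
            · rfl
          rw [this, add_zero]; rfl
        rw [this]; exact K.one_mem
  -- the Levi part
  have hE : ∀ A : GL {k : Fin n // p k} F, embPU p A ∈ K := by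
    intro A
    suffices hs : ∀ M : Matrix {k : Fin n // p k} {k : Fin n // p k} F, det M ≠ 0 →
        ∀ A : GL {k : Fin n // p k} F, A.1 = M → embPU p A ∈ K by
      refine hs A.1 ?_ A rfl
      have := (GeneralLinearGroup.det A).ne_zero
      rwa [GeneralLinearGroup.val_det_apply] at this
    intro M hM
    refine diagonal_transvection_induction_of_det_ne_zero (P := fun M =>
      ∀ A : GL {k : Fin n // p k} F, A.1 = M → embPU p A ∈ K) M hM ?_ ?_ ?_
    · intro D hD A hA
      have hD' : ∀ k, D k ≠ 0 := by
        intro k hk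
        apply hD
        rw [det_diagonal]
        exact Finset.prod_eq_zero (Finset.mem_univ k) hk
      let d : Fin n → Fˣ := fun k => if hk : p k then Units.mk0 (D ⟨k, hk⟩) (hD' _) else 1
      have h1 : embPU p A = dg d := by
        apply Units.ext
        rw [dg_coe]
        show embP p A.1 = _
        rw [hA]
        ext a b
        by_cases ha : p a
        · by_cases hb : p b
          · rw [embP_pp _ ha hb]
            by_cases hab : a = b
            · subst hab
              simp [d, ha]
            · rw [diagonal_apply_ne _ hab, diagonal_apply_ne]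
              intro h
              exact hab (congrArg Subtype.val h)
          · rw [embP_pn _ ha hb, diagonal_apply_ne]
            rintro rfl; exact hb ha
        · rw [embP_n _ _ ha, diagonal_apply]
          split_ifs with hab
          · subst hab; simp [d, ha]
          · rfl
      rw [h1]
      exact hdg d (fun k hk => by simp [d, hk])
    · intro t A hA
      have hab : (t.i : Fin n) ≠ (t.j : Fin n) := fun h => t.hij (Subtype.ext h)
      have h1 : embPU p A = tv (t.i : Fin n) (t.j : Fin n) hab t.c := by
        apply Units.ext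
        rw [tv_coe]
        show embP p A.1 = _
        rw [hA]
        ext a b
        rw [Matrix.add_apply]
        by_cases ha : p a
        · by_cases hb : p b
          · rw [embP_pp _ ha hb, TransvectionStruct.toMatrix, transvection, Matrix.add_apply,
              Matrix.one_apply, Matrix.one_apply, Matrix.single_apply, Matrix.single_apply]
            simp only [Subtype.mk.injEq, Subtype.ext_iff]
          · have hb' : (t.j : Fin n) ≠ b := by
              intro h; exact hb (h ▸ t.j.2)
            rw [embP_pn _ ha hb, single_apply_of_col_ne _ _ hb', add_zero, one_apply_ne]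
            rintro rfl; exact hb ha
        · have ha' : (t.i : Fin n) ≠ a := by
            intro h; exact ha (h ▸ t.i.2)
          rw [embP_n _ _ ha, single_apply_of_row_ne ha', add_zero, Matrix.one_apply]
      rw [h1]
      exact htv _ _ _ _ t.i.2
    · intro A B hA hB ihA ihB C hC
      let A' : GL {k : Fin n // p k} F := GeneralLinearGroup.mkOfDetNeZero A hA
      let B' : GL {k : Fin n // p k} F := GeneralLinearGroup.mkOfDetNeZero B hB
      have h1 : embPU p C = embPU p A' * embPU p B' := by
        apply Units.ext
        rw [Units.val_mul]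
        show embP p C.1 = embP p A * embP p B
        rw [hC, embP_mul]
      rw [h1]
      exact K.mul_mem (ihA A' rfl) (ihB B' rfl)
  -- decomposition
  have hrow : ∀ g : GL (Fin n) F,
      (∀ k, ¬ p k → (Pi.single k 1 : Fin n → F) ᵥ* (g : Matrix (Fin n) (Fin n) F) =
        Pi.single k 1) →
      ∀ a b, ¬ p a → (g : Matrix (Fin n) (Fin n) F) a b = if a = b then 1 else 0 := by
    intro g hg a b ha
    have := congrFun (hg a ha) b
    rw [single_one_vecMul] at this
    rw [row_apply] at this
    rw [this, Pi.single_apply]
    simp only [eq_comm]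
  have h1 := hrow h hh
  have hhinv : ∀ k, ¬ p k →
      (Pi.single k 1 : Fin n → F) ᵥ* ((h⁻¹ : GL (Fin n) F) : Matrix (Fin n) (Fin n) F) =
        Pi.single k 1 := by
    intro k hk
    conv_lhs => rw [← hh k hk]
    rw [vecMul_vecMul, ← Units.val_mul, mul_inv_cancel, Units.val_one, vecMul_one]
  have h3 := hrow h⁻¹ hhinv
  have key : ∀ g g' : GL (Fin n) F, g * g' = 1 →
      (∀ a b, ¬ p a → (g' : Matrix (Fin n) (Fin n) F) a b = if a = b then 1 else 0) →
      ((g : Matrix (Fin n) (Fin n) F).submatrix (Subtype.val : {k // p k} → Fin n)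
        (Subtype.val : {k // p k} → Fin n)) *
      ((g' : Matrix (Fin n) (Fin n) F).submatrix (Subtype.val : {k // p k} → Fin n)
        (Subtype.val : {k // p k} → Fin n)) = 1 := by
    intro g g' hgg hg'
    ext a b
    rw [Matrix.mul_apply]
    have e : (g : Matrix (Fin n) (Fin n) F) * (g' : Matrix (Fin n) (Fin n) F) = 1 := by
      rw [← Units.val_mul, hgg]; rfl
    have e1 := congrFun (congrFun e a.1) b.1
    rw [Matrix.mul_apply, ← Fintype.sum_subtype_add_sum_subtype p] at e1
    have h0 : ∑ k : {k : Fin n // ¬ p k}, (g : Matrix (Fin n) (Fin n) F) a.1 k.1 *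
        (g' : Matrix (Fin n) (Fin n) F) k.1 b.1 = 0 :=
      Finset.sum_eq_zero fun k _ => by
        rw [hg' k.1 b.1 k.2, if_neg (fun h : k.1 = b.1 => k.2 (by rw [h]; exact b.2)), mul_zero]
    rw [h0, add_zero] at e1
    simp only [submatrix_apply]
    rw [e1, Matrix.one_apply, Matrix.one_apply]
    simp only [Subtype.ext_iff]
  let A : GL {k : Fin n // p k} F :=
    ⟨(h : Matrix (Fin n) (Fin n) F).submatrix Subtype.val Subtype.val,
      ((h⁻¹ : GL (Fin n) F) : Matrix (Fin n) (Fin n) F).submatrix Subtype.val Subtype.val,
      key h h⁻¹ (mul_inv_cancel h) h3, key h⁻¹ h (inv_mul_cancel h) h1⟩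
  have hdec : h = uniP p (h : Matrix (Fin n) (Fin n) F) * embPU p A := by
    apply Units.ext
    rw [Units.val_mul, uniP_coe, Matrix.add_mul, Matrix.one_mul]
    show (h : Matrix (Fin n) (Fin n) F) = embP p A.1 + _ * embP p A.1
    ext a b
    rw [Matrix.add_apply, Matrix.mul_apply, ← Fintype.sum_subtype_add_sum_subtype p]
    have h0 : ∑ k : {k : Fin n // p k}, offP p (h : Matrix (Fin n) (Fin n) F) a k.1 *
        embP p A.1 k.1 b = 0 :=
      Finset.sum_eq_zero fun k _ => by
        simp only [offP]
        rw [if_neg (fun h => h.2 k.2), zero_mul]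
    rw [h0, zero_add]
    have h5 : ∑ k : {k : Fin n // ¬ p k}, offP p (h : Matrix (Fin n) (Fin n) F) a k.1 *
        embP p A.1 k.1 b = offP p (h : Matrix (Fin n) (Fin n) F) a b := by
      by_cases hb : p b
      · rw [Finset.sum_eq_zero]
        · simp [offP, hb]
        · intro k _
          rw [embP_n _ _ k.2, if_neg (fun h : k.1 = b => k.2 (by rw [h]; exact hb)), mul_zero]
      · rw [Finset.sum_eq_single (⟨b, hb⟩ : {k : Fin n // ¬ p k}), embP_n _ _ hb, if_pos rfl,
          mul_one]
        · intro k _ hk
          rw [embP_n _ _ k.2, if_neg (fun h => hk (Subtype.ext h)), mul_zero]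
        · simp
    rw [h5]
    by_cases ha : p a
    · by_cases hb : p b
      · rw [embP_pp _ ha hb]
        simp [offP, hb, A]
      · rw [embP_pn _ ha hb, zero_add]
        simp [offP, ha, hb]
    · rw [embP_n _ _ ha, h1 a b ha]
      simp [offP, ha]
  rw [hdec]
  exact K.mul_mem (hU _) (hE _)

end Cfsg.Agent.H162.Weil
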