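import Cfsg.Agent.H162.WeilRep

/-!
# Irreducibility of the even and odd parts of the Weil representation (helper162)
-/

set_option autoImplicit false
open Matrix Module Representation

namespace Cfsg.Agent.H162.Weil

variable {F : Type*} [Field F] {n : ℕ} [Fintype F] {ψ : AddChar F ℂ} {lam : F}

/-- The properties of the Weil representation. -/
structure IsWeil (ψ : AddChar F ℂ) (lam : F) (ω : Representation ℂ (Sp n F) (W n F)) : Prop where
  prim : ψ.IsPrimitive
  two : (2 : F) ≠ 0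
  lam0 : lam ≠ 0
  w1 : ∀ S f, ω (uu S) f = DS ψ lam S f
  w2 : ∀ g f, ω g (Pop f) = Pop (ω g f)
  w3 : ∀ h, ∃ c : ℂ, c ≠ 0 ∧ ∀ f, ω (mm h) f = c • LH h f
  w4 : ∀ k, ∃ c : ℂ, c ≠ 0 ∧ ∀ f, ω (ww k) f = c • FTl ψ lam k f

theorem TT_eq {x y : Fin n → F} (hlam : lam ≠ 0) (hx : x ≠ 0) (h : TT lam y = TT lam x) :
    y = x ∨ y = -x := by
  have h1 : ∀ k l, y k * y l = x k * x l := by
    intro k l
    have := congrFun (congrFun h k) l
    rw [TT_apply, TT_apply] at this
    exact mul_left_cancel₀ hlam this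
  obtain ⟨k, hk⟩ : ∃ k, x k ≠ 0 := by
    by_contra hc
    push Not at hc
    exact hx (funext hc)
  rcases mul_self_eq_mul_self_iff.mp (h1 k k) with h3 | h3
  · left
    ext l
    have := h1 k l
    rw [h3] at this
    exact mul_left_cancel₀ hk this
  · right
    ext l
    have := h1 k l
    rw [h3] at this
    rw [Pi.neg_apply]
    apply mul_left_cancel₀ hk
    linear_combination -this

theorem TT_neg (x : Fin n → F) : TT lam (-x) = TT lam x := by
  ext k l
  rw [TT_apply, TT_apply]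
  simp

namespace IsWeil

variable {ω : Representation ℂ (Sp n F) (W n F)} (hω : IsWeil ψ lam ω)

include hω

theorem wt_eq {T : Matrix (Fin n) (Fin n) F} (hT : T ∈ Sym n F) {v : W n F}
    (hv : v ∈ Wt ω ψ T) {x : Fin n → F} (hx : v x ≠ 0) : T = TT lam x := by
  rw [← sub_eq_zero]
  refine pr_nondeg hω.prim hω.two (sub_mem hT (TT_mem lam x)) fun S => ?_
  have h1 := congrFun (hv S) x
  rw [hω.w1, DS_apply, Pi.smul_apply, smul_eq_mul] at h1
  have h3 := mul_right_cancel₀ hx h1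
  rw [sub_eq_add_neg, pr_add_left, pr_neg_left, AddChar.map_add_eq_mul, ← h3, pr_TT,
    ← AddChar.map_add_eq_mul, add_neg_cancel, AddChar.map_zero_eq_one]

theorem rkOne : RkOne ω ψ := by
  intro T hT v hv hne i j k l
  obtain ⟨x, hx⟩ : ∃ x, v x ≠ 0 := by
    by_contra hc
    push Not at hc
    exact hne (funext hc)
  rw [hω.wt_eq hT hv hx]
  simp only [TT_apply]
  ring

theorem dl_mem (x : Fin n → F) : dl x ∈ Wt ω ψ (TT lam x) := by
  intro S
  rw [hω.w1, pr_TT]
  ext y
  rw [DS_apply, Pi.smul_apply, smul_eq_mul]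
  by_cases h : y = x
  · rw [h]
  · rw [dl_ne h, mul_zero, mul_zero]

/-- symmetrised delta -/
noncomputable def _root_.Cfsg.Agent.H162.Weil.ds (s : ℂ) (x : Fin n → F) : W n F :=
  dl x + s • dl (-x)

omit hω in
theorem dl_neg_apply (x y : Fin n → F) : (dl x : W n F) (-y) = (dl (-x) : W n F) y := by
  by_cases h : y = -x
  · subst h
    rw [neg_neg, dl_self, dl_self]
  · rw [dl_ne h, dl_ne]
    intro h'
    apply h
    rw [← h', neg_neg]

omit hω in
theorem ds_mem {s : ℂ} (hs : s * s = 1) (x : Fin n → F) : ds s x ∈ Es n F s := by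
  intro y
  simp only [ds, Pi.add_apply, Pi.smul_apply, smul_eq_mul, dl_neg_apply, neg_neg]
  linear_combination (-(dl (-x) : W n F) y) * hs

theorem Pj_eq {s : ℂ} {f : W n F} (hf : f ∈ Es n F s) {x : Fin n → F} (hx : x ≠ 0) :
    Pj ω ψ (TT lam x) f = f x • ds s x := by
  classical
  have hxn : -x ≠ x := by
    intro h
    exact hx ((eq_neg_iff hω.two x).mp h.symm)
  conv_lhs => rw [f_eq_sum f, map_sum]
  have h1 : ∀ y ∈ Finset.univ, y ∉ ({x, -x} : Finset (Fin n → F)) →
      Pj ω ψ (TT lam x) (f y • (dl y : W n F)) = 0 := by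
    intro y _ hy
    rw [Finset.mem_insert, Finset.mem_singleton, not_or] at hy
    rw [map_smul, Pj_of_mem_ne hω.prim hω.two (TT_mem _ _) (TT_mem _ _) _ (hω.dl_mem y),
      smul_zero]
    intro h
    rcases TT_eq hω.lam0 hx h.symm with h3 | h3
    · exact hy.1 h3
    · exact hy.2 h3
  rw [← Finset.sum_subset (Finset.subset_univ ({x, -x} : Finset (Fin n → F))) h1,
    Finset.sum_pair hxn.symm, map_smul, map_smul, Pj_of_mem (hω.dl_mem x)]
  have h3 := hω.dl_mem (-x)
  rw [TT_neg] at h3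
  rw [Pj_of_mem h3, hf x, ds, smul_add, smul_smul, mul_comm s]

theorem Pj_zero_eq (f : W n F) : Pj ω ψ (TT lam 0) f = f 0 • (dl 0 : W n F) := by
  classical
  conv_lhs => rw [f_eq_sum f, map_sum]
  rw [Finset.sum_eq_single 0]
  · rw [map_smul, Pj_of_mem (hω.dl_mem 0)]
  · intro y _ hy
    rw [map_smul, Pj_of_mem_ne hω.prim hω.two (TT_mem _ _) (TT_mem _ _) _ (hω.dl_mem y),
      smul_zero]
    intro h
    rcases TT_eq hω.lam0 hy h with h3 | h3
    · exact hy h3.symm
    · apply hy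
      rw [eq_comm, neg_eq_zero] at h3
      exact h3
  · simp

section sub

variable {U : Submodule ℂ (W n F)} (hU : ∀ g, ∀ f ∈ U, ω g f ∈ U)

include hU

omit hω in
theorem Pj_mem_U (T : Matrix (Fin n) (Fin n) F) {f : W n F} (hf : f ∈ U) :
    Pj ω ψ T f ∈ U := by
  rw [Pj_apply]
  exact Submodule.smul_mem _ _ (Submodule.sum_mem _ fun S _ => Submodule.smul_mem _ _ (hU _ f hf))

theorem ds_mem_of {s : ℂ} (hUs : U ≤ Es n F s) {f : W n F} (hf : f ∈ U) {x : Fin n → F}
    (hx : x ≠ 0) (hfx : f x ≠ 0) : ds s x ∈ U := by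
  have h1 := Pj_mem_U (ψ := ψ) hU (TT lam x) hf
  rw [hω.Pj_eq (hUs hf) hx] at h1
  exact (Submodule.smul_mem_iff _ hfx).mp h1

theorem ds_mem_all {s : ℂ} {x : Fin n → F} (hx : x ≠ 0) (h : ds s x ∈ U) {y : Fin n → F}
    (hy : y ≠ 0) (i : Fin n) : ds s y ∈ U := by
  obtain ⟨h1, hh1⟩ := exists_vecMul_eq_single x hx i
  obtain ⟨h3, hh3⟩ := exists_vecMul_eq_single y hy i
  have hk : y ᵥ* ((h3 * h1⁻¹ : GL (Fin n) F) : Matrix (Fin n) (Fin n) F) = x := by
    rw [Units.val_mul, ← vecMul_vecMul, hh3, vecMul_inv hh1]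
  set k := h3 * h1⁻¹ with hkk
  obtain ⟨c, hc, hc'⟩ := hω.w3 k
  have h4 := hU (mm k) _ h
  rw [hc'] at h4
  have h5 : ∀ (a b : Fin n → F), b ᵥ* (k : Matrix (Fin n) (Fin n) F) = a →
      LH k (dl a : W n F) = dl b := by
    intro a b hab
    ext z
    rw [LH_apply]
    by_cases hz : z = b
    · rw [hz, hab, dl_self, dl_self]
    · rw [dl_ne hz, dl_ne]
      intro h6
      apply hz
      have h7 := vecMul_inv h6
      have h8 := vecMul_inv hab
      rw [← h7, ← h8]
  have h6 : LH k (ds s x) = ds s y := by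
    rw [ds, ds, map_add, map_smul, h5 x y hk, h5 (-x) (-y) (by rw [neg_vecMul, hk])]
  rw [h6] at h4
  exact (Submodule.smul_mem_iff _ hc).mp h4

omit hU in
theorem FTl_dl (k : Fin n) (x z : Fin n → F) (hz : ∀ l, l ≠ k → z l = x l) :
    FTl ψ lam k (dl x : W n F) z = ψ (2 * lam * z k * x k) := by
  classical
  rw [FTl_apply, Finset.sum_eq_single (x k)]
  · have : Function.update z k (x k) = x := by
      ext l
      by_cases hl : l = k
      · subst hl; simp
      · simp [hl, hz l hl]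
    rw [this, dl_self, mul_one]
  · intro y _ hy
    rw [dl_ne, mul_zero]
    intro h
    apply hy
    have := congrFun h k
    simpa using this
  · simp

theorem ds_zero_mem {s : ℂ} (hs : s = 1 ∨ s = -1) {i : Fin n}
    (h : ds s (Pi.single i 1) ∈ U) : ds s 0 ∈ U := by
  rcases hs with rfl | rfl
  · obtain ⟨c, hc, hc'⟩ := hω.w4 i
    have h1 := hU (ww i) _ h
    rw [hc'] at h1
    have h3 := (Submodule.smul_mem_iff _ hc).mp h1
    have h4 := Pj_mem_U (ψ := ψ) hU (TT lam 0) h3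
    rw [hω.Pj_zero_eq] at h4
    have h5 : FTl ψ lam i (ds 1 (Pi.single i 1) : W n F) 0 = 2 := by
      rw [ds, map_add, one_smul, Pi.add_apply, hω.FTl_dl, hω.FTl_dl]
      · simp; norm_num
      · intro l hl; simp [hl]
      · intro l hl; simp [hl]
    rw [h5] at h4
    have h6 : (ds 1 0 : W n F) = (2 : ℂ) • (dl 0 : W n F) := by
      rw [ds, neg_zero, one_smul, two_smul]
    rw [h6]
    exact h4
  · have : (ds (-1) 0 : W n F) = 0 := by
      rw [ds, neg_zero, neg_smul, one_smul, add_neg_cancel]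
    rw [this]
    exact U.zero_mem

theorem exists_ne {s : ℂ} (i : Fin n) (hne : U ≠ ⊥) :
    ∃ f ∈ U, ∃ x : Fin n → F, x ≠ 0 ∧ f x ≠ 0 := by
  obtain ⟨f, hf, hf0⟩ := Submodule.exists_mem_ne_zero_of_ne_bot hne
  by_cases h : ∃ x : Fin n → F, x ≠ 0 ∧ f x ≠ 0
  · exact ⟨f, hf, h⟩
  push Not at h
  have h0 : f 0 ≠ 0 := by
    intro h0
    apply hf0
    ext x
    by_cases hx : x = 0
    · rw [hx, h0]; rfl
    · exact h x hx
  have hfd : f = f 0 • (dl 0 : W n F) := by
    ext x
    by_cases hx : x = 0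
    · rw [hx, Pi.smul_apply, dl_self, smul_eq_mul, mul_one]
    · rw [h x hx, Pi.smul_apply, dl_ne hx, smul_zero]
  obtain ⟨c, hc, hc'⟩ := hω.w4 i
  refine ⟨ω (ww i) f, hU _ f hf, Pi.single i 1, Seed.single_ne i 1 one_ne_zero, ?_⟩
  rw [hc', hfd, map_smul, Pi.smul_apply, Pi.smul_apply, hω.FTl_dl]
  · simp [hc, h0]
  · intro l hl; simp [hl]

theorem Es_le {s : ℂ} (hs : s = 1 ∨ s = -1) (i : Fin n) (hUs : U ≤ Es n F s) (hne : U ≠ ⊥) :
    Es n F s ≤ U := by
  classical
  obtain ⟨f, hf, x, hx, hfx⟩ := hω.exists_ne hU (s := s) i hne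
  have h1 := hω.ds_mem_of hU hUs hf hx hfx
  have hall : ∀ y : Fin n → F, ds s y ∈ U := by
    intro y
    by_cases hy : y = 0
    · subst hy
      exact hω.ds_zero_mem hU hs (hω.ds_mem_all hU hx h1 (Seed.single_ne i 1 one_ne_zero) i)
    · exact hω.ds_mem_all hU hx h1 hy i
  intro g hg
  have hs2 : s * s = 1 := by rcases hs with rfl | rfl <;> norm_num
  have h3 : (2 : ℂ) • g = ∑ y, g y • (ds s y : W n F) := by
    have h4 : ∑ y, g y • (s • (dl (-y) : W n F)) = s • (s • g) := by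
      have h5 : ∑ y, g y • (s • (dl (-y) : W n F)) = ∑ y, g (-y) • (s • (dl y : W n F)) := by
        refine Fintype.sum_equiv (Equiv.neg _) _ _ fun y => ?_
        rw [Equiv.neg_apply, neg_neg]
      rw [h5]
      conv_rhs => rw [f_eq_sum g, Finset.smul_sum, Finset.smul_sum]
      refine Finset.sum_congr rfl fun y _ => ?_
      rw [hg y, smul_smul, smul_smul, smul_smul]
      congr 1
      ring
    simp only [ds, smul_add, Finset.sum_add_distrib]
    rw [h4, ← f_eq_sum g, smul_smul, hs2, one_smul, two_smul]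
  have h4 : (2 : ℂ) • g ∈ U := by
    rw [h3]
    exact Submodule.sum_mem _ fun y _ => Submodule.smul_mem _ _ (hall y)
  exact (Submodule.smul_mem_iff _ (by norm_num)).mp h4

end sub

theorem pres (s : ℂ) (g : Sp n F) {f : W n F} (hf : f ∈ Es n F s) : ω g f ∈ Es n F s := by
  have h1 : Pop f = s • f := by ext x; exact hf x
  have h3 := hω.w2 g f
  rw [h1, map_smul] at h3
  intro x
  exact (congrFun h3 x).symm

/-- The subrepresentation of parity `s`. -/
noncomputable def srep (s : ℂ) : Representation ℂ (Sp n F) (Es n F s) where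
  toFun g := (ω g).restrict (fun _ hf => hω.pres s g hf)
  map_one' := by
    apply LinearMap.ext
    intro f
    apply Subtype.ext
    show ω 1 f.1 = f.1
    rw [map_one, Module.End.one_apply]
  map_mul' g h := by
    apply LinearMap.ext
    intro f
    apply Subtype.ext
    show ω (g * h) f.1 = ω g (ω h f.1)
    rw [rho_mul]

theorem sub_apply (s : ℂ) (g : Sp n F) (f : Es n F s) :
    ((hω.srep s g f : Es n F s) : W n F) = ω g f := rfl

theorem ds_ne_zero (s : ℂ) {x : Fin n → F} (hx : x ≠ 0) : ds s x ≠ 0 := by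
  intro h
  have := congrFun h x
  rw [ds, Pi.add_apply, Pi.smul_apply, dl_self, dl_ne, smul_zero, add_zero] at this
  · exact one_ne_zero this
  · intro h'
    exact hx ((eq_neg_iff hω.two x).mp h')

theorem sub_irr {s : ℂ} (hs : s = 1 ∨ s = -1) (i : Fin n) :
    (hω.srep s).IsIrreducible := by
  have hs2 : s * s = 1 := by rcases hs with rfl | rfl <;> norm_num
  have hnt : Nontrivial (Subrepresentation (hω.srep s)) := by
    refine ⟨⊥, ⊤, fun h => ?_⟩
    have h1 : (⊥ : Submodule ℂ (Es n F s)) = ⊤ := congrArg Subrepresentation.toSubmodule h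
    have h3 : (⟨ds s (Pi.single i 1), ds_mem hs2 _⟩ : Es n F s) ∈ (⊤ : Submodule ℂ (Es n F s)) :=
      trivial
    rw [← h1, Submodule.mem_bot] at h3
    exact hω.ds_ne_zero s (Seed.single_ne i 1 one_ne_zero) (congrArg Subtype.val h3)
  refine ⟨fun U₁ => ?_⟩
  by_cases h1 : U₁.toSubmodule = ⊥
  · left
    exact Subrepresentation.toSubmodule_injective h1
  · right
    apply Subrepresentation.toSubmodule_injective
    show U₁.toSubmodule = ⊤
    rw [eq_top_iff]
    rintro ⟨f, hf⟩ _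
    have h3 : Es n F s ≤ U₁.toSubmodule.map (Es n F s).subtype := by
      apply hω.Es_le _ hs i
      · rintro _ ⟨u, _, rfl⟩
        exact u.2
      · intro h
        apply h1
        apply Submodule.map_injective_of_injective (Es n F s).subtype_injective
        rw [Submodule.map_bot]
        exact h
      · rintro g _ ⟨u, hu, rfl⟩
        exact ⟨hω.srep s g u, U₁.apply_mem_toSubmodule g hu, rfl⟩
    obtain ⟨u, hu, hu'⟩ := h3 hf
    have : u = ⟨f, hf⟩ := Subtype.ext hu'
    rw [← this]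
    exact hu

theorem mem_Wt_sub (s : ℂ) {T : Matrix (Fin n) (Fin n) F} {v : Es n F s} :
    v ∈ Wt (hω.srep s) ψ T ↔ (v : W n F) ∈ Wt ω ψ T := by
  constructor
  · intro h S
    exact congrArg Subtype.val (h S)
  · intro h S
    apply Subtype.ext
    exact h S

theorem sub_rkOne (s : ℂ) : RkOne (hω.srep s) ψ := by
  intro T hT v hv hne
  refine hω.rkOne T hT v.1 ((hω.mem_Wt_sub s).mp hv) ?_
  intro h
  exact hne (Subtype.ext h)

theorem sub_seed {s : ℂ} (hs : s * s = 1) (i : Fin n) :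
    Seed (hω.srep s) ψ lam i
      (⟨ds s (Pi.single i 1), ds_mem hs _⟩ : Es n F s) where
  prim := hω.prim
  two := hω.two
  rk := hω.sub_rkOne s
  lam0 := hω.lam0
  mem := by
    rw [hω.mem_Wt_sub]
    show ds s (Pi.single i 1) ∈ _
    rw [ds]
    refine Submodule.add_mem _ (hω.dl_mem _) (Submodule.smul_mem _ _ ?_)
    have := hω.dl_mem (-(Pi.single i 1))
    rwa [TT_neg] at this
  ne := by
    intro h
    exact hω.ds_ne_zero s (Seed.single_ne i 1 one_ne_zero) (congrArg Subtype.val h)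

end IsWeil

/-- the central element -/
def zz (n : ℕ) (F : Type*) [Field F] : Sp n F := mm (-1 : GL (Fin n) F)

omit [Fintype F] in
theorem zz_coe : ((zz n F : Sp n F) : Matrix (Fin n ⊕ Fin n) (Fin n ⊕ Fin n) F) = -1 := by
  have : ((-1 : GL (Fin n) F)⁻¹ : GL (Fin n) F) = -1 := by
    rw [inv_eq_iff_mul_eq_one]; simp
  rw [zz, mm_coe, this]
  rw [Units.val_neg, Units.val_one, transpose_neg, transpose_one]
  have h : (0 : Matrix (Fin n) (Fin n) F) = -0 := by simp
  conv_lhs => rw [h]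
  rw [← fromBlocks_neg, fromBlocks_one]

omit [Fintype F] in
theorem zz_comm (g : Sp n F) : zz n F * g = g * zz n F := by
  apply Subtype.ext
  rw [Submonoid.coe_mul, Submonoid.coe_mul, zz_coe]
  simp

omit [Fintype F] in
theorem zz_sq : zz n F * zz n F = 1 := by
  apply Subtype.ext
  rw [Submonoid.coe_mul, zz_coe]
  simp

/-- The centre acts by a sign. -/
theorem exists_sign {V : Type*} [AddCommGroup V] [Module ℂ V] {ρ : Representation ℂ (Sp n F) V}
    (hρ : ρ.IsIrreducible) : ∃ ζ : ℂ, ζ * ζ = 1 ∧ ∀ v, ρ (zz n F) v = ζ • v := by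
  let U : Submodule ℂ V := LinearMap.ker (ρ (zz n F) - LinearMap.id)
  have hU : ∀ g, ∀ u ∈ U, ρ g u ∈ U := by
    intro g u hu
    rw [LinearMap.mem_ker, LinearMap.sub_apply, LinearMap.id_apply] at hu ⊢
    rw [← rho_mul, zz_comm, rho_mul, sub_eq_zero.mp hu, sub_self]
  by_cases h : ∃ v ∈ U, v ≠ 0
  · obtain ⟨v, hv, hne⟩ := h
    have h1 := eq_top_of_irr hρ U hU hv hne
    refine ⟨1, one_mul 1, fun w => ?_⟩
    have : w ∈ U := by rw [h1]; trivial
    rw [LinearMap.mem_ker, LinearMap.sub_apply, LinearMap.id_apply, sub_eq_zero] at this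
    rw [this, one_smul]
  · push Not at h
    refine ⟨-1, by norm_num, fun w => ?_⟩
    have h1 : w + ρ (zz n F) w ∈ U := by
      rw [LinearMap.mem_ker, LinearMap.sub_apply, LinearMap.id_apply, map_add, ← rho_mul, zz_sq,
        map_one, Module.End.one_apply]
      abel
    have h3 := h _ h1
    rw [neg_smul, one_smul]
    exact (neg_eq_of_add_eq_zero_right h3).symm

theorem Fam.parity {V : Type*} [AddCommGroup V] [Module ℂ V] {ρ : Representation ℂ (Sp n F) V}
    {f : (Fin n → F) → V} (hf : Fam ρ ψ lam f) {ζ : ℂ} (hζ : ∀ v, ρ (zz n F) v = ζ • v)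
    (hchi : chi ψ lam (GeneralLinearGroup.det (-1 : GL (Fin n) F)) ≠ 0) (x : Fin n → F) :
    f (-x) = ((chi ψ lam (GeneralLinearGroup.det (-1 : GL (Fin n) F)))⁻¹ * ζ) • f x := by
  have h1 := hf.r2 (-1) x
  have h2 : ρ (mm (-1 : GL (Fin n) F)) (f x) = ζ • f x := hζ (f x)
  have h3 : ((-1 : GL (Fin n) F)⁻¹ : GL (Fin n) F) = -1 := by
    rw [inv_eq_iff_mul_eq_one]; simp
  rw [h2, h3, Units.val_neg, Units.val_one, vecMul_neg, vecMul_one] at h1
  rw [mul_smul, h1, smul_smul, inv_mul_cancel₀ hchi, one_smul]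

theorem LH_neg_one (f : W n F) : LH (-1 : GL (Fin n) F) f = Pop f := by
  ext x
  rw [LH_apply, Pop_apply, Units.val_neg, Units.val_one, vecMul_neg, vecMul_one]

/-- **Classification of rank one representations.** -/
theorem class_rank_one {V : Type*} [AddCommGroup V] [Module ℂ V] [FiniteDimensional ℂ V]
    {ρ : Representation ℂ (Sp n F) V} {ω : Representation ℂ (Sp n F) (W n F)}
    (hω : IsWeil ψ lam ω) (hρ : ρ.IsIrreducible) (hR : RkOne ρ ψ) {i j : Fin n} (hij : i ≠ j)
    {v : V} (hv : v ∈ Wt ρ ψ (TT lam (Pi.single i 1))) (hne : v ≠ 0) :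
    ρ.character = (hω.srep 1).character ∨
    ρ.character = (hω.srep (-1)).character := by
  have hs : Seed ρ ψ lam i v := ⟨hω.prim, hω.two, hR, hω.lam0, hv, hne⟩
  obtain ⟨f, hf, hfv⟩ := hs.exists_fam hij
  obtain ⟨ζ, hζ2, hζ⟩ := exists_sign hρ
  obtain ⟨c, hc, hc'⟩ := hω.w3 (-1)
  have hc2 : c * c = 1 := by
    have h1 : ω (zz n F) (ω (zz n F) (dl 0)) = dl 0 := by
      rw [← rho_mul, zz_sq, map_one, Module.End.one_apply]
    rw [zz, hc', hc', LH_neg_one, LH_neg_one, map_smul] at h1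
    have h3 := congrFun h1 0
    rw [Pi.smul_apply, Pi.smul_apply, Pop_apply, Pop_apply, neg_zero, neg_zero, dl_self] at h3
    simpa using h3
  have hchi : chi ψ lam (GeneralLinearGroup.det (-1 : GL (Fin n) F)) ≠ 0 :=
    hs.chi_ne_zero hij _
  have key : ∀ s : ℂ, (s = 1 ∨ s = -1) → c * s = ζ →
      ρ.character = (hω.srep s).character := by
    intro s hs1 hcs
    have hs2 : s * s = 1 := by rcases hs1 with rfl | rfl <;> norm_num
    have hss := hω.sub_seed hs2 i
    obtain ⟨f', hf', hfv'⟩ := hss.exists_fam hij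
    have hζ' : ∀ u : Es n F s, (hω.srep s) (zz n F) u = ζ • u := by
      intro u
      apply Subtype.ext
      rw [hω.sub_apply, zz, hc', LH_neg_one]
      ext x
      rw [Pi.smul_apply, Pop_apply, u.2 x, ← hcs]
      show c * (s * u.1 x) = (c * s) * u.1 x
      ring
    refine char_eq_of_fam hω.prim hω.two hω.lam0 i hf hf' hρ (hω.sub_irr hs1 i) ?_ ?_
      ((chi ψ lam (GeneralLinearGroup.det (-1 : GL (Fin n) F)))⁻¹ * ζ)
      (hf.parity hζ hchi) (hf'.parity hζ' hchi)
    · rw [hfv]; exact hne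
    · rw [hfv']; exact hss.ne
  have h1 : (c * ζ) * (c * ζ) = 1 := by
    calc (c * ζ) * (c * ζ) = (c * c) * (ζ * ζ) := by ring
      _ = 1 := by rw [hc2, hζ2, one_mul]
  have h3 : c * (c * ζ) = ζ := by rw [← mul_assoc, hc2, one_mul]
  rcases mul_self_eq_one_iff.mp h1 with h4 | h4
  · left
    exact key 1 (Or.inl rfl) (by rw [← h4]; exact h3)
  · right
    exact key (-1) (Or.inr rfl) (by rw [← h4]; exact h3)

end Cfsg.Agent.H162.Weil
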