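import Cfsg.Agent.H162.RkTwo
import Cfsg.Agent.H162.StabGen
import Cfsg.Agent.H162.WeilIrr

/-!
# Rank two weights over the field of three elements: stabilisers, eigenvectors, families (helper162)
-/

set_option autoImplicit false
open Matrix

namespace Cfsg.Agent.H162.Weil

variable {F : Type*} [Field F] {n : ℕ} [Fintype F] {V : Type*} [AddCommGroup V] [Module ℂ V]
  {ρ : Representation ℂ (Sp n F) V} {ψ : AddChar F ℂ}

/-! ### weights off an index -/

theorem off_eq (hψ : ψ.IsPrimitive) (h2 : (2 : F) ≠ 0) {T T' : Matrix (Fin n) (Fin n) F}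
    (hT : T ∈ Sym n F) (hT' : T' ∈ Sym n F) (b : Fin n)
    (h : ∀ S : Sym n F, (∀ k, S.1 b k = 0) → ψ (pr T' S.1) = ψ (pr T S.1)) {k l : Fin n}
    (hk : k ≠ b) (hl : l ≠ b) : T' k l = T k l := by
  have hpsi : ∀ x y : F, ψ x = ψ y → ψ (x - y) = 1 := by
    intro x y h
    rw [sub_eq_add_neg, AddChar.map_add_eq_mul, h, ← AddChar.map_add_eq_mul, add_neg_cancel,
      AddChar.map_zero_eq_one]
  have hs : ∀ (T : Matrix (Fin n) (Fin n) F), T ∈ Sym n F → ∀ x y, T x y = T y x :=
    fun T hT x y => Sym.apply ⟨T, hT⟩ x y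
  by_cases hkl : k = l
  · subst hkl
    by_contra hne
    obtain ⟨s, hs'⟩ := exists_ne_one hψ (sub_ne_zero.mpr hne)
    apply hs'
    have := hpsi _ _ (h (sD k s) (fun m => sD_zero_of_ne _ _ _ _ (fun h => hk h.1.symm)))
    rw [pr_sD, pr_sD, ← mul_sub] at this
    exact this
  · by_contra hne
    obtain ⟨s, hs'⟩ := exists_ne_one hψ (mul_ne_zero h2 (sub_ne_zero.mpr hne))
    apply hs'
    have := hpsi _ _ (h (sE k l s) (fun m => sE_zero_of_ne _ _ _ _ _ (fun h => hk h.1.symm)
      (fun h => hl h.1.symm)))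
    rw [pr_sE, pr_sE, hs T hT l k, hs T' hT' l k] at this
    rw [← this]
    congr 1
    ring

theorem wt_off (hψ : ψ.IsPrimitive) (h2 : (2 : F) ≠ 0) {T : Matrix (Fin n) (Fin n) F}
    (hT : T ∈ Sym n F) {v : V} (hv : v ∈ Wt ρ ψ T) {b : Fin n} {g : Sp n F}
    (hg : ∀ S : Sym n F, (∀ k, S.1 b k = 0) → g * uu S = uu S * g)
    {T' : Matrix (Fin n) (Fin n) F} (hT' : T' ∈ Sym n F) (h0 : Pj ρ ψ T' (ρ g v) ≠ 0)
    {k l : Fin n} (hk : k ≠ b) (hl : l ≠ b) : T' k l = T k l := by
  refine off_eq hψ h2 hT hT' b (fun S hS => ?_) hk hl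
  have h3 := Pj_mem (ρ := ρ) (ψ := ψ) T' (ρ g v) S
  rw [rho_uu_Pj, ← rho_mul, ← hg S hS, rho_mul, hv S, map_smul, map_smul] at h3
  have h4 : (ψ (pr T S.1) - ψ (pr T' S.1)) • Pj ρ ψ T' (ρ g v) = 0 := by
    rw [sub_smul, h3, sub_self]
  rcases smul_eq_zero.mp h4 with h5 | h5
  · exact (sub_eq_zero.mp h5).symm
  · exact absurd h5 h0

theorem ww_inv_comm_uu (j : Fin n) (S : Sym n F) (h : ∀ k, S.1 j k = 0) :
    (ww j)⁻¹ * uu S = uu S * (ww j)⁻¹ := by
  rw [inv_mul_eq_iff_eq_mul, ← mul_assoc, ww_comm_uu j S h, mul_assoc, mul_inv_cancel, mul_one]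

/-- (F1') for rank two. -/
theorem fix_tv2 (hψ : ψ.IsPrimitive) (h2 : (2 : F) ≠ 0) (hR : RkTwo ρ ψ) {a b : Fin n}
    (hab : a ≠ b) {T : Matrix (Fin n) (Fin n) F} (hT : T ∈ Sym n F) (hTa : ∀ k, T a k = 0)
    {k l : Fin n} (hk : k ≠ b) (hl : l ≠ b) (hkl : T k l ≠ 0) {v : V} (hv : v ∈ Wt ρ ψ T)
    (s : F) : ρ (mm (tv a b hab s)) v = v := by
  have h1 : ρ (uu (sE a b s)) (ρ (ww b)⁻¹ v) = ρ (ww b)⁻¹ v := by
    have key : ∀ T' : Sym n F, ρ (uu (sE a b s)) (Pj ρ ψ T'.1 (ρ (ww b)⁻¹ v)) =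
        Pj ρ ψ T'.1 (ρ (ww b)⁻¹ v) := by
      intro T'
      by_cases h0 : Pj ρ ψ T'.1 (ρ (ww b)⁻¹ v) = 0
      · rw [h0, map_zero]
      have hm := Pj_mem (ρ := ρ) (ψ := ψ) T'.1 (ρ (ww b)⁻¹ v)
      have hoff : ∀ {k l : Fin n}, k ≠ b → l ≠ b → T'.1 k l = T k l := fun hk hl =>
        wt_off hψ h2 hT hv (fun S hS => ww_inv_comm_uu b S hS) T'.2 h0 hk hl
      have hs : ∀ x y, T'.1 x y = T'.1 y x := fun x y => Sym.apply T' x y
      have hmin := hR T'.1 T'.2 _ hm h0 ![a, b, k] ![a, b, l]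
      rw [Matrix.det_fin_three] at hmin
      simp only [submatrix_apply, Matrix.cons_val_zero, Matrix.cons_val_one, Matrix.cons_val_two,
        Matrix.head_cons, Matrix.tail_cons, Matrix.cons_val] at hmin
      rw [hoff hab hab, hTa, hoff hab hl, hTa, hs k a, hoff hab hk, hTa, hoff hk hl, hs b a]
        at hmin
      have h3 : T'.1 a b * T'.1 a b = 0 := by
        have : (T'.1 a b * T'.1 a b) * T k l = 0 := by linear_combination -hmin
        exact (mul_eq_zero.mp this).resolve_right hkl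
      have h4 : T'.1 a b = 0 := mul_self_eq_zero.mp h3
      rw [hm (sE a b s), pr_sE, hs b a, h4, add_zero, mul_zero, AddChar.map_zero_eq_one, one_smul]
    conv_lhs => rw [← sum_Pj (ρ := ρ) hψ h2 (ρ (ww b)⁻¹ v), map_sum]
    conv_rhs => rw [← sum_Pj (ρ := ρ) hψ h2 (ρ (ww b)⁻¹ v)]
    exact Finset.sum_congr rfl fun T _ => key T
  have h3 : mm (tv a b hab s) = ww b * uu (sE a b s) * (ww b)⁻¹ := by
    rw [ww_mul_uu a b hab, mul_inv_cancel_right]
  rw [h3, rho_mul, rho_mul, h1, ← rho_mul, mul_inv_cancel, map_one, Module.End.one_apply]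

/-! ### the field of three elements -/

section three

variable (hF : Fintype.card F = 3)

include hF

theorem three_eq : (3 : F) = 0 := by
  have := FiniteField.cast_card_eq_zero F
  rw [hF] at this
  exact_mod_cast this

theorem two_eq : (2 : F) = -1 := by
  have := three_eq hF
  linear_combination this

theorem two_ne : (2 : F) ≠ 0 := by
  rw [two_eq hF]
  exact neg_ne_zero.mpr one_ne_zero

theorem tri (x : F) : x = 0 ∨ x = 1 ∨ x = -1 := by
  have h := FiniteField.pow_card x
  rw [hF] at h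
  have h1 : x * ((x - 1) * (x + 1)) = 0 := by linear_combination h
  rcases mul_eq_zero.mp h1 with h3 | h3
  · exact Or.inl h3
  · rcases mul_eq_zero.mp h3 with h4 | h4
    · exact Or.inr (Or.inl (sub_eq_zero.mp h4))
    · exact Or.inr (Or.inr (eq_neg_of_add_eq_zero_left h4))

theorem sq_ne {x : F} (hx : x ≠ 0) : x ^ 2 = 1 := by
  rcases tri hF x with h | h | h
  · exact absurd h hx
  · rw [h]; ring
  · rw [h]; ring

theorem gs_three (a : F) : gs ψ a = 1 + 2 * ψ a := by
  classical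
  have hu : (Finset.univ : Finset F) = {0, 1, -1} := by
    ext x
    simp only [Finset.mem_univ, Finset.mem_insert, Finset.mem_singleton, true_iff]
    exact tri hF x
  have h01 : (0 : F) ≠ 1 := zero_ne_one
  have h0m : (0 : F) ≠ -1 := (neg_ne_zero.mpr one_ne_zero).symm
  have h1m : (1 : F) ≠ -1 := by
    intro h
    apply two_ne hF
    linear_combination h
  rw [gs, hu, Finset.sum_insert, Finset.sum_insert, Finset.sum_singleton]
  · have e0 : a * (0 : F) ^ 2 = 0 := by ring
    have e1 : a * (1 : F) ^ 2 = a := by ring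
    have e2 : a * (-1 : F) ^ 2 = a := by ring
    rw [e0, e1, e2, AddChar.map_zero_eq_one]
    ring
  · simpa using h1m
  · simp [h01, h0m]

theorem psi_three (hψ : ψ.IsPrimitive) {a : F} (ha : a ≠ 0) : 1 + ψ a + ψ (-a) = 0 := by
  classical
  have hu : (Finset.univ : Finset F) = {0, 1, -1} := by
    ext x
    simp only [Finset.mem_univ, Finset.mem_insert, Finset.mem_singleton, true_iff]
    exact tri hF x
  have h01 : (0 : F) ≠ 1 := zero_ne_one
  have h0m : (0 : F) ≠ -1 := (neg_ne_zero.mpr one_ne_zero).symm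
  have h1m : (1 : F) ≠ -1 := by
    intro h
    apply two_ne hF
    linear_combination h
  have h := AddChar.sum_mulShift a hψ
  rw [if_neg ha, hu, Finset.sum_insert, Finset.sum_insert, Finset.sum_singleton] at h
  · rw [zero_mul, one_mul, neg_one_mul, AddChar.map_zero_eq_one] at h
    rw [Nat.cast_zero] at h
    rw [← h]; ring
  · simpa using h1m
  · simp [h01, h0m]

theorem psi_two (a : F) : ψ (-a) = ψ a ^ 2 := by
  rw [← AddChar.map_nsmul_eq_pow]
  congr 1
  rw [nsmul_eq_mul]
  have := three_eq hF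
  push_cast
  linear_combination -a * this

theorem g2_neg (hψ : ψ.IsPrimitive) {a b : F} (ha : a ≠ 0) (hb : b ≠ 0) :
    g2 ψ (-a) (-b) = g2 ψ a b := by
  have ha2 := sq_ne hF ha
  have hb2 := sq_ne hF hb
  have hab : b = a ∨ b = -a := by
    have : (b - a) * (b + a) = 0 := by linear_combination hb2 - ha2
    rcases mul_eq_zero.mp this with h | h
    · exact Or.inl (sub_eq_zero.mp h)
    · exact Or.inr (eq_neg_of_add_eq_zero_left h)
  have h1 := psi_three hF hψ ha
  have h3 := psi_two (ψ := ψ) hF a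
  rcases hab with h | h
  · subst h
    rw [g2, g2, gs_three hF, gs_three hF, h3]
    rw [h3] at h1
    have h4 : ψ b ^ 2 = - 1 - ψ b := by linear_combination h1
    rw [h4]; ring
  · subst h
    rw [g2, g2, neg_neg, mul_comm]

theorem g2_ne_zero (hψ : ψ.IsPrimitive) {a b : F} (ha : a ≠ 0) (hb : b ≠ 0) :
    g2 ψ a b ≠ 0 :=
  mul_ne_zero (gs_ne_zero hψ (two_ne hF) ha) (gs_ne_zero hψ (two_ne hF) hb)

theorem unit_three (t : Fˣ) : t = 1 ∨ t = -1 := by
  rcases tri hF (t : F) with h | h | h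
  · exact absurd h t.ne_zero
  · left; exact Units.ext h
  · right; apply Units.ext; rw [h]; simp

/-! ### the stabiliser -/

variable (hψ : ψ.IsPrimitive) (hR : RkTwo ρ ψ) {i k : Fin n} (hik : i ≠ k)
  {a b : F} (ha : a ≠ 0) (hb : b ≠ 0)

include hψ hR hik ha hb

theorem ht_fix {v : V} (hv : v ∈ Wt ρ ψ (TU a b (Pi.single i 1) (Pi.single k 1))) {j : Fin n}
    (hij : i ≠ j) (hkj : k ≠ j) (t : Fˣ) : ρ (mm (ht j t)) v = v := by
  have h1 : ρ (mm (ht j (1 : Fˣ))) v = v := by
    have h3 : ht j (1 : Fˣ) = 1 := by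
      apply Units.ext
      rw [ht_coe]; simp
    rw [h3, map_one, map_one, Module.End.one_apply]
  rcases unit_three hF t with h | h
  · rw [h, h1]
  · rw [h]
    have h3 := g2_ht hψ (two_ne hF) hR hik hij hkj ha hb hv (-1)
    have e : ∀ x : F, -(((-1 : Fˣ)⁻¹ : Fˣ) : F) * x = x := by
      intro x
      rw [inv_neg, inv_one, Units.val_neg, Units.val_one]
      ring
    rw [e, e, g2_neg hF hψ ha hb] at h3
    exact smul_right_injective V (g2_ne_zero hF hψ ha hb) h3

theorem dg_fix {v : V} (hv : v ∈ Wt ρ ψ (TU a b (Pi.single i 1) (Pi.single k 1)))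
    (d : Fin n → Fˣ) (hdi : d i = 1) (hdk : d k = 1) : ρ (mm (dg d)) v = v := by
  let M : Submonoid (Fin n → Fˣ) :=
    { carrier := {d | ρ (mm (dg d)) v = v}
      one_mem' := by
        have : (dg (1 : Fin n → Fˣ) : GL (Fin n) F) = 1 := by
          apply Units.ext
          rw [dg_coe]
          simp
        show ρ (mm (dg 1)) v = _
        rw [this, map_one, map_one, Module.End.one_apply]
      mul_mem' := by
        intro a b ha hb
        simp only [Set.mem_ofPred_eq] at ha hb ⊢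
        rw [dg_mul, map_mul, rho_mul, hb, ha] }
  have hmem : ∀ l, Pi.mulSingle l (d l) ∈ M := by
    intro l
    by_cases hl : l = i
    · subst hl
      rw [hdi, Pi.mulSingle_one]
      exact M.one_mem
    by_cases hl' : l = k
    · subst hl'
      rw [hdk, Pi.mulSingle_one]
      exact M.one_mem
    · show ρ (mm (dg (Pi.mulSingle l (d l)))) v = _
      exact ht_fix hF hψ hR hik ha hb hv (Ne.symm hl) (Ne.symm hl') (d l)
  have := Submonoid.prod_mem M (t := Finset.univ) (f := fun k => Pi.mulSingle k (d k))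
    (fun k _ => hmem k)
  rw [Finset.univ_prod_mulSingle] at this
  exact this

theorem TU_single_row {j : Fin n} (hij : i ≠ j) (hkj : k ≠ j) (l : Fin n) :
    TU a b (Pi.single i 1) (Pi.single k 1) j l = 0 := by
  rw [TU_apply]
  simp [hij.symm, hkj.symm]

/-- The pointwise stabiliser of `e_i, e_k` acts trivially on `Wt T`. -/
theorem stab2 {v : V} (hv : v ∈ Wt ρ ψ (TU a b (Pi.single i 1) (Pi.single k 1)))
    (h : GL (Fin n) F)
    (hi : (Pi.single i 1 : Fin n → F) ᵥ* (h : Matrix (Fin n) (Fin n) F) = Pi.single i 1)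
    (hk : (Pi.single k 1 : Fin n → F) ᵥ* (h : Matrix (Fin n) (Fin n) F) = Pi.single k 1) :
    ρ (mm h) v = v := by
  classical
  let K : Subgroup (GL (Fin n) F) :=
    { carrier := {h | ρ (mm h) v = v}
      one_mem' := by
        show ρ (mm 1) v = v
        rw [map_one, map_one, Module.End.one_apply]
      mul_mem' := by
        intro x y hx hy
        simp only [Set.mem_ofPred_eq] at hx hy ⊢
        rw [map_mul, rho_mul, hy, hx]
      inv_mem' := by
        intro x hx
        simp only [Set.mem_ofPred_eq] at hx ⊢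
        conv_lhs => rw [← hx]
        rw [← rho_mul, ← map_mul, inv_mul_cancel, map_one, map_one, Module.End.one_apply] }
  have : h ∈ K := by
    refine stabP_mem (p := fun x => x ≠ i ∧ x ≠ k) K ?_ ?_ h ?_
    · rintro x y hxy s ⟨hxi, hxk⟩
      show ρ (mm (tv x y hxy s)) v = v
      by_cases hy : y = i
      · refine fix_tv2 hψ (two_ne hF) hR hxy (TU_mem _ _ _ _)
          (TU_single_row hF hψ hR hik ha hb (Ne.symm hxi) (Ne.symm hxk)) (k := k) (l := k)
          (by rw [hy]; exact hik.symm) (by rw [hy]; exact hik.symm) ?_ hv s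
        rw [TU_apply]
        simp [hik.symm, hb]
      · refine fix_tv2 hψ (two_ne hF) hR hxy (TU_mem _ _ _ _)
          (TU_single_row hF hψ hR hik ha hb (Ne.symm hxi) (Ne.symm hxk)) (k := i) (l := i)
          (Ne.symm hy) (Ne.symm hy) ?_ hv s
        rw [TU_apply]
        simp [hik, ha]
    · intro d hd
      exact dg_fix hF hψ hR hik ha hb hv d (hd i (by simp)) (hd k (by simp))
    · intro x hx
      by_cases hxi : x = i
      · rw [hxi]; exact hi
      · have : x = k := by
          by_contra hxk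
          exact hx ⟨hxi, hxk⟩
        rw [this]; exact hk
  exact this

end three

end Cfsg.Agent.H162.Weil
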