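import Cfsg.Agent.H162.WeilCount
import Mathlib.NumberTheory.LegendreSymbol.QuadraticChar.Basic

/-!
# The degree gap (helper162)
-/

set_option autoImplicit false
open Matrix Module Representation

namespace Cfsg.Agent.H162.Weil

variable {F : Type*} [Field F] {n : ℕ} [Fintype F] {V : Type*} [AddCommGroup V] [Module ℂ V]
  {ρ : Representation ℂ (Sp n F) V} {ψ : AddChar F ℂ}

/-- The class of a weight bounds the dimension. -/
theorem card_Ob_le [FiniteDimensional ℂ V] (hψ : ψ.IsPrimitive) (h2 : (2 : F) ≠ 0)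
    {T : Matrix (Fin n) (Fin n) F} (hT : T ∈ Sym n F) {v : V} (hv : v ∈ Wt ρ ψ T) (hne : v ≠ 0) :
    Nat.card (Ob T) ≤ finrank ℂ V := by
  classical
  have hfin : Finite (Ob T) := inferInstance
  let _ : Fintype (Ob T) := Fintype.ofFinite _
  choose h hh using fun S : Ob T => S.2
  let b : Ob T → V := fun S => ρ (mm (h S)) v
  have hb : ∀ S : Ob T, b S ∈ Wt ρ ψ S.1.1 := by
    intro S
    rw [hh S]
    exact mm_mem_Wt (h S) hv
  have hb0 : ∀ S : Ob T, b S ≠ 0 := by
    intro S h0
    apply hne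
    apply rho_inj (ρ := ρ) (mm (h S))
    rw [map_zero]
    exact h0
  have hli : LinearIndependent ℂ b := by
    rw [linearIndependent_iff']
    intro s g hg S hS
    have h1 := congrArg (Pj ρ ψ S.1.1) hg
    rw [map_zero, map_sum, Finset.sum_eq_single_of_mem S hS, map_smul, Pj_of_mem (hb S)] at h1
    · exact (smul_eq_zero.mp h1).resolve_right (hb0 S)
    · intro S' _ hne'
      rw [map_smul, Pj_of_mem_ne hψ h2 S.1.2 S'.1.2 _ (hb S'), smul_zero]
      intro h3
      exact hne' (Subtype.ext (Subtype.ext h3)).symm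
  rw [Nat.card_eq_fintype_card]
  exact hli.fintype_card_le_finrank

omit [Fintype F] in
/-- A normal subgroup containing the upper unipotent block matrices is everything. -/
theorem normal_top (j : Fin n) (K : Subgroup (Sp n F)) [hK : K.Normal]
    (hu : ∀ S : Sym n F, uu S ∈ K) : K = ⊤ := by
  rw [← top_le_iff, ← S0765.result n, Subgroup.closure_le]
  rintro A ⟨w, c, hA⟩
  obtain ⟨k, -, a', hka⟩ := exists_move j (⊤ : Subgroup (Sp n F)) (fun _ => Subgroup.mem_top _)
    (fun _ => Subgroup.mem_top _) (Subgroup.mem_top _) (w ∘ Sum.inl) (w ∘ Sum.inr)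
  rw [Sum.elim_comp_inl_inr] at hka
  obtain ⟨S, hS⟩ := tr_of_zero a' c
  have h1 : k * A = uu S * k := by
    apply Subtype.ext
    rw [Submonoid.coe_mul, Submonoid.coe_mul, hA, mul_tr, hka, hS]
  have h2 : A = k⁻¹ * uu S * k := by rw [mul_assoc, ← h1, inv_mul_cancel_left]
  rw [h2]
  have := hK.conj_mem _ (hu S) k⁻¹
  rwa [inv_inv] at this

/-- If there is only the trivial weight, the representation is one dimensional. -/
theorem dim_one (hψ : ψ.IsPrimitive) (h2 : (2 : F) ≠ 0) (j : Fin n) (hρ : ρ.IsIrreducible)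
    (h0 : ∀ T ∈ Sym n F, T ≠ 0 → ∀ v ∈ Wt ρ ψ T, v = 0) : finrank ℂ V = 1 := by
  have h1 : ∀ (S : Sym n F) (v : V), ρ (uu S) v = v := by
    intro S v
    have h3 : Pj ρ ψ 0 v = v := by
      conv_rhs => rw [← sum_Pj (ρ := ρ) hψ h2 v]
      rw [Finset.sum_eq_single (0 : Sym n F)]
      · rfl
      · intro T _ hT
        apply h0 T.1 T.2 _ _ (Pj_mem _ _)
        intro h; exact hT (Subtype.ext h)
      · simp
    have h4 : v ∈ Wt ρ ψ (0 : Matrix (Fin n) (Fin n) F) := by
      rw [← h3]; exact Pj_mem _ _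
    have h5 := h4 S
    rw [pr_zero_left, AddChar.map_zero_eq_one, one_smul] at h5
    exact h5
  have hker : ρ.ker = ⊤ := by
    apply normal_top j
    intro S
    rw [MonoidHom.mem_ker]
    apply LinearMap.ext
    intro v
    exact h1 S v
  have htriv : ∀ g v, ρ g v = v := by
    intro g v
    have : g ∈ ρ.ker := by rw [hker]; exact Subgroup.mem_top _
    rw [MonoidHom.mem_ker] at this
    rw [this]; rfl
  obtain ⟨v, hv⟩ : ∃ v : V, v ≠ 0 := by
    by_contra hc
    push Not at hc
    have := hρ.toNontrivial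
    obtain ⟨U, hU⟩ := exists_ne (⊤ : Subrepresentation ρ)
    apply hU
    apply Subrepresentation.toSubmodule_injective
    ext v
    rw [hc v]
    simp [zero_mem]
  rw [finrank_eq_one_iff_of_nonzero v hv]
  apply eq_top_of_irr hρ
  · intro g u hu
    rw [htriv]; exact hu
  · exact Submodule.mem_span_singleton_self v
  · exact hv

/-- Either a square or `δ` times a square. -/
theorem sq_or {δ : F} (hδ : ¬ IsSquare δ) {μ : F} (hμ : μ ≠ 0) :
    ∃ t : F, t ≠ 0 ∧ (μ = t ^ 2 ∨ μ = δ * t ^ 2) := by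
  classical
  have hδ0 : δ ≠ 0 := by
    rintro rfl
    exact hδ (IsSquare.zero)
  by_cases h : IsSquare μ
  · obtain ⟨t, ht⟩ := h
    refine ⟨t, ?_, Or.inl (by rw [ht]; ring)⟩
    rintro rfl
    apply hμ; rw [ht]; ring
  · have h1 := quadraticChar_neg_one_iff_not_isSquare.mpr hδ
    have h3 := quadraticChar_neg_one_iff_not_isSquare.mpr h
    have h4 : quadraticChar F (μ * δ) = 1 := by rw [map_mul, h1, h3]; norm_num
    rw [quadraticChar_one_iff_isSquare (mul_ne_zero hμ hδ0)] at h4
    obtain ⟨s, hs⟩ := h4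
    have hs0 : s ≠ 0 := by
      rintro rfl
      apply mul_ne_zero hμ hδ0
      rw [hs]; ring
    refine ⟨s / δ, div_ne_zero hs0 hδ0, Or.inr ?_⟩
    field_simp
    rw [hs]; ring

/-- **Trichotomy.** -/
theorem trichotomy [FiniteDimensional ℂ V] (hq : 3 ≤ Fintype.card F) (hn : 2 ≤ n)
    {δ : F} (hδ : ¬ IsSquare δ) {ω : Representation ℂ (Sp n F) (W n F)}
    {ω' : Representation ℂ (Sp n F) (W n F)} (hω : IsWeil ψ 1 ω) (hω' : IsWeil ψ δ ω')
    (hρ : ρ.IsIrreducible) :
    finrank ℂ V = 1 ∨ (Fintype.card F ^ n - 1) * (Fintype.card F ^ n - Fintype.card F) ≤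
      2 * (Fintype.card F + 1) * finrank ℂ V ∨
      ρ.character = (hω.srep 1).character ∨ ρ.character = (hω.srep (-1)).character ∨
      ρ.character = (hω'.srep 1).character ∨ ρ.character = (hω'.srep (-1)).character := by
  let i : Fin n := ⟨0, by omega⟩
  let j : Fin n := ⟨1, by omega⟩
  have hij : i ≠ j := by intro h; simp [i, j] at h
  by_cases h0 : ∀ T ∈ Sym n F, T ≠ 0 → ∀ v ∈ Wt ρ ψ T, v = 0
  · exact Or.inl (dim_one hω.prim hω.two i hρ h0)
  push Not at h0
  obtain ⟨T, hT, hT0, v, hv, hne⟩ := h0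
  right
  by_cases hR : RkOne ρ ψ
  · right
    obtain ⟨p, q, hpq⟩ : ∃ p q, T p q ≠ 0 := by
      by_contra hc
      push Not at hc
      exact hT0 (by ext p q; exact hc p q)
    have hr := hR T hT v hv hne
    have hTs : ∀ a b, T a b = T b a := fun a b => Sym.apply ⟨T, hT⟩ a b
    have hk : T p p ≠ 0 := by
      intro h
      have := hr p p q q
      rw [h, zero_mul, hTs q p] at this
      exact mul_ne_zero hpq hpq this.symm
    have hTT : T = TT (T p p)⁻¹ (fun l => T l p) := by
      ext a b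
      rw [TT_apply, hTs b p, hr a p p b]
      field_simp
    obtain ⟨t, ht, hμ⟩ := sq_or hδ (inv_ne_zero hk)
    have hx : (t • (fun l => T l p) : Fin n → F) ≠ 0 := by
      intro h
      have := congrFun h p
      simp only [Pi.smul_apply, smul_eq_mul, Pi.zero_apply] at this
      exact mul_ne_zero ht hk this
    obtain ⟨g, hg⟩ := exists_vecMul_eq_single _ hx i
    have key : ∀ lam : F, (T p p)⁻¹ = lam * t ^ 2 →
        ρ (mm g⁻¹) v ∈ Wt ρ ψ (TT lam (Pi.single i 1)) := by
      intro lam hlam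
      have h3 : T = TT lam (t • (fun l => T l p)) := by
        conv_lhs => rw [hTT]
        ext a b
        rw [TT_apply, TT_apply, hlam]
        simp only [Pi.smul_apply, smul_eq_mul]
        ring
      have h4 : v ∈ Wt ρ ψ (TT lam (t • (fun l => T l p))) := by rw [← h3]; exact hv
      have h5 := mm_mem_TT g⁻¹ h4
      rwa [inv_inv, hg] at h5
    have hne' : ρ (mm g⁻¹) v ≠ 0 := by
      intro h
      exact hne (rho_inj (ρ := ρ) (mm g⁻¹) (by rw [h, map_zero]))
    rcases hμ with h | h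
    · rcases class_rank_one hω hρ hR hij (key 1 (by rw [h]; ring)) hne' with h3 | h3
      · exact Or.inl h3
      · exact Or.inr (Or.inl h3)
    · rcases class_rank_one hω' hρ hR hij (key δ h) hne' with h3 | h3
      · exact Or.inr (Or.inr (Or.inl h3))
      · exact Or.inr (Or.inr (Or.inr h3))
  · left
    unfold RkOne at hR
    push Not at hR
    obtain ⟨S, hS, w, hw, hw0, a, b, c, d, habcd⟩ := hR
    exact (card_Ob hω.two hq hn hS habcd).trans
      (Nat.mul_le_mul le_rfl (card_Ob_le hω.prim hω.two hS hw hw0))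

/-- the multiplicity of a weight is determined by the character -/
theorem finrank_Wt [FiniteDimensional ℂ V] (T : Matrix (Fin n) (Fin n) F) :
    (finrank ℂ (Wt ρ ψ T) : ℂ) =
      (Nat.card (Sym n F) : ℂ)⁻¹ * ∑ S : Sym n F, ψ (-(pr T S.1)) * ρ.character (uu S) := by
  have h : LinearMap.IsProj (Wt ρ ψ T) (Pj ρ ψ T) := ⟨Pj_mem T, fun v hv => Pj_of_mem hv⟩
  rw [← h.trace, Pj, map_smul, map_sum, smul_eq_mul]
  congr 1
  refine Finset.sum_congr rfl fun S _ => ?_
  rw [map_smul, smul_eq_mul]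
  rfl

theorem srep_ne {δ : F} (hδ : ¬ IsSquare δ) {ω : Representation ℂ (Sp n F) (W n F)}
    {ω' : Representation ℂ (Sp n F) (W n F)} (hω : IsWeil ψ 1 ω) (hω' : IsWeil ψ δ ω')
    {s : ℂ} (hs : s * s = 1) (i : Fin n) :
    (hω.srep s).character ≠ (hω'.srep s).character := by
  intro h
  have h1 := finrank_Wt (ρ := hω.srep s) (ψ := ψ) (TT 1 (Pi.single i 1))
  have h3 := finrank_Wt (ρ := hω'.srep s) (ψ := ψ) (TT 1 (Pi.single i 1))
  rw [h, ← h3, Nat.cast_inj] at h1
  have h4 : finrank ℂ (Wt (hω'.srep s) ψ (TT 1 (Pi.single i 1))) = 0 := by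
    have : Wt (hω'.srep s) ψ (TT 1 (Pi.single i 1)) = ⊥ := by
      rw [eq_bot_iff]
      intro v hv
      rw [Submodule.mem_bot]
      by_contra hne
      rw [hω'.mem_Wt_sub] at hv
      obtain ⟨x, hx⟩ : ∃ x, (v : W n F) x ≠ 0 := by
        by_contra hc
        push Not at hc
        exact hne (Subtype.ext (funext hc))
      have h5 := congrFun (congrFun (hω'.wt_eq (TT_mem _ _) hv hx) i) i
      rw [TT_apply, TT_apply] at h5
      simp only [Pi.single_eq_same, mul_one] at h5
      apply hδ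
      have hxi : x i ≠ 0 := by
        intro h0
        rw [h0] at h5
        simp at h5
      refine ⟨(x i)⁻¹, ?_⟩
      field_simp
      linear_combination -h5
    rw [this, finrank_bot]
  rw [h4] at h1
  have h5 := (hω.sub_seed hs i).mem
  have h6 := (hω.sub_seed hs i).ne
  rw [Submodule.finrank_eq_zero] at h1
  rw [h1, Submodule.mem_bot] at h5
  exact h6 h5

end Cfsg.Agent.H162.Weil
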