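import Cfsg.Agent.H162.WeilOrb

/-!
# Counting congruence classes (helper162)
-/

set_option autoImplicit false
open Matrix Module

namespace Cfsg.Agent.H162.Weil

variable {F : Type*} [Field F] {n : ℕ} [Fintype F]

open Classical in
/-- The conic has at most `q+1` points. -/
theorem card_conic (h2 : (2 : F) ≠ 0) {a b : F} (hb : b ≠ 0) (ha : a ≠ 0) :
    (Finset.univ.filter (fun p : F × F => a * p.1 ^ 2 + b * p.2 ^ 2 = a)).card ≤
      Fintype.card F + 1 := by
  have h1 : Fintype.card (Option F) = Fintype.card F + 1 := Fintype.card_option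
  rw [← h1, ← Finset.card_univ]
  have key : ∀ x y : F, a * x ^ 2 + b * y ^ 2 = a → (x, y) ≠ (1, 0) → x - 1 ≠ 0 := by
    intro x y h hne h0
    apply hne
    have hx : x = 1 := by linear_combination h0
    subst hx
    have : b * y ^ 2 = 0 := by linear_combination h
    have : y ^ 2 = 0 := by
      rcases mul_eq_zero.mp this with h | h
      · exact absurd h hb
      · exact h
    have : y = 0 := by simpa using this
    rw [this]
  refine Finset.card_le_card_of_injOn
    (fun p => if p = (1, 0) then none else some (p.2 / (p.1 - 1))) (fun _ _ => Finset.mem_univ _) ?_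
  rintro ⟨x, y⟩ hp ⟨x', y'⟩ hp' h
  simp only [Finset.coe_filter, Finset.mem_univ, true_and, Set.mem_ofPred_eq] at hp hp'
  by_cases e1 : (x, y) = (1, 0)
  · by_cases e2 : (x', y') = (1, 0)
    · rw [e1, e2]
    · simp only [e1, e2, if_true, if_false] at h
      exact absurd h (by simp)
  · by_cases e2 : (x', y') = (1, 0)
    · simp only [e1, e2, if_true, if_false] at h
      exact absurd h (by simp)
    · simp only [e1, e2, if_false, Option.some.injEq] at h
      have k1 := key x y hp e1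
      have k2 := key x' y' hp' e2
      set t := y / (x - 1) with ht
      have hy : y = t * (x - 1) := by rw [ht]; field_simp
      have hy' : y' = t * (x' - 1) := by rw [h]; field_simp
      have m1 : a * (x + 1) + b * t ^ 2 * (x - 1) = 0 := by
        have : (x - 1) * (a * (x + 1) + b * t ^ 2 * (x - 1)) = 0 := by
          rw [hy] at hp
          linear_combination hp
        rcases mul_eq_zero.mp this with h | h
        · exact absurd h k1
        · exact h
      have m2 : a * (x' + 1) + b * t ^ 2 * (x' - 1) = 0 := by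
        have : (x' - 1) * (a * (x' + 1) + b * t ^ 2 * (x' - 1)) = 0 := by
          rw [hy'] at hp'
          linear_combination hp'
        rcases mul_eq_zero.mp this with h | h
        · exact absurd h k2
        · exact h
      have hs : a + b * t ^ 2 ≠ 0 := by
        intro h0
        have : 2 * a = 0 := by linear_combination m1 - (x - 1) * h0
        rcases mul_eq_zero.mp this with h | h
        · exact h2 h
        · exact ha h
      have hx : x = x' := by
        have : (a + b * t ^ 2) * (x - x') = 0 := by linear_combination m1 - m2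
        rcases mul_eq_zero.mp this with h | h
        · exact absurd h hs
        · linear_combination h
      rw [hy, hy', hx]

variable (n) in
/-- the quadratic sum of two vectors -/
def T2 (a b : F) (s : Fin 2 → Fin n → F) : Matrix (Fin n) (Fin n) F :=
  a • vecMulVec (s 0) (s 0) + b • vecMulVec (s 1) (s 1)

omit [Fintype F] in
theorem T2_mulVec (a b : F) (s : Fin 2 → Fin n → F) (x : Fin n → F) :
    T2 n a b s *ᵥ x = (a * (s 0 ⬝ᵥ x)) • s 0 + (b * (s 1 ⬝ᵥ x)) • s 1 := by
  rw [T2, add_mulVec, smul_mulVec, smul_mulVec, vecMulVec_mulVec, vecMulVec_mulVec]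
  simp [smul_smul]

open Classical in
/-- The number of pairs giving the same symmetric matrix. -/
theorem card_fibre (h2 : (2 : F) ≠ 0) {a b : F} (hb : b ≠ 0) (ha : a ≠ 0) {i j : Fin n}
    (hij : i ≠ j) (T : Matrix (Fin n) (Fin n) F) :
    (Finset.univ.filter (fun s : {s : Fin 2 → Fin n → F // LinearIndependent F s} =>
      T2 n a b s.1 = T)).card ≤ 2 * (Fintype.card F + 1) := by
  set A := Finset.univ.filter (fun s : {s : Fin 2 → Fin n → F // LinearIndependent F s} =>
      T2 n a b s.1 = T) with hA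
  rcases A.eq_empty_or_nonempty with h | ⟨s0, hs0⟩
  · rw [h]; simp
  have hT0 : T2 n a b s0.1 = T := by
    have := Finset.mem_filter.mp hs0
    exact this.2
  have hli : LinearIndependent F ![s0.1 0, s0.1 1] := by
    have h3 : ![s0.1 0, s0.1 1] = s0.1 := by
      ext k; fin_cases k <;> rfl
    rw [h3]; exact s0.2
  obtain ⟨P, hP0, hP1⟩ := exists_gl_pair hij hli
  set x0 : Fin n → F := ((P⁻¹ : GL (Fin n) F) : Matrix (Fin n) (Fin n) F) *ᵥ Pi.single i 1 with hx0
  set y0 : Fin n → F := ((P⁻¹ : GL (Fin n) F) : Matrix (Fin n) (Fin n) F) *ᵥ Pi.single j 1 with hy0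
  have hPP : (P : Matrix (Fin n) (Fin n) F) * ((P⁻¹ : GL (Fin n) F) : Matrix (Fin n) (Fin n) F) = 1 := by
    rw [← Units.val_mul, mul_inv_cancel, Units.val_one]
  have e00 : s0.1 0 ⬝ᵥ x0 = 1 := by
    rw [← hP0, hx0, ← dotProduct_mulVec, mulVec_mulVec, hPP, one_mulVec]; simp
  have e01 : s0.1 0 ⬝ᵥ y0 = 0 := by
    rw [← hP0, hy0, ← dotProduct_mulVec, mulVec_mulVec, hPP, one_mulVec]; simp [hij.symm, hij]
  have e10 : s0.1 1 ⬝ᵥ x0 = 0 := by
    rw [← hP1, hx0, ← dotProduct_mulVec, mulVec_mulVec, hPP, one_mulVec]; simp [hij.symm, hij]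
  have e11 : s0.1 1 ⬝ᵥ y0 = 1 := by
    rw [← hP1, hy0, ← dotProduct_mulVec, mulVec_mulVec, hPP, one_mulVec]; simp
  -- the facts for members of the fibre
  have facts : ∀ s : Fin 2 → Fin n → F, T2 n a b s = T →
      (a * (s 0 ⬝ᵥ x0)) • s 0 + (b * (s 1 ⬝ᵥ x0)) • s 1 = a • s0.1 0 ∧
      (a * (s 0 ⬝ᵥ y0)) • s 0 + (b * (s 1 ⬝ᵥ y0)) • s 1 = b • s0.1 1 := by
    intro s hs
    rw [← T2_mulVec, ← T2_mulVec, hs, ← hT0, T2_mulVec, T2_mulVec, e00, e01, e10, e11]
    constructor <;> simp
  have facts2 : ∀ s : Fin 2 → Fin n → F, T2 n a b s = T →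
      a * (s 0 ⬝ᵥ x0) ^ 2 + b * (s 1 ⬝ᵥ x0) ^ 2 = a ∧
      a * (s 0 ⬝ᵥ x0) * (s 0 ⬝ᵥ y0) + b * (s 1 ⬝ᵥ x0) * (s 1 ⬝ᵥ y0) = 0 ∧
      a * (s 0 ⬝ᵥ y0) ^ 2 + b * (s 1 ⬝ᵥ y0) ^ 2 = b := by
    intro s hs
    obtain ⟨h3, h4⟩ := facts s hs
    refine ⟨?_, ?_, ?_⟩
    · have := congrArg (fun w => w ⬝ᵥ x0) h3
      simp only [add_dotProduct, smul_dotProduct, smul_eq_mul, e00] at this
      linear_combination this
    · have := congrArg (fun w => w ⬝ᵥ y0) h3
      simp only [add_dotProduct, smul_dotProduct, smul_eq_mul, e01] at this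
      linear_combination this
    · have := congrArg (fun w => w ⬝ᵥ y0) h4
      simp only [add_dotProduct, smul_dotProduct, smul_eq_mul, e11] at this
      linear_combination this
  let φ : {s : Fin 2 → Fin n → F // LinearIndependent F s} → F × (F × F) := fun s =>
    ((s.1 0 ⬝ᵥ x0) * (s.1 1 ⬝ᵥ y0) - (s.1 0 ⬝ᵥ y0) * (s.1 1 ⬝ᵥ x0), (s.1 0 ⬝ᵥ x0, s.1 1 ⬝ᵥ x0))
  have hcard : (({1, -1} : Finset F) ×ˢ
      Finset.univ.filter (fun p : F × F => a * p.1 ^ 2 + b * p.2 ^ 2 = a)).card ≤
        2 * (Fintype.card F + 1) := by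
    rw [Finset.card_product]
    exact Nat.mul_le_mul Finset.card_le_two (card_conic h2 hb ha)
  refine le_trans (Finset.card_le_card_of_injOn φ ?_ ?_) hcard
  · intro s hs
    have hs' : T2 n a b s.1 = T := by
      have := Finset.mem_filter.mp hs
      exact this.2
    obtain ⟨g1, g2, g3⟩ := facts2 s.1 hs'
    rw [Finset.mem_coe, Finset.mem_product]
    constructor
    · rw [Finset.mem_insert, Finset.mem_singleton]
      have h3 : a * b * (((s.1 0 ⬝ᵥ x0) * (s.1 1 ⬝ᵥ y0) - (s.1 0 ⬝ᵥ y0) * (s.1 1 ⬝ᵥ x0)) ^ 2) =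
          a * b := by
        generalize s.1 0 ⬝ᵥ x0 = α at *
        generalize s.1 0 ⬝ᵥ y0 = β at *
        generalize s.1 1 ⬝ᵥ x0 = γ at *
        generalize s.1 1 ⬝ᵥ y0 = δ at *
        linear_combination (a * β ^ 2 + b * δ ^ 2) * g1 - (a * α * β + b * γ * δ) * g2 + a * g3
      have h4 : ((s.1 0 ⬝ᵥ x0) * (s.1 1 ⬝ᵥ y0) - (s.1 0 ⬝ᵥ y0) * (s.1 1 ⬝ᵥ x0)) ^ 2 = 1 := by
        have := mul_ne_zero ha hb
        apply mul_left_cancel₀ this
        rw [h3, mul_one]
      have h5 : (((s.1 0 ⬝ᵥ x0) * (s.1 1 ⬝ᵥ y0) - (s.1 0 ⬝ᵥ y0) * (s.1 1 ⬝ᵥ x0)) - 1) *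
          (((s.1 0 ⬝ᵥ x0) * (s.1 1 ⬝ᵥ y0) - (s.1 0 ⬝ᵥ y0) * (s.1 1 ⬝ᵥ x0)) + 1) = 0 := by
        linear_combination h4
      rcases mul_eq_zero.mp h5 with h | h
      · exact Or.inl (by linear_combination h)
      · exact Or.inr (by linear_combination h)
    · rw [Finset.mem_filter]
      exact ⟨Finset.mem_univ _, g1⟩
  · intro s hs s' hs' hφ
    have hs1 : T2 n a b s.1 = T := (Finset.mem_filter.mp hs).2
    have hs2 : T2 n a b s'.1 = T := (Finset.mem_filter.mp hs').2
    have main : ∀ s : {s : Fin 2 → Fin n → F // LinearIndependent F s}, T2 n a b s.1 = T →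
        s.1 0 = (φ s).2.1 • s0.1 0 - (b / a * (φ s).2.2 * (φ s).1) • s0.1 1 ∧
        s.1 1 = ((φ s).2.1 * (φ s).1) • s0.1 1 + (φ s).2.2 • s0.1 0 := by
      intro s hs
      obtain ⟨g1, g2, g3⟩ := facts2 s.1 hs
      obtain ⟨f1, f2⟩ := facts s.1 hs
      simp only [φ]
      set α := s.1 0 ⬝ᵥ x0
      set β := s.1 0 ⬝ᵥ y0
      set γ := s.1 1 ⬝ᵥ x0
      set δ := s.1 1 ⬝ᵥ y0
      have E : (α * δ - β * γ) ^ 2 = 1 := by
        have := mul_ne_zero ha hb
        apply mul_left_cancel₀ this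
        linear_combination (a * β ^ 2 + b * δ ^ 2) * g1 - (a * α * β + b * γ * δ) * g2 + a * g3
      have D1 : a * δ = a * α * (α * δ - β * γ) := by linear_combination -δ * g1 + γ * g2
      have D2 : a * β = - b * γ * (α * δ - β * γ) := by linear_combination α * g2 - β * g1
      obtain ⟨ε, hε⟩ : ∃ ε, ε = α * δ - β * γ := ⟨_, rfl⟩
      rw [← hε] at D1 D2 E
      rw [← hε]
      have D1' : δ = α * ε := by
        apply mul_left_cancel₀ ha
        rw [D1]; ring
      constructor
      · ext m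
        have k1 := congrFun f1 m
        have k2 := congrFun f2 m
        simp only [Pi.add_apply, Pi.smul_apply, smul_eq_mul, Pi.sub_apply] at k1 k2 ⊢
        rw [D1'] at k2
        apply mul_left_cancel₀ ha
        have h5 : a * (α * s0.1 0 m - b / a * γ * ε * s0.1 1 m) =
          α * (a * s0.1 0 m) - γ * ε * (b * s0.1 1 m) := by field_simp
        rw [h5]
        linear_combination α * k1 - γ * ε * k2 - (s.1 0 m) * g1 + (s.1 0 m) * γ * ε * D2 +
          (b * α * γ * s.1 1 m - b * γ ^ 2 * s.1 0 m) * E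
      · ext m
        have k1 := congrFun f1 m
        have k2 := congrFun f2 m
        simp only [Pi.add_apply, Pi.smul_apply, smul_eq_mul, Pi.sub_apply] at k1 k2 ⊢
        rw [D1'] at k2
        apply mul_left_cancel₀ (mul_ne_zero ha hb)
        linear_combination a * α * ε * k2 + b * γ * k1 - b * s.1 1 m * g1 -
          a * b * α ^ 2 * s.1 1 m * E - a * α * ε * s.1 0 m * D2 + a * b * α * γ * s.1 0 m * E
    obtain ⟨m1, m2⟩ := main s hs1
    obtain ⟨m1', m2'⟩ := main s' hs2
    rw [← hφ] at m1' m2'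
    apply Subtype.ext
    ext k m
    fin_cases k
    · exact congrFun (m1.trans m1'.symm) m
    · exact congrFun (m2.trans m2'.symm) m

omit [Fintype F] in
theorem single_vecMul_row (i : Fin n) (P : Matrix (Fin n) (Fin n) F) :
    (Pi.single i 1 : Fin n → F) ᵥ* P = P i := by
  ext k
  simp [Matrix.single_one_vecMul]

open Classical in
/-- exactly two nonzero entries -/
theorem card_two (h2 : (2 : F) ≠ 0) (hn : 2 ≤ n) {a : Fin n → F} {i j : Fin n} (hij : i ≠ j)
    (hi : a i ≠ 0) (hj : a j ≠ 0) (hk : ∀ k, k ≠ i → k ≠ j → a k = 0) :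
    (Fintype.card F ^ n - 1) * (Fintype.card F ^ n - Fintype.card F) ≤
      2 * (Fintype.card F + 1) * Nat.card (Ob (diagonal a)) := by
  have hli : ∀ s : Fin 2 → Fin n → F, LinearIndependent F s → LinearIndependent F ![s 0, s 1] := by
    intro s hs
    have h3 : ![s 0, s 1] = s := by
      ext k; fin_cases k <;> rfl
    rw [h3]; exact hs
  have hmem : ∀ s : Fin 2 → Fin n → F, LinearIndependent F s →
      ∃ h : GL (Fin n) F, T2 n (a i) (a j) s = actT h (diagonal a) := by
    intro s hs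
    obtain ⟨P, hP0, hP1⟩ := exists_gl_pair hij (hli s hs)
    refine ⟨P⁻¹, ?_⟩
    rw [actT, inv_inv, diag_conj, ← Finset.add_sum_erase _ _ (Finset.mem_univ i),
      ← Finset.add_sum_erase _ _ (Finset.mem_erase.mpr ⟨hij.symm, Finset.mem_univ j⟩),
      Finset.sum_eq_zero, add_zero, T2, ← hP0, ← hP1, single_vecMul_row, single_vecMul_row]
    intro k hk'
    rw [Finset.mem_erase, Finset.mem_erase] at hk'
    rw [hk k hk'.2.1 hk'.1, zero_smul]
  have hsym : ∀ s : Fin 2 → Fin n → F, T2 n (a i) (a j) s ∈ Sym n F := by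
    intro s
    rw [mem_Sym, T2, transpose_add, transpose_smul, transpose_smul, transpose_vecMulVec,
      transpose_vecMulVec]
  let f : {s : Fin 2 → Fin n → F // LinearIndependent F s} → Ob (diagonal a) := fun s =>
    ⟨⟨T2 n (a i) (a j) s.1, hsym s.1⟩, hmem s.1 s.2⟩
  have hc := Finset.card_le_mul_card_image (f := f) Finset.univ (2 * (Fintype.card F + 1)) (by
    intro b _
    refine le_trans (Finset.card_le_card ?_) (card_fibre h2 hj hi hij b.1.1)
    intro s hs
    rw [Finset.mem_filter] at hs ⊢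
    refine ⟨Finset.mem_univ _, ?_⟩
    have h3 := hs.2
    rw [← h3])
  have hcard : Nat.card {s : Fin 2 → Fin n → F // LinearIndependent F s} =
      (Fintype.card F ^ n - 1) * (Fintype.card F ^ n - Fintype.card F) := by
    rw [card_linearIndependent (by simpa using hn)]
    simp [Fin.prod_univ_two]
  rw [← hcard, Nat.card_eq_fintype_card, ← Finset.card_univ]
  refine hc.trans (Nat.mul_le_mul le_rfl ?_)
  rw [Nat.card_eq_fintype_card]
  exact Finset.card_le_univ _

open Classical in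
/-- vectors with nonzero `i`-th entry -/
theorem card_ne (i : Fin n) :
    (Finset.univ.filter (fun p : Fin n → F => p i ≠ 0)).card =
      (Fintype.card F - 1) * Fintype.card F ^ (n - 1) := by
  have h1 : Finset.univ.filter (fun p : Fin n → F => p i ≠ 0) =
      Fintype.piFinset (fun k => if k = i then Finset.univ.erase 0 else Finset.univ) := by
    ext p
    rw [Finset.mem_filter, Fintype.mem_piFinset]
    constructor
    · rintro ⟨_, h⟩ k
      by_cases hk : k = i
      · subst hk; simpa using h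
      · simp [hk]
    · intro h
      have := h i
      simpa using this
  rw [h1, Fintype.card_piFinset, ← Finset.mul_prod_erase _ _ (Finset.mem_univ i), if_pos rfl,
    Finset.card_erase_of_mem (Finset.mem_univ _), Finset.card_univ]
  congr 1
  rw [Finset.prod_congr rfl (g := fun _ => Fintype.card F), Finset.prod_const,
    Finset.card_erase_of_mem (Finset.mem_univ _), Finset.card_univ, Fintype.card_fin]
  intro k hk
  rw [if_neg (Finset.ne_of_mem_erase hk), Finset.card_univ]

open Classical in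
theorem card_ne_two {i j : Fin n} (hij : i ≠ j) :
    (Finset.univ.filter (fun p : Fin n → F => p i = 0 ∧ p j ≠ 0)).card =
      (Fintype.card F - 1) * Fintype.card F ^ (n - 2) := by
  have h1 : Finset.univ.filter (fun p : Fin n → F => p i = 0 ∧ p j ≠ 0) =
      Fintype.piFinset (fun k => if k = i then {0} else if k = j then Finset.univ.erase 0
        else Finset.univ) := by
    ext p
    rw [Finset.mem_filter, Fintype.mem_piFinset]
    constructor
    · rintro ⟨_, h0, h⟩ k
      by_cases hk : k = i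
      · subst hk; simpa using h0
      · by_cases hk' : k = j
        · subst hk'; simpa [hk] using h
        · simp [hk, hk']
    · intro h
      have h3 := h i
      have h4 := h j
      simp only [if_true, if_neg hij.symm] at h3 h4
      simpa using And.intro h3 h4
  rw [h1, Fintype.card_piFinset, ← Finset.mul_prod_erase _ _ (Finset.mem_univ j),
    ← Finset.mul_prod_erase _ _ (Finset.mem_erase.mpr ⟨hij, Finset.mem_univ i⟩),
    if_neg hij.symm, if_pos rfl, if_pos rfl,
    Finset.card_erase_of_mem (Finset.mem_univ _), Finset.card_univ, Finset.card_singleton, one_mul]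
  congr 1
  rw [Finset.prod_congr rfl (g := fun _ => Fintype.card F), Finset.prod_const,
    Finset.card_erase_of_mem (Finset.mem_erase.mpr ⟨hij, Finset.mem_univ i⟩),
    Finset.card_erase_of_mem (Finset.mem_univ _), Finset.card_univ, Fintype.card_fin, Nat.sub_sub]
  intro k hk
  rw [if_neg (Finset.ne_of_mem_erase hk),
    if_neg (Finset.ne_of_mem_erase (Finset.mem_of_mem_erase hk)), Finset.card_univ]

/-- the matrix built from a pair of vectors -/
def T3 (a : Fin n → F) (i j : Fin n) (p r : Fin n → F) : Matrix (Fin n) (Fin n) F :=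
  (p i)⁻¹ • vecMulVec p p + (r j)⁻¹ • vecMulVec r r +
    ∑ k ∈ (Finset.univ.erase i).erase j, a k • vecMulVec (Pi.single k 1) (Pi.single k 1)

omit [Fintype F] in
theorem T3_sum_mulVec (a : Fin n → F) {i j l : Fin n} (hl : l = i ∨ l = j) :
    (∑ k ∈ (Finset.univ.erase i).erase j, a k • vecMulVec (Pi.single k 1 : Fin n → F)
      (Pi.single k 1)) *ᵥ (Pi.single l 1 : Fin n → F) = 0 := by
  rw [Matrix.sum_mulVec]
  apply Finset.sum_eq_zero
  intro k hk
  rw [Finset.mem_erase, Finset.mem_erase] at hk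
  rw [smul_mulVec, vecMulVec_mulVec]
  have : k ≠ l := by
    rcases hl with rfl | rfl
    · exact hk.2.1
    · exact hk.1
  simp [this]

omit [Fintype F] in
theorem T3_inj {i j : Fin n} {a a' : Fin n → F} {p r p' r' : Fin n → F}
    (hp : p i ≠ 0) (hr : r i = 0) (hrj : r j ≠ 0) (hp' : p' i ≠ 0) (hr' : r' i = 0)
    (hrj' : r' j ≠ 0) (h : T3 a i j p r = T3 a' i j p' r') : p = p' ∧ r = r' := by
  have k1 : ∀ (a p r : Fin n → F), p i ≠ 0 → r i = 0 → r j ≠ 0 →
      T3 a i j p r *ᵥ (Pi.single i 1 : Fin n → F) = p ∧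
      T3 a i j p r *ᵥ (Pi.single j 1 : Fin n → F) = ((p i)⁻¹ * p j) • p + r := by
    intro a p r hp hr hrj
    rw [T3]
    constructor
    · rw [add_mulVec, T3_sum_mulVec a (Or.inl rfl), add_mulVec, smul_mulVec, smul_mulVec,
        vecMulVec_mulVec, vecMulVec_mulVec]
      ext m
      simp [hr]
      field_simp
    · rw [add_mulVec, T3_sum_mulVec a (Or.inr rfl), add_mulVec, smul_mulVec, smul_mulVec,
        vecMulVec_mulVec, vecMulVec_mulVec]
      ext m
      simp [hr]
      field_simp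
  obtain ⟨e1, e2⟩ := k1 a p r hp hr hrj
  obtain ⟨e1', e2'⟩ := k1 a' p' r' hp' hr' hrj'
  have hpp : p = p' := by rw [← e1, ← e1', h]
  refine ⟨hpp, ?_⟩
  subst hpp
  rw [h, e2'] at e2
  exact (add_left_cancel e2).symm

/-- `T3` is in the class -/
theorem T3_mem (h2 : (2 : F) ≠ 0) {a : Fin n → F} {i j k : Fin n} (hij : i ≠ j) (hik : i ≠ k)
    (hjk : j ≠ k) (hi : a i ≠ 0) (hj : a j ≠ 0) (hk : a k ≠ 0) {p r : Fin n → F}
    (hp : p i ≠ 0) (hr : r i = 0) (hrj : r j ≠ 0) :
    ∃ (a' : Fin n → F) (h : GL (Fin n) F), T3 a' i j p r = actT h (diagonal a) := by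
  obtain ⟨g1, hg1⟩ := bin_step h2 hij a hi hj hp
  set a1 := Function.update (Function.update a i (p i)) j (a i * a j * p i) with ha1
  have h1j : a1 j ≠ 0 := by
    rw [ha1, Function.update_self]
    exact mul_ne_zero (mul_ne_zero hi hj) hp
  have h1k : a1 k ≠ 0 := by
    rw [ha1, Function.update_of_ne hjk.symm, Function.update_of_ne hik.symm]
    exact hk
  obtain ⟨g2, hg2⟩ := bin_step h2 hjk a1 h1j h1k hrj
  set a2 := Function.update (Function.update a1 j (r j)) k (a1 j * a1 k * r j) with ha2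
  have e2i : a2 i = p i := by
    rw [ha2, Function.update_of_ne hik, Function.update_of_ne hij, ha1, Function.update_of_ne hij,
      Function.update_self]
  have e2j : a2 j = r j := by
    rw [ha2, Function.update_of_ne hjk, Function.update_self]
  let w : Fin n → F := (p i)⁻¹ • p - Pi.single i 1
  let w' : Fin n → F := (r j)⁻¹ • r - Pi.single j 1
  have hw : w i = 0 := by simp [w, hp]
  have hw'j : w' j = 0 := by simp [w', hrj]
  have hw'i : w' i = 0 := by simp [w', hr, hij]
  let P1 : GL (Fin n) F := rk (Pi.single i 1) w (by simp [hw])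
  let P2 : GL (Fin n) F := rk (Pi.single j 1) w' (by simp [hw'j])
  refine ⟨a2, (P2 * P1)⁻¹ * (g2 * g1), ?_⟩
  rw [actT_mul, actT_mul, hg1, hg2, actT, inv_inv, diag_conj,
    ← Finset.add_sum_erase _ _ (Finset.mem_univ i),
    ← Finset.add_sum_erase _ _ (Finset.mem_erase.mpr ⟨hij.symm, Finset.mem_univ j⟩), T3]
  have hrow : ∀ l, ((P2 * P1 : GL (Fin n) F) : Matrix (Fin n) (Fin n) F) l =
      (Pi.single l 1 : Fin n → F) + (Pi.single l 1 : Fin n → F) i • w +
        (Pi.single l 1 : Fin n → F) j • w' := by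
    intro l
    rw [← single_vecMul_row l ((P2 * P1 : GL (Fin n) F) : Matrix (Fin n) (Fin n) F), Units.val_mul, ← vecMul_vecMul, rk_coe, rk_coe, vecMul_add,
      vecMul_one, vecMul_vecMulVec, vecMul_add, vecMul_one, vecMul_vecMulVec]
    ext m
    simp [hw'i]
    ring
  have r1 : ((P2 * P1 : GL (Fin n) F) : Matrix (Fin n) (Fin n) F) i = (p i)⁻¹ • p := by
    rw [hrow]
    ext m
    simp [w, hij.symm]
  have r2 : ((P2 * P1 : GL (Fin n) F) : Matrix (Fin n) (Fin n) F) j = (r j)⁻¹ • r := by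
    rw [hrow]
    ext m
    simp [w', hij]
  have r3 : ∀ l, l ≠ i → l ≠ j →
      ((P2 * P1 : GL (Fin n) F) : Matrix (Fin n) (Fin n) F) l = Pi.single l 1 := by
    intro l h1 h2
    rw [hrow]
    ext m
    simp [Ne.symm h1, Ne.symm h2]
  rw [r1, r2, e2i, e2j, ← add_assoc]
  congr 1
  · congr 1
    · ext x y
      simp [vecMulVec_apply]
      field_simp
    · ext x y
      simp [vecMulVec_apply]
      field_simp
  · apply Finset.sum_congr rfl
    intro l hl
    rw [Finset.mem_erase, Finset.mem_erase] at hl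
    rw [r3 l hl.2.1 hl.1]

theorem arith_three {q n : ℕ} (hq : 3 ≤ q) (hn : 2 ≤ n) :
    (q ^ n - 1) * (q ^ n - q) ≤
      2 * (q + 1) * (((q - 1) * q ^ (n - 1)) * ((q - 1) * q ^ (n - 2))) := by
  obtain ⟨m, rfl⟩ : ∃ m, n = m + 2 := ⟨n - 2, by omega⟩
  obtain ⟨r, rfl⟩ : ∃ r, q = r + 3 := ⟨q - 3, by omega⟩
  have h1 : m + 2 - 1 = m + 1 := by omega
  have h2 : m + 2 - 2 = m := by omega
  have h3 : r + 3 - 1 = r + 2 := by omega
  rw [h1, h2, h3]
  calc ((r + 3) ^ (m + 2) - 1) * ((r + 3) ^ (m + 2) - (r + 3))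
      ≤ (r + 3) ^ (m + 2) * (r + 3) ^ (m + 2) := Nat.mul_le_mul (Nat.sub_le _ _) (Nat.sub_le _ _)
    _ = (r + 3) ^ (m + 1) * (r + 3) ^ m * (r + 3) ^ 3 := by ring
    _ ≤ (r + 3) ^ (m + 1) * (r + 3) ^ m * (2 * (r + 3 + 1) * (r + 2) ^ 2) := by
        apply Nat.mul_le_mul le_rfl
        nlinarith [Nat.zero_le r]
    _ = _ := by ring

open Classical in
theorem card_three (h2 : (2 : F) ≠ 0) (hq : 3 ≤ Fintype.card F) (hn : 2 ≤ n) {a : Fin n → F}
    {i j k : Fin n} (hij : i ≠ j)
    (hik : i ≠ k) (hjk : j ≠ k) (hi : a i ≠ 0) (hj : a j ≠ 0) (hk : a k ≠ 0) :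
    (Fintype.card F ^ n - 1) * (Fintype.card F ^ n - Fintype.card F) ≤
      2 * (Fintype.card F + 1) * Nat.card (Ob (diagonal a)) := by
  refine (arith_three hq hn).trans (Nat.mul_le_mul le_rfl ?_)
  rw [← card_ne i, ← card_ne_two hij, ← Finset.card_product, Nat.card_eq_fintype_card,
    ← Finset.card_univ]
  have hex : ∀ pr : (Fin n → F) × (Fin n → F), pr.1 i ≠ 0 → pr.2 i = 0 → pr.2 j ≠ 0 →
      ∃ S : Ob (diagonal a), ∃ a', S.1.1 = T3 a' i j pr.1 pr.2 := by
    intro pr hp hr hrj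
    obtain ⟨a', h, hh⟩ := T3_mem h2 hij hik hjk hi hj hk hp hr hrj
    refine ⟨⟨⟨T3 a' i j pr.1 pr.2, ?_⟩, ⟨h, hh⟩⟩, a', rfl⟩
    rw [mem_Sym, T3, transpose_add, transpose_add, transpose_smul, transpose_smul,
      transpose_vecMulVec, transpose_vecMulVec, transpose_sum]
    congr 1
    apply Finset.sum_congr rfl
    intro l _
    rw [transpose_smul, transpose_vecMulVec]
  have hne : Nonempty (Ob (diagonal a)) :=
    ⟨⟨⟨diagonal a, by rw [mem_Sym, diagonal_transpose]⟩, 1, (actT_one _).symm⟩⟩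
  let f : (Fin n → F) × (Fin n → F) → Ob (diagonal a) := fun pr =>
    if h : pr.1 i ≠ 0 ∧ pr.2 i = 0 ∧ pr.2 j ≠ 0 then (hex pr h.1 h.2.1 h.2.2).choose
    else hne.some
  refine Finset.card_le_card_of_injOn f (fun _ _ => Finset.mem_univ _) ?_
  have hf : ∀ pr : (Fin n → F) × (Fin n → F), (pr.1 i ≠ 0 ∧ pr.2 i = 0 ∧ pr.2 j ≠ 0) →
      ∃ a', (f pr).1.1 = T3 a' i j pr.1 pr.2 := by
    intro pr h
    have h3 : f pr = (hex pr h.1 h.2.1 h.2.2).choose := dif_pos h
    rw [h3]
    exact (hex pr h.1 h.2.1 h.2.2).choose_spec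
  rintro ⟨p, r⟩ h ⟨p', r'⟩ h' hff
  rw [Finset.mem_coe, Finset.mem_product, Finset.mem_filter, Finset.mem_filter] at h h'
  obtain ⟨⟨-, h1⟩, -, h3, h4⟩ := h
  obtain ⟨⟨-, h1'⟩, -, h3', h4'⟩ := h'
  obtain ⟨b, hb⟩ := hf (p, r) ⟨h1, h3, h4⟩
  obtain ⟨b', hb'⟩ := hf (p', r') ⟨h1', h3', h4'⟩
  rw [hff, hb'] at hb
  obtain ⟨e1, e2⟩ := T3_inj h1' h3' h4' h1 h3 h4 hb
  exact Prod.ext e1.symm e2.symm

/-- **The orbit bound.** -/
theorem card_Ob (h2 : (2 : F) ≠ 0) (hq : 3 ≤ Fintype.card F) (hn : 2 ≤ n)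
    {T : Matrix (Fin n) (Fin n) F} (hT : T ∈ Sym n F) {x y z w : Fin n}
    (hm : T x y * T z w ≠ T x w * T z y) :
    (Fintype.card F ^ n - 1) * (Fintype.card F ^ n - Fintype.card F) ≤
      2 * (Fintype.card F + 1) * Nat.card (Ob T) := by
  obtain ⟨h, a, ha⟩ := exists_diag h2 T hT
  rw [← Ob_congr h T, ha]
  have hTa : T = actT h⁻¹ (diagonal a) := by rw [← ha, ← actT_mul, inv_mul_cancel, actT_one]
  by_cases h0 : ∃ i, a i ≠ 0
  · obtain ⟨i, hi⟩ := h0
    by_cases h1 : ∃ j, j ≠ i ∧ a j ≠ 0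
    · obtain ⟨j, hji, hj⟩ := h1
      by_cases h3 : ∃ k, k ≠ i ∧ k ≠ j ∧ a k ≠ 0
      · obtain ⟨k, hki, hkj, hk⟩ := h3
        exact card_three h2 hq hn hji.symm hki.symm hkj.symm hi hj hk
      · push Not at h3
        exact card_two h2 hn hji.symm hi hj h3
    · push Not at h1
      exfalso
      apply hm
      rw [hTa, actT, inv_inv, diag_conj, ← Finset.add_sum_erase _ _ (Finset.mem_univ i),
        Finset.sum_eq_zero, add_zero]
      · simp only [Matrix.smul_apply, vecMulVec_apply, smul_eq_mul]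
        ring
      · intro k hk
        rw [h1 k (Finset.ne_of_mem_erase hk), zero_smul]
  · push Not at h0
    exfalso
    apply hm
    have : a = 0 := funext h0
    rw [hTa, this]
    simp [actT]

end Cfsg.Agent.H162.Weil
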