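import Cfsg.Agent.H162.WeilStab

/-!
# The family of weight vectors (helper162)
-/

set_option autoImplicit false
open Matrix

namespace Cfsg.Agent.H162.Weil

variable {F : Type*} [Field F] {n : ℕ} [Fintype F] 

open scoped ComplexConjugate in
theorem gs_mul_gs_neg {ψ : AddChar F ℂ} (hψ : ψ.IsPrimitive) (h2 : (2 : F) ≠ 0) {a : F}
    (ha : a ≠ 0) : gs ψ a * gs ψ (-a) = Fintype.card F := by
  classical
  rw [gs, gs, Finset.sum_mul_sum]
  have h1 : ∀ x : F, ∑ y : F, ψ (a * x ^ 2) * ψ (-a * y ^ 2) =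
      ∑ d : F, ψ (-a * d ^ 2) * ψ (x * (-2 * a * d)) := by
    intro x
    refine Fintype.sum_equiv (Equiv.subRight x) _ _ fun y => ?_
    rw [← AddChar.map_add_eq_mul, ← AddChar.map_add_eq_mul, Equiv.subRight_apply]
    congr 1
    ring
  rw [Finset.sum_congr rfl fun x _ => h1 x, Finset.sum_comm]
  have h3 : ∀ d : F, ∑ x : F, ψ (-a * d ^ 2) * ψ (x * (-2 * a * d)) =
      if d = 0 then (Fintype.card F : ℂ) else 0 := by
    intro d
    rw [← Finset.mul_sum, AddChar.sum_mulShift _ hψ]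
    by_cases hd : d = 0
    · subst hd
      simp [AddChar.map_zero_eq_one]
    · rw [if_neg, if_neg hd, Nat.cast_zero, mul_zero]
      exact mul_ne_zero (mul_ne_zero (neg_ne_zero.mpr h2) ha) hd
  rw [Finset.sum_congr rfl fun d _ => h3 d]
  simp

open scoped ComplexConjugate in
theorem gs_neg_eq_conj {ψ : AddChar F ℂ} (a : F) : gs ψ (-a) = conj (gs ψ a) := by
  rw [gs, gs, map_sum]
  refine Finset.sum_congr rfl fun y _ => ?_
  rw [← AddChar.map_neg_eq_conj, neg_mul]

theorem norm_gs_sq {ψ : AddChar F ℂ} (hψ : ψ.IsPrimitive) (h2 : (2 : F) ≠ 0) {a : F}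
    (ha : a ≠ 0) : ‖gs ψ a‖ ^ 2 = Fintype.card F := by
  have h := gs_mul_gs_neg hψ h2 ha
  rw [gs_neg_eq_conj, Complex.mul_conj, Complex.normSq_eq_norm_sq] at h
  exact_mod_cast h

theorem gs_ne_zero {ψ : AddChar F ℂ} (hψ : ψ.IsPrimitive) (h2 : (2 : F) ≠ 0) {a : F}
    (ha : a ≠ 0) : gs ψ a ≠ 0 := by
  intro h
  have := norm_gs_sq hψ h2 ha
  rw [h, norm_zero] at this
  have h3 : (Fintype.card F : ℝ) ≠ 0 := by
    exact_mod_cast Fintype.card_ne_zero
  apply h3
  rw [← this]; norm_num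

theorem gs_pow_ne {ψ : AddChar F ℂ} (hψ : ψ.IsPrimitive) (h2 : (2 : F) ≠ 0) {a : F}
    (ha : a ≠ 0) : gs ψ a ^ 4 ≠ 1 := by
  intro h
  have h1 := norm_gs_sq hψ h2 ha
  have h3 : ‖gs ψ a‖ ^ 4 = 1 := by rw [← norm_pow, h, norm_one]
  have h4 : (1 : ℝ) < Fintype.card F := by exact_mod_cast Fintype.one_lt_card
  nlinarith [h1, h3, h4, sq_nonneg (‖gs ψ a‖)]

theorem ww_comm_ww (i j : Fin n) (hij : i ≠ j) :
    (ww i * ww j : Sp n F) = ww j * ww i := by
  apply Subtype.ext
  rw [Submonoid.coe_mul, Submonoid.coe_mul, ww_coe, ww_coe, fromBlocks_multiply,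
    fromBlocks_multiply]
  congr 1 <;>
  simp [Matrix.mul_sub, Matrix.sub_mul, hij, hij.symm] <;> abel

variable {V : Type*} [AddCommGroup V] [Module ℂ V]
  {ρ : Representation ℂ (Sp n F) V} {ψ : AddChar F ℂ}

/-- The family of weight vectors attached to a seed. -/
structure Fam (ρ : Representation ℂ (Sp n F) V) (ψ : AddChar F ℂ) (lam : F)
    (f : (Fin n → F) → V) : Prop where
  r1 : ∀ x, f x ∈ Wt ρ ψ (TT lam x)
  r2 : ∀ (h : GL (Fin n) F) (x : Fin n → F), ρ (mm h) (f x) =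
    chi ψ lam (GeneralLinearGroup.det h) • f (x ᵥ* ((h⁻¹ : GL (Fin n) F) : Matrix (Fin n) (Fin n) F))
  r3 : ∀ (j : Fin n) (x : Fin n → F), gs ψ (-lam) • ρ (ww j) (f x) =
    ∑ z : F, ψ (2 * lam * x j * z) • f (Function.update x j z)

namespace Seed

variable {lam : F} {i : Fin n} {v : V} (hs : Seed ρ ψ lam i v)

open Classical in
/-- the family -/
noncomputable def _root_.Cfsg.Agent.H162.Weil.famF (ρ : Representation ℂ (Sp n F) V)
    (ψ : AddChar F ℂ) (lam : F) (i : Fin n) (v v0 : V) (x : Fin n → F) : V :=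
  if hx : x = 0 then v0 else
    (chi ψ lam (GeneralLinearGroup.det (exists_vecMul_eq_single x hx i).choose))⁻¹ •
      ρ (mm (exists_vecMul_eq_single x hx i).choose) v

include hs

theorem chi_ne_zero {j : Fin n} (hij : i ≠ j) (t : Fˣ) : chi ψ lam t ≠ 0 := by
  intro h
  have := hs.chi_mul hij t t⁻¹
  rw [h, zero_mul, mul_inv_cancel, chi_one (hs.gs_ne j hij)] at this
  exact one_ne_zero this

theorem fam_eq {j : Fin n} (hij : i ≠ j) (v0 : V) {x : Fin n → F} (hx : x ≠ 0) (h : GL (Fin n) F)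
    (hh : x ᵥ* (h : Matrix (Fin n) (Fin n) F) = Pi.single i 1) :
    ρ (mm h) v = chi ψ lam (GeneralLinearGroup.det h) • famF ρ ψ lam i v v0 x := by
  rw [famF, dif_neg hx]
  set k := (exists_vecMul_eq_single x hx i).choose with hk
  have hk' : x ᵥ* (k : Matrix (Fin n) (Fin n) F) = Pi.single i 1 :=
    (exists_vecMul_eq_single x hx i).choose_spec
  have h1 : h = k * (k⁻¹ * h) := by rw [mul_inv_cancel_left]
  have h3 := hs.stab_apply hij (k⁻¹ * h) (by
    rw [Units.val_mul, ← vecMul_vecMul, vecMul_inv hk', hh])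
  conv_lhs => rw [h1]
  rw [map_mul, rho_mul, h3, map_smul, smul_smul]
  congr 1
  rw [eq_mul_inv_iff_mul_eq₀ (hs.chi_ne_zero hij _), ← hs.chi_mul hij, map_mul, map_inv]
  congr 1
  rw [mul_comm, mul_inv_cancel_left]

theorem fam_mem {j : Fin n} (hij : i ≠ j) (v0 : V) {x : Fin n → F} (hx : x ≠ 0) :
    famF ρ ψ lam i v v0 x ∈ Wt ρ ψ (TT lam x) := by
  obtain ⟨h, hh⟩ := exists_vecMul_eq_single x hx i
  have h1 := hs.fam_eq hij v0 hx h hh
  have h3 := mm_mem_TT h hs.mem
  rw [vecMul_inv hh, h1] at h3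
  exact (Submodule.smul_mem_iff _ (hs.chi_ne_zero hij _)).mp h3

theorem fam_r2 {j : Fin n} (hij : i ≠ j) (v0 : V) {x : Fin n → F} (hx : x ≠ 0)
    (g : GL (Fin n) F) : ρ (mm g) (famF ρ ψ lam i v v0 x) =
    chi ψ lam (GeneralLinearGroup.det g) •
      famF ρ ψ lam i v v0 (x ᵥ* ((g⁻¹ : GL (Fin n) F) : Matrix (Fin n) (Fin n) F)) := by
  obtain ⟨h, hh⟩ := exists_vecMul_eq_single x hx i
  have h1 := hs.fam_eq hij v0 hx h hh
  have hx' : x ᵥ* ((g⁻¹ : GL (Fin n) F) : Matrix (Fin n) (Fin n) F) ≠ 0 := by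
    intro h0
    apply hx
    have := congrArg (fun y => y ᵥ* (g : Matrix (Fin n) (Fin n) F)) h0
    simp only [vecMul_vecMul, zero_vecMul] at this
    rwa [← Units.val_mul, inv_mul_cancel, Units.val_one, vecMul_one] at this
  have h3 := hs.fam_eq hij v0 hx' (g * h) (by
    rw [vecMul_vecMul, ← Units.val_mul, inv_mul_cancel_left, hh])
  rw [map_mul, rho_mul, h1, map_smul, map_mul, hs.chi_mul hij, mul_comm, mul_smul] at h3
  exact smul_right_injective V (hs.chi_ne_zero hij _) h3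

theorem fam_single {j : Fin n} (hij : i ≠ j) (v0 : V) : famF ρ ψ lam i v v0 (Pi.single i 1) = v := by
  have h := hs.fam_eq hij v0 (x := Pi.single i 1) (by
    intro h
    have := congrFun h i
    simp at this) 1 (by simp)
  rw [map_one, map_one, map_one, chi_one (hs.gs_ne j hij), one_smul] at h
  exact h.symm

theorem det_tv (a b : Fin n) (hab : a ≠ b) (s : F) : GeneralLinearGroup.det (tv a b hab s) = 1 := by
  apply Units.ext
  rw [GeneralLinearGroup.val_det_apply, tv_coe]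
  exact det_transvection_of_ne _ _ hab _

omit hs in
theorem single_ne (a : Fin n) (c : F) (hc : c ≠ 0) : (Pi.single a c : Fin n → F) ≠ 0 := by
  intro h
  have := congrFun h a
  simp at this
  exact hc this

/-- `R3` away from the axis. -/
theorem fam_r3 {j : Fin n} (hij : i ≠ j) (v0 : V) {a b : Fin n} (hab : a ≠ b) {x : Fin n → F}
    (hx : x a ≠ 0) : gs ψ (-lam) • ρ (ww b) (famF ρ ψ lam i v v0 x) =
      ∑ z : F, ψ (2 * lam * x b * z) • famF ρ ψ lam i v v0 (Function.update x b z) := by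
  set f := famF ρ ψ lam i v v0 with hf
  -- f (e_a + z e_b)
  have hev0 : ∀ z : F, ev a b z ≠ 0 := by
    intro z h
    have := congrFun h a
    simp [ev, Pi.single_eq_of_ne hab] at this
  have hs0 : (Pi.single a 1 : Fin n → F) ≠ 0 := single_ne a 1 one_ne_zero
  have hN : ∀ z : F, Ny ρ a b hab z (f (Pi.single a 1)) = f (ev a b z) := by
    intro z
    rw [Ny, hf, hs.fam_r2 hij v0 hs0, hs.det_tv, chi_one (hs.gs_ne j hij), one_smul]
    congr 1
    have := ev_vecMul hab z 0
    rw [ev_zero, add_zero] at this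
    exact this
  have hfa : f (Pi.single a 1) ∈ Wt ρ ψ (TT lam (Pi.single a 1)) := hs.fam_mem hij v0 hs0
  have h1 := gs_ww hs.prim hs.two hs.rk hab hs.lam0 hfa (x b)
  simp only [hN] at h1
  -- the group element
  let x' : Fin n → F := Function.update x b 0
  have hx'a : x' a = x a := by simp [x', hab]
  let g : GL (Fin n) F := Weil.rk (Pi.single a 1) (x' - Pi.single a 1) (by
    rw [dotProduct_single_one, Pi.sub_apply, hx'a]; simpa using hx)
  have hg : ∀ z : F, ev a b z ᵥ* (g : Matrix (Fin n) (Fin n) F) = Function.update x b z := by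
    intro z
    rw [rk_coe, vecMul_add, vecMul_one, vecMul_vecMulVec]
    have h3 : ev a b z ⬝ᵥ Pi.single a 1 = 1 := by
      rw [dotProduct_single_one, ev, Pi.add_apply, Pi.single_eq_same, Pi.single_eq_of_ne hab,
        add_zero]
    rw [h3, one_smul, ev]
    ext k
    by_cases hk : k = b
    · subst hk
      simp [x', hab.symm]
    · simp [x', hk]
  have hgw : mm g⁻¹ * ww b = ww b * mm g⁻¹ := by
    have h4 : mm g * ww b = ww b * mm g := by
      apply mm_comm_ww
      · rw [rk_coe, Matrix.add_mul, Matrix.one_mul, vecMulVec_mul]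
        have : (x' - Pi.single a 1) ᵥ* single b b (1 : F) = 0 := by
          rw [vecMul_sgl, Pi.sub_apply, Pi.single_eq_of_ne hab.symm]
          simp [x']
        rw [this, vecMulVec_zero, add_zero]
      · rw [rk_coe, Matrix.mul_add, Matrix.mul_one, mul_vecMulVec, sgl_mulVec,
          Pi.single_eq_of_ne hab.symm, mul_zero, Pi.single_zero, zero_vecMulVec, add_zero]
    rw [map_inv, inv_mul_eq_iff_eq_mul, ← mul_assoc, h4, mul_assoc, mul_inv_cancel, mul_one]
  have hR : ∀ z : F, ρ (mm g⁻¹) (f (ev a b z)) =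
      chi ψ lam (GeneralLinearGroup.det g⁻¹) • f (Function.update x b z) := by
    intro z
    rw [hf, hs.fam_r2 hij v0 (hev0 z), inv_inv, hg]
  have h5 := congrArg (ρ (mm g⁻¹)) h1
  rw [map_smul, ← rho_mul, hgw, rho_mul, hR, map_smul, map_sum] at h5
  have h6 : ∀ z : F, ρ (mm g⁻¹) (ψ (2 * lam * x b * z) • f (ev a b z)) =
      chi ψ lam (GeneralLinearGroup.det g⁻¹) • (ψ (2 * lam * x b * z) •
        f (Function.update x b z)) := by
    intro z
    rw [map_smul, hR, smul_comm]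
  rw [Finset.sum_congr rfl fun z _ => h6 z, ← Finset.smul_sum, smul_comm,
    Function.update_eq_self] at h5
  exact smul_right_injective V (hs.chi_ne_zero hij _) h5

end Seed

end Cfsg.Agent.H162.Weil
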