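import Cfsg.Agent.H162.WeilFam

/-!
# Existence of the family of weight vectors (helper162)
-/

set_option autoImplicit false
open Matrix

namespace Cfsg.Agent.H162.Weil

variable {F : Type*} [Field F] {n : ℕ} [Fintype F] {V : Type*} [AddCommGroup V] [Module ℂ V]
  {ρ : Representation ℂ (Sp n F) V} {ψ : AddChar F ℂ}

theorem fix_all (hψ : ψ.IsPrimitive) (h2 : (2 : F) ≠ 0) (hR : RkOne ρ ψ) {v : V}
    (hv : ∀ i s, ρ (uu (sD i s)) v = v) (S : Sym n F) : ρ (uu S) v = v := by
  have key : ∀ T : Sym n F, ρ (uu S) (Pj ρ ψ T.1 v) = Pj ρ ψ T.1 v := by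
    intro T
    by_cases h0 : Pj ρ ψ T.1 v = 0
    · rw [h0, map_zero]
    have hT := Pj_mem (ρ := ρ) (ψ := ψ) T.1 v
    have h1 : ∀ i, T.1 i i = 0 := by
      intro i
      by_contra hne
      obtain ⟨s, hs⟩ := exists_ne_one hψ hne
      apply hs
      have h3 := hT (sD i s)
      rw [rho_uu_Pj, hv, pr_sD] at h3
      have h4 : (ψ (s * T.1 i i) - 1) • Pj ρ ψ T.1 v = 0 := by
        rw [sub_smul, one_smul, ← h3, sub_self]
      rcases smul_eq_zero.mp h4 with h5 | h5
      · exact sub_eq_zero.mp h5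
      · exact absurd h5 h0
    have h6 : T.1 = 0 := by
      ext i k
      have := hR T.1 T.2 _ hT h0 i i k k
      rw [h1, zero_mul, Sym.apply T k i] at this
      exact mul_self_eq_zero.mp this.symm
    rw [hT S, h6, pr_zero_left, AddChar.map_zero_eq_one, one_smul]
  conv_lhs => rw [← sum_Pj (ρ := ρ) hψ h2 v, map_sum]
  conv_rhs => rw [← sum_Pj (ρ := ρ) hψ h2 v]
  exact Finset.sum_congr rfl fun T _ => key T

/-- The operator `g₀ ρ(w_b) - 1`. -/
noncomputable def Dop (ρ : Representation ℂ (Sp n F) V) (ψ : AddChar F ℂ) (lam : F) (b : Fin n) :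
    V →ₗ[ℂ] V := gs ψ (-lam) • ρ (ww b) - LinearMap.id

theorem Dop_apply (lam : F) (b : Fin n) (v : V) :
    Dop ρ ψ lam b v = gs ψ (-lam) • ρ (ww b) v - v := rfl

theorem Dop_inj (hψ : ψ.IsPrimitive) (h2 : (2 : F) ≠ 0) {lam : F} (hlam : lam ≠ 0) (b : Fin n) :
    Function.Injective (Dop ρ ψ lam b) := by
  rw [← LinearMap.ker_eq_bot, LinearMap.ker_eq_bot']
  intro v hv
  rw [Dop_apply, sub_eq_zero] at hv
  by_contra hne
  have h1 : gs ψ (-lam) ^ 4 • ρ ((ww b) ^ 4) v = v := by
    have h3 : ((ww b) ^ 4 : Sp n F) = ww b * (ww b * (ww b * ww b)) := by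
      simp only [pow_succ, pow_zero, one_mul, mul_assoc]
    have h4 : gs ψ (-lam) ^ 4 = gs ψ (-lam) * (gs ψ (-lam) * (gs ψ (-lam) * gs ψ (-lam))) := by ring
    have hg0 : gs ψ (-lam) ≠ 0 := gs_ne_zero hψ h2 (neg_ne_zero.mpr hlam)
    have hv' : ρ (ww b) v = (gs ψ (-lam))⁻¹ • v := by
      rw [eq_inv_smul_iff₀ hg0]; exact hv
    rw [h3, rho_mul, rho_mul, rho_mul]
    simp only [hv', map_smul, smul_smul]
    have h5 : gs ψ (-lam) ^ 4 * ((gs ψ (-lam))⁻¹ * (gs ψ (-lam))⁻¹ * (gs ψ (-lam))⁻¹ *
        (gs ψ (-lam))⁻¹) = 1 := by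
      field_simp
    have h6 : ∀ c : ℂ, c = 1 → c • v = v := by rintro c rfl; exact one_smul _ _
    apply h6
    rw [← h5]
  rw [ww_pow_four, map_one, Module.End.one_apply] at h1
  have h5 : (gs ψ (-lam) ^ 4 - 1) • v = 0 := by rw [sub_smul, one_smul, h1, sub_self]
  rcases smul_eq_zero.mp h5 with h6 | h6
  · exact gs_pow_ne hψ h2 (neg_ne_zero.mpr hlam) (sub_eq_zero.mp h6)
  · exact hne h6

theorem Dop_comm {lam : F} {b : Fin n} {g : Sp n F} (hg : g * ww b = ww b * g) (v : V) :
    Dop ρ ψ lam b (ρ g v) = ρ g (Dop ρ ψ lam b v) := by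
  rw [Dop_apply, Dop_apply, map_sub, map_smul, ← rho_mul, ← rho_mul, hg]

section

variable {lam : F} (f : (Fin n → F) → V)

/-- relation `R3` at `b`, `x`. -/
def R3at (ρ : Representation ℂ (Sp n F) V) (ψ : AddChar F ℂ) (lam : F) (f : (Fin n → F) → V)
    (b : Fin n) (x : Fin n → F) : Prop :=
  gs ψ (-lam) • ρ (ww b) (f x) = ∑ z : F, ψ (2 * lam * x b * z) • f (Function.update x b z)

theorem upd_single (a b : Fin n) (hab : a ≠ b) (c : F) :
    Function.update (Pi.single a c : Fin n → F) b 0 = Pi.single a c := by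
  have : (Pi.single a c : Fin n → F) b = 0 := by simp [hab.symm]
  conv_lhs => rw [← this]
  exact Function.update_eq_self _ _

theorem upd_single2 (a b : Fin n) (hab : a ≠ b) (c y z : F) :
    Function.update (Function.update (Pi.single a c : Fin n → F) b z) a y =
      Function.update (Pi.single a y) b z := by
  ext k
  by_cases hka : k = a
  · subst hka; simp [hab]
  · by_cases hkb : k = b
    · subst hkb; simp [hka]
    · simp [hka, hkb]

open Classical in
theorem Dop_single {a b : Fin n} (hab : a ≠ b) (c : F)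
    (h : R3at ρ ψ lam f b (Pi.single a c)) :
    Dop ρ ψ lam b (f (Pi.single a c)) =
      ∑ z ∈ Finset.univ.erase (0 : F), f (Function.update (Pi.single a c) b z) := by
  rw [Dop_apply, h]
  have h0 : ∀ z : F, ψ (2 * lam * (Pi.single a c : Fin n → F) b * z) •
      f (Function.update (Pi.single a c) b z) = f (Function.update (Pi.single a c) b z) := by
    intro z
    rw [Pi.single_eq_of_ne hab.symm, mul_zero, zero_mul, AddChar.map_zero_eq_one, one_smul]
  rw [Finset.sum_congr rfl fun z _ => h0 z, ← Finset.add_sum_erase _ _ (Finset.mem_univ (0 : F)),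
    upd_single a b hab, add_sub_cancel_left]

theorem R3_step (hψ : ψ.IsPrimitive) (h2 : (2 : F) ≠ 0) (hlam : lam ≠ 0)
    (hA : ∀ (a b : Fin n) (x : Fin n → F), a ≠ b → x a ≠ 0 → R3at ρ ψ lam f b x)
    {a b : Fin n} (hab : a ≠ b) (h0 : R3at ρ ψ lam f b 0) (c : F) :
    R3at ρ ψ lam f a (Pi.single a c) := by
  classical
  have hb : ∀ y : F, R3at ρ ψ lam f b (Pi.single a y) := by
    intro y
    by_cases hy : y = 0
    · subst hy; rwa [Pi.single_zero]
    · exact hA a b _ hab (by simpa using hy)
  apply Dop_inj (ρ := ρ) hψ h2 hlam b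
  rw [map_smul, Dop_comm (ww_comm_ww a b hab), Dop_single f hab c (hb c), map_sum,
    Finset.smul_sum, map_sum]
  have h1 : ∀ z ∈ Finset.univ.erase (0 : F),
      gs ψ (-lam) • ρ (ww a) (f (Function.update (Pi.single a c) b z)) =
      ∑ y : F, ψ (2 * lam * c * y) • f (Function.update (Pi.single a y) b z) := by
    intro z hz
    have hz0 : z ≠ 0 := (Finset.mem_erase.mp hz).1
    have h3 := hA b a (Function.update (Pi.single a c) b z) hab.symm (by simpa using hz0)
    rw [R3at] at h3
    rw [h3]
    refine Finset.sum_congr rfl fun y _ => ?_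
    rw [upd_single2 a b hab, Function.update_of_ne hab, Pi.single_eq_same]
  rw [Finset.sum_congr rfl h1, Finset.sum_comm]
  refine Finset.sum_congr rfl fun y _ => ?_
  rw [map_smul, Pi.single_eq_same]
  have h4 : Function.update (Pi.single a c : Fin n → F) a y = Pi.single a y := by
    ext k
    by_cases hk : k = a
    · subst hk; simp
    · simp [hk]
  rw [h4, Dop_single f hab y (hb y), Finset.smul_sum]

end

theorem upd_zero (b : Fin n) (z : F) : Function.update (0 : Fin n → F) b z = Pi.single b z := by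
  rfl

namespace Seed

variable {lam : F} {i : Fin n} {v : V} (hs : Seed ρ ψ lam i v)

include hs

theorem exists_fam [FiniteDimensional ℂ V] {j : Fin n} (hij : i ≠ j) :
    ∃ f : (Fin n → F) → V, Fam ρ ψ lam f ∧ f (Pi.single i 1) = v := by
  classical
  -- definition of `v0`
  have hsurj : Function.Surjective (Dop ρ ψ lam j) :=
    LinearMap.injective_iff_surjective.mp (Dop_inj hs.prim hs.two hs.lam0 j)
  obtain ⟨v0, hv0⟩ := hsurj (∑ z ∈ Finset.univ.erase (0 : F), famF ρ ψ lam i v 0 (Pi.single j z))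
  set f := famF ρ ψ lam i v v0 with hf
  have hf0 : f 0 = v0 := by rw [hf, famF, dif_pos rfl]
  have hff : ∀ x : Fin n → F, x ≠ 0 → famF ρ ψ lam i v 0 x = f x := by
    intro x hx
    rw [hf, famF, famF, dif_neg hx, dif_neg hx]
  have hv0' : Dop ρ ψ lam j (f 0) = ∑ z ∈ Finset.univ.erase (0 : F), f (Pi.single j z) := by
    rw [hf0, hv0]
    refine Finset.sum_congr rfl fun z hz => ?_
    exact hff _ (single_ne j z (Finset.mem_erase.mp hz).1)
  have hA : ∀ (a b : Fin n) (x : Fin n → F), a ≠ b → x a ≠ 0 → R3at ρ ψ lam f b x := by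
    intro a b x hab hx
    exact hs.fam_r3 hij v0 hab hx
  have hj0 : R3at ρ ψ lam f j 0 := by
    rw [R3at]
    rw [Dop_apply, sub_eq_iff_eq_add] at hv0'
    rw [hv0']
    simp only [Pi.zero_apply, mul_zero, zero_mul, AddChar.map_zero_eq_one, one_smul]
    rw [← Finset.add_sum_erase _ _ (Finset.mem_univ (0 : F)), Function.update_zero, add_comm]
    rfl
  have hi1 := R3_step f hs.prim hs.two hs.lam0 hA hij hj0
  have hi0 : R3at ρ ψ lam f i 0 := by
    have := hi1 0
    rwa [Pi.single_zero] at this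
  have hj1 := R3_step f hs.prim hs.two hs.lam0 hA hij.symm hi0
  -- all axis relations
  have hall0 : ∀ b, R3at ρ ψ lam f b 0 := by
    intro b
    by_cases hbj : b = j
    · subst hbj; exact hj0
    · have := R3_step f hs.prim hs.two hs.lam0 hA hbj hj0 0
      rwa [Pi.single_zero] at this
  have hax : ∀ b c, R3at ρ ψ lam f b (Pi.single b c) := by
    intro b c
    by_cases hbj : b = j
    · subst hbj; exact hj1 c
    · exact R3_step f hs.prim hs.two hs.lam0 hA hbj hj0 c
  have hD0 : ∀ b, Dop ρ ψ lam b v0 = ∑ z ∈ Finset.univ.erase (0 : F), f (Pi.single b z) := by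
    intro b
    have h1 := hall0 b
    rw [R3at] at h1
    rw [Dop_apply, ← hf0, h1]
    simp only [Pi.zero_apply, mul_zero, zero_mul, AddChar.map_zero_eq_one, one_smul]
    rw [← Finset.add_sum_erase _ _ (Finset.mem_univ (0 : F)), Function.update_zero,
      add_sub_cancel_left]
    rfl
  have hinj : ∀ b, Function.Injective (Dop ρ ψ lam b) := fun b =>
    Dop_inj hs.prim hs.two hs.lam0 b
  have hother : ∀ k : Fin n, ∃ b, k ≠ b := by
    intro k
    by_cases hk : k = i
    · exact ⟨j, hk ▸ hij⟩
    · exact ⟨i, hk⟩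
  have hfm : ∀ x : Fin n → F, x ≠ 0 → f x ∈ Wt ρ ψ (TT lam x) := fun x hx => hs.fam_mem hij v0 hx
  -- the one-parameter groups fix `v0`
  have hZ : ∀ k s, ρ (uu (sD k s)) v0 = v0 := by
    intro k s
    obtain ⟨b, hkb⟩ := hother k
    apply hinj b
    rw [Dop_comm (ww_comm_sD k b hkb s).symm, hD0, map_sum]
    refine Finset.sum_congr rfl fun z hz => ?_
    rw [hfm _ (single_ne b z (Finset.mem_erase.mp hz).1) (sD k s), pr_sD, TT_apply,
      Pi.single_eq_of_ne hkb, mul_zero, mul_zero, mul_zero, AddChar.map_zero_eq_one, one_smul]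
  have hA0 : ∀ S, ρ (uu S) v0 = v0 := fix_all hs.prim hs.two hs.rk hZ
  have hTV : ∀ (a b : Fin n) (hab : a ≠ b) (s : F), ρ (mm (tv a b hab s)) v0 = v0 :=
    fun a b hab s => fix_tv hs.prim hs.two hs.rk a b hab (hZ a) s
  have hHT : ∀ (k : Fin n) (t : Fˣ), ρ (mm (ht k t)) v0 = chi ψ lam t • v0 := by
    intro k t
    obtain ⟨b, hkb⟩ := hother k
    apply hinj b
    have hc : mm (ht k t) * ww b = ww b * mm (ht k t) := by
      apply mm_comm_ww
      · rw [ht_coe, Matrix.add_mul, Matrix.one_mul, single_mul_single_of_ne _ _ _ _ hkb, add_zero]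
      · rw [ht_coe, Matrix.mul_add, Matrix.mul_one, single_mul_single_of_ne _ _ _ _ hkb.symm,
          add_zero]
    rw [Dop_comm hc, map_smul, hD0, map_sum, Finset.smul_sum]
    refine Finset.sum_congr rfl fun z hz => ?_
    rw [hf, hs.fam_r2 hij v0 (single_ne b z (Finset.mem_erase.mp hz).1)]
    have hdet : GeneralLinearGroup.det (ht k t) = t := by
      apply Units.ext
      rw [GeneralLinearGroup.val_det_apply, ht, dg_coe, det_diagonal,
        Finset.prod_eq_single k]
      · simp
      · intro l _ hl; simp [hl]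
      · simp
    rw [hdet]
    congr 2
    rw [ht_inv, ht_coe, vecMul_add, vecMul_one, vecMul_sgl, Pi.single_eq_of_ne hkb, zero_mul,
      Pi.single_zero, add_zero]
  have hDG : ∀ d : Fin n → Fˣ, ρ (mm (dg d)) v0 = chi ψ lam (∏ k, d k) • v0 := by
    let M : Submonoid (Fin n → Fˣ) :=
      { carrier := {d | ρ (mm (dg d)) v0 = chi ψ lam (∏ k, d k) • v0}
        one_mem' := by
          have : (dg (1 : Fin n → Fˣ) : GL (Fin n) F) = 1 := by
            apply Units.ext
            rw [dg_coe]
            simp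
          show ρ (mm (dg 1)) v0 = _
          rw [this, map_one, map_one]
          simp [chi_one (hs.gs_ne j hij)]
        mul_mem' := by
          intro a b ha hb
          simp only [Set.mem_ofPred_eq] at ha hb ⊢
          rw [dg_mul, map_mul, rho_mul, hb, map_smul, ha, smul_smul]
          simp only [Pi.mul_apply, Finset.prod_mul_distrib]
          rw [hs.chi_mul hij, mul_comm] }
    intro d
    have hmem : ∀ k, Pi.mulSingle k (d k) ∈ M := by
      intro k
      show ρ (mm (dg (Pi.mulSingle k (d k)))) v0 = _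
      have := hHT k (d k)
      rw [ht] at this
      rw [this]
      congr 2
      rw [Finset.prod_eq_single k]
      · simp
      · intro l _ hl
        simp [hl]
      · simp
    have := Submonoid.prod_mem M (t := Finset.univ) (f := fun k => Pi.mulSingle k (d k))
      (fun k _ => hmem k)
    rw [Finset.univ_prod_mulSingle] at this
    exact this
  have hGL : ∀ h : GL (Fin n) F, ρ (mm h) v0 = chi ψ lam (GeneralLinearGroup.det h) • v0 := by
    suffices h : ∀ M : Matrix (Fin n) (Fin n) F, det M ≠ 0 →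
        ∀ A : GL (Fin n) F, A.1 = M →
        ρ (mm A) v0 = chi ψ lam (GeneralLinearGroup.det A) • v0 by
      intro A
      refine h A.1 ?_ A rfl
      have := (GeneralLinearGroup.det A).ne_zero
      rwa [GeneralLinearGroup.val_det_apply] at this
    intro M hM
    refine diagonal_transvection_induction_of_det_ne_zero (P := fun M =>
      ∀ A : GL (Fin n) F, A.1 = M →
        ρ (mm A) v0 = chi ψ lam (GeneralLinearGroup.det A) • v0) M hM ?_ ?_ ?_
    · intro D hD A hA
      have hD' : ∀ k, D k ≠ 0 := by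
        intro k hk
        apply hD
        rw [det_diagonal]
        exact Finset.prod_eq_zero (Finset.mem_univ k) hk
      let d : Fin n → Fˣ := fun k => Units.mk0 (D k) (hD' _)
      have h1 : A = dg d := by
        apply Units.ext
        rw [dg_coe, hA]
        rfl
      rw [h1, hDG d]
      congr 2
      apply Units.ext
      rw [GeneralLinearGroup.val_det_apply, dg_coe, det_diagonal]
      simp
    · intro t A hA
      have h1 : A = tv t.i t.j t.hij t.c := by
        apply Units.ext
        rw [hA]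
        rfl
      rw [h1, hTV, hs.det_tv, chi_one (hs.gs_ne j hij), one_smul]
    · intro A B hA hB ihA ihB C hC
      let A' : GL (Fin n) F := GeneralLinearGroup.mkOfDetNeZero A hA
      let B' : GL (Fin n) F := GeneralLinearGroup.mkOfDetNeZero B hB
      have h1 : C = A' * B' := by
        apply Units.ext
        rw [hC]
        rfl
      rw [h1, map_mul, rho_mul, ihB B' rfl, map_smul, ihA A' rfl, map_mul, hs.chi_mul hij,
        smul_smul, mul_comm]
  refine ⟨f, ⟨?_, ?_, ?_⟩, hs.fam_single hij v0⟩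
  · intro x
    by_cases hx : x = 0
    · subst hx
      intro S
      rw [hf0, hA0 S, pr_TT]
      simp
    · exact hfm x hx
  · intro h x
    by_cases hx : x = 0
    · subst hx
      rw [zero_vecMul, hf0, hGL]
    · exact hs.fam_r2 hij v0 hx h
  · intro b x
    by_cases hx : ∃ a, a ≠ b ∧ x a ≠ 0
    · obtain ⟨a, hab, hxa⟩ := hx
      exact hA a b x hab hxa
    · push Not at hx
      have : x = Pi.single b (x b) := by
        ext k
        by_cases hk : k = b
        · subst hk; simp
        · rw [Pi.single_eq_of_ne hk, hx k hk]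
      have h1 := hax b (x b)
      rw [← this] at h1
      exact h1

end Seed

end Cfsg.Agent.H162.Weil
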