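import Cfsg.Agent.H162.WeilIrr

/-!
# Congruence classes of symmetric matrices: size bounds (helper162)
-/

set_option autoImplicit false
open Matrix Module

namespace Cfsg.Agent.H162.Weil

variable {F : Type*} [Field F] {n : ℕ}

/-- congruence class -/
def Ob (T : Matrix (Fin n) (Fin n) F) : Set (Sym n F) :=
  {S | ∃ h : GL (Fin n) F, S.1 = actT h T}

theorem actT_mul (g h : GL (Fin n) F) (T : Matrix (Fin n) (Fin n) F) :
    actT (g * h) T = actT g (actT h T) := by
  simp only [actT, _root_.mul_inv_rev, Units.val_mul, transpose_mul, Matrix.mul_assoc]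

theorem actT_one (T : Matrix (Fin n) (Fin n) F) : actT (1 : GL (Fin n) F) T = T := by
  simp [actT]

theorem Ob_congr (g : GL (Fin n) F) (T : Matrix (Fin n) (Fin n) F) :
    Ob (actT g T) = Ob T := by
  ext S
  constructor
  · rintro ⟨h, hh⟩
    exact ⟨h * g, by rw [actT_mul]; exact hh⟩
  · rintro ⟨h, hh⟩
    refine ⟨h * g⁻¹, ?_⟩
    rw [hh, actT_mul, ← actT_mul g⁻¹ g, inv_mul_cancel, actT_one]

/-- `Pᵀ D P` as a sum -/
theorem diag_conj (a : Fin n → F) (P : Matrix (Fin n) (Fin n) F) :
    Pᵀ * diagonal a * P = ∑ k, a k • vecMulVec (P k) (P k) := by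
  ext x y
  rw [Matrix.sum_apply, Matrix.mul_apply]
  refine Finset.sum_congr rfl fun k _ => ?_
  rw [mul_diagonal, Matrix.smul_apply, vecMulVec_apply, transpose_apply, smul_eq_mul]
  ring

theorem exists_diag [Fintype F] (h2 : (2 : F) ≠ 0) (T : Matrix (Fin n) (Fin n) F) (hT : T ∈ Sym n F) :
    ∃ (h : GL (Fin n) F) (a : Fin n → F), actT h T = diagonal a := by
  have : Invertible (2 : F) := invertibleOfNonzero h2
  let B : LinearMap.BilinForm F (Fin n → F) := Matrix.toBilin' T
  have hB : ∀ x y, B x y = x ⬝ᵥ (T *ᵥ y) := fun x y => Matrix.toBilin'_apply' T x y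
  have hsymm : LinearMap.IsSymm B := by
    constructor
    intro x y
    rw [hB, hB, RingHom.id_apply]
    exact sym_dot ⟨T, hT⟩ x y
  obtain ⟨v, hv⟩ := LinearMap.BilinForm.exists_orthogonal_basis (B := B) hsymm
  let e : Fin (finrank F (Fin n → F)) ≃ Fin n := finCongr (by simp)
  let b := v.reindex e
  have hb : ∀ k l, k ≠ l → b k ⬝ᵥ (T *ᵥ b l) = 0 := by
    intro k l hkl
    have h1 := hv (i := e.symm k) (j := e.symm l) (fun h => hkl (e.symm.injective h))
    have h3 : B (v (e.symm k)) (v (e.symm l)) = 0 := h1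
    rw [hB] at h3
    simpa [b] using h3
  let M : Matrix (Fin n) (Fin n) F := Matrix.of fun r k => b k r
  have hM : IsUnit M := by
    rw [← Matrix.linearIndependent_cols_iff_isUnit]
    exact b.linearIndependent
  obtain ⟨u, hu⟩ := hM
  refine ⟨u⁻¹, fun k => b k ⬝ᵥ (T *ᵥ b k), ?_⟩
  rw [actT, inv_inv, hu]
  ext k l
  have h3 : (Mᵀ * T * M) k l = b k ⬝ᵥ (T *ᵥ b l) := by
    rw [Matrix.mul_assoc, Matrix.mul_apply]
    simp only [dotProduct, mulVec, Matrix.mul_apply]
    rfl
  rw [h3]
  by_cases hkl : k = l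
  · subst hkl; simp
  · rw [diagonal_apply_ne _ hkl, hb k l hkl]

/-- GL is transitive on independent pairs. -/
theorem exists_gl_pair {i j : Fin n} (hij : i ≠ j) {f g : Fin n → F}
    (hfg : LinearIndependent F ![f, g]) :
    ∃ P : GL (Fin n) F, (Pi.single i 1 : Fin n → F) ᵥ* (P : Matrix (Fin n) (Fin n) F) = f ∧
      (Pi.single j 1 : Fin n → F) ᵥ* (P : Matrix (Fin n) (Fin n) F) = g := by
  rw [LinearIndependent.pair_iff] at hfg
  have hf : f ≠ 0 := by
    rintro rfl
    have := (hfg 1 0 (by simp)).1
    exact one_ne_zero this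
  obtain ⟨h1, hh1⟩ := exists_vecMul_eq_single f hf i
  set g' := g ᵥ* (h1 : Matrix (Fin n) (Fin n) F) with hg'
  obtain ⟨k, hki, hk⟩ : ∃ k, k ≠ i ∧ g' k ≠ 0 := by
    by_contra hc
    push Not at hc
    have h3 : g' = g' i • (Pi.single i 1 : Fin n → F) := by
      ext k
      by_cases hk : k = i
      · subst hk; simp
      · rw [hc k hk]; simp [hk]
    have h4 : g = g' i • f := by
      have h5 := vecMul_inv (h := h1) (x := g) (y := g') hg'.symm
      rw [h3, smul_vecMul, vecMul_inv hh1] at h5
      exact h5.symm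
    have := (hfg (-(g' i)) 1 (by rw [one_smul, neg_smul, ← h4, neg_add_cancel])).2
    exact one_ne_zero this
  -- make the `j` coordinate nonzero
  obtain ⟨h3, hh3i, hh3⟩ : ∃ h3 : GL (Fin n) F,
      (Pi.single i 1 : Fin n → F) ᵥ* (h3 : Matrix (Fin n) (Fin n) F) = Pi.single i 1 ∧
      (g' ᵥ* (h3 : Matrix (Fin n) (Fin n) F)) j ≠ 0 := by
    by_cases hj : g' j = 0
    · have hkj : k ≠ j := by rintro rfl; exact hk hj
      refine ⟨tv k j hkj 1, ?_, ?_⟩
      · rw [tv_coe, vecMul_add, vecMul_one, vecMul_sgl]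
        simp [hki]
      · rw [tv_coe, vecMul_add, vecMul_one, vecMul_sgl, Pi.add_apply, hj, zero_add]
        simpa using hk
    · exact ⟨1, by simp, by simpa using hj⟩
  set g'' := g' ᵥ* (h3 : Matrix (Fin n) (Fin n) F) with hg''
  let r : GL (Fin n) F := rk (Pi.single j 1) (g'' - Pi.single j 1) (by simpa using hh3)
  have hri : (Pi.single i 1 : Fin n → F) ᵥ* (r : Matrix (Fin n) (Fin n) F) = Pi.single i 1 := by
    rw [rk_coe, vecMul_add, vecMul_one, vecMul_vecMulVec]
    simp [hij]
  have hrj : (Pi.single j 1 : Fin n → F) ᵥ* (r : Matrix (Fin n) (Fin n) F) = g'' := by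
    rw [rk_coe, vecMul_add, vecMul_one, vecMul_vecMulVec]
    simp
  refine ⟨r * h3⁻¹ * h1⁻¹, ?_, ?_⟩
  · rw [Units.val_mul, Units.val_mul, ← vecMul_vecMul, ← vecMul_vecMul, hri, vecMul_inv hh3i,
      vecMul_inv hh1]
  · rw [Units.val_mul, Units.val_mul, ← vecMul_vecMul, ← vecMul_vecMul, hrj,
      vecMul_inv hg''.symm, vecMul_inv hg'.symm]

/-- two by two block matrices -/
def blk (i j : Fin n) (p q r s : F) : Matrix (Fin n) (Fin n) F :=
  1 + single i i (p - 1) + single i j q + single j i r + single j j (s - 1)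

theorem blk_mul {i j : Fin n} (hij : i ≠ j) (p q r s p' q' r' s' : F) :
    blk i j p q r s * blk i j p' q' r' s' =
      blk i j (p * p' + q * r') (p * q' + q * s') (r * p' + s * r') (r * q' + s * s') := by
  simp only [blk, Matrix.mul_add, Matrix.add_mul, Matrix.mul_one, Matrix.one_mul,
    single_mul_single_same, single_mul_single_of_ne _ _ _ _ hij,
    single_mul_single_of_ne _ _ _ _ hij.symm, add_zero, zero_add]
  ext k l
  have key : ∀ (x y : Fin n) (t : F), single x y t k l =
      t * (if x = k then 1 else 0) * (if y = l then 1 else 0) := by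
    intro x y t
    by_cases h1 : x = k <;> by_cases h2 : y = l <;> simp [h1, h2]
  simp only [Matrix.add_apply, key]
  ring

theorem diag_mul_sgl (a : Fin n → F) (x y : Fin n) (t : F) :
    diagonal a * single x y t = single x y (a x * t) := by
  ext k l
  rw [diagonal_mul, single_apply, single_apply]
  by_cases h : x = k
  · subst h; simp
  · simp [h]

theorem sgl_mul_diag (a : Fin n → F) (x y : Fin n) (t : F) :
    single x y t * diagonal a = single x y (t * a y) := by
  ext k l
  rw [mul_diagonal, single_apply, single_apply]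
  by_cases h : y = l
  · subst h; simp
  · simp [h]

theorem blk_one (i j : Fin n) : blk i j (1 : F) 0 0 1 = 1 := by
  simp [blk]

theorem blk_transpose (i j : Fin n) (p q r s : F) : (blk i j p q r s)ᵀ = blk i j p r q s := by
  simp only [blk, transpose_add, transpose_one, transpose_single]
  abel

theorem bin_identity {i j : Fin n} (hij : i ≠ j) (a : Fin n → F) (x y : F) :
    (blk i j x (-(a j) * y) y (a i * x))ᵀ * diagonal a * blk i j x (-(a j) * y) y (a i * x) =
      diagonal (Function.update (Function.update a i (a i * x ^ 2 + a j * y ^ 2)) j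
        (a i * a j * (a i * x ^ 2 + a j * y ^ 2))) := by
  have h1 : diagonal (Function.update (Function.update a i (a i * x ^ 2 + a j * y ^ 2)) j
        (a i * a j * (a i * x ^ 2 + a j * y ^ 2))) = diagonal a +
        single i i (a i * x ^ 2 + a j * y ^ 2 - a i) +
        single j j (a i * a j * (a i * x ^ 2 + a j * y ^ 2) - a j) := by
    ext k l
    by_cases hkl : k = l
    · subst hkl
      by_cases hki : k = i
      · subst hki
        simp [hij, hij.symm]
      · by_cases hkj : k = j
        · subst hkj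
          simp [hki, Ne.symm hki]
        · simp [hki, hkj, Ne.symm hki, Ne.symm hkj]
    · rw [Matrix.add_apply, Matrix.add_apply, diagonal_apply_ne _ hkl, diagonal_apply_ne _ hkl,
        single_apply, single_apply, if_neg, if_neg, add_zero, add_zero]
      · rintro ⟨rfl, rfl⟩; exact hkl rfl
      · rintro ⟨rfl, rfl⟩; exact hkl rfl
  rw [h1, blk_transpose]
  simp only [blk, Matrix.mul_add, Matrix.add_mul, Matrix.mul_one, Matrix.one_mul,
    single_mul_single_same, single_mul_single_of_ne _ _ _ _ hij,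
    single_mul_single_of_ne _ _ _ _ hij.symm, add_zero, zero_add, diag_mul_sgl, sgl_mul_diag]
  ext k l
  have key : ∀ (x y : Fin n) (t : F), single x y t k l =
      t * (if x = k then 1 else 0) * (if y = l then 1 else 0) := by
    intro x y t
    by_cases h1 : x = k <;> by_cases h2 : y = l <;> simp [h1, h2]
  simp only [Matrix.add_apply, key]
  ring

theorem exists_conic [Fintype F] (h2 : (2 : F) ≠ 0) {a b : F} (ha : a ≠ 0) (hb : b ≠ 0) (c : F) :
    ∃ x y : F, a * x ^ 2 + b * y ^ 2 = c := by
  classical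
  open Polynomial in
  have hodd : Fintype.card F % 2 = 1 := by
    have h3 := FiniteField.even_card_iff_char_two (F := F)
    rcases Nat.mod_two_eq_zero_or_one (Fintype.card F) with h | h
    · exfalso
      have h4 := h3.mpr h
      have : ringChar F = 2 := h4
      have h5 := ringChar.Nat.cast_ringChar (R := F)
      rw [this] at h5
      exact h2 (by exact_mod_cast h5)
    · exact h
  obtain ⟨x, y, hxy⟩ := @FiniteField.exists_root_sum_quadratic F _ _ _
    (Polynomial.C a * Polynomial.X ^ 2) (Polynomial.C b * Polynomial.X ^ 2 - Polynomial.C c)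
    (by rw [Polynomial.degree_C_mul_X_pow 2 ha]; rfl)
    (by
      rw [Polynomial.degree_sub_C]
      · rw [Polynomial.degree_C_mul_X_pow 2 hb]; rfl
      · rw [Polynomial.degree_C_mul_X_pow 2 hb]; norm_num) hodd
  refine ⟨x, y, ?_⟩
  simp only [Polynomial.eval_mul, Polynomial.eval_C, Polynomial.eval_pow, Polynomial.eval_X,
    Polynomial.eval_sub] at hxy
  linear_combination hxy

/-- binary step -/
theorem bin_step [Fintype F] (h2 : (2 : F) ≠ 0) {i j : Fin n} (hij : i ≠ j) (a : Fin n → F)
    (hi : a i ≠ 0) (hj : a j ≠ 0) {c : F} (hc : c ≠ 0) :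
    ∃ h : GL (Fin n) F, actT h (diagonal a) =
      diagonal (Function.update (Function.update a i c) j (a i * a j * c)) := by
  obtain ⟨x, y, hxy⟩ := exists_conic h2 hi hj c
  let M : GL (Fin n) F := ⟨blk i j x (-(a j) * y) y (a i * x),
    blk i j (a i * x / c) (a j * y / c) (-y / c) (x / c), by
      rw [blk_mul hij, ← blk_one i j]
      congr 1 <;> field_simp <;> first | linear_combination hxy | ring, by
      rw [blk_mul hij, ← blk_one i j]
      congr 1 <;> field_simp <;> first | linear_combination hxy | ring⟩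
  refine ⟨M⁻¹, ?_⟩
  rw [actT, inv_inv]
  show (blk i j x (-(a j) * y) y (a i * x))ᵀ * diagonal a * blk i j x (-(a j) * y) y (a i * x) = _
  rw [bin_identity hij, hxy]

end Cfsg.Agent.H162.Weil
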