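import Cfsg.Agent.H162.WeilWt

/-!
# Representations of rank at most one (helper162)
-/

set_option autoImplicit false
open Matrix

namespace Cfsg.Agent.H162.Weil

variable {F : Type*} [Field F] {n : ℕ} [Fintype F] {V : Type*} [AddCommGroup V] [Module ℂ V]
  {ρ : Representation ℂ (Sp n F) V} {ψ : AddChar F ℂ}

/-- Every weight has rank at most one. -/
def RkOne (ρ : Representation ℂ (Sp n F) V) (ψ : AddChar F ℂ) : Prop :=
  ∀ T ∈ Sym n F, ∀ v ∈ Wt ρ ψ T, v ≠ 0 → ∀ i j k l, T i j * T k l = T i l * T k j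

/-- The rank one weight. -/
def TT (lam : F) (x : Fin n → F) : Matrix (Fin n) (Fin n) F := lam • vecMulVec x x

theorem TT_mem (lam : F) (x : Fin n → F) : TT lam x ∈ Sym n F := by
  rw [mem_Sym, TT, transpose_smul, transpose_vecMulVec]

theorem TT_apply (lam : F) (x : Fin n → F) (i j : Fin n) : TT lam x i j = lam * (x i * x j) := by
  simp [TT, vecMulVec_apply]

theorem pr_TT (lam : F) (x : Fin n → F) (S : Matrix (Fin n) (Fin n) F) :
    pr (TT lam x) S = lam * (x ⬝ᵥ (S *ᵥ x)) := pr_vec lam x S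

theorem actT_TT (h : GL (Fin n) F) (lam : F) (x : Fin n → F) :
    actT h (TT lam x) = TT lam (x ᵥ* ((h⁻¹ : GL (Fin n) F) : Matrix (Fin n) (Fin n) F)) := by
  rw [actT, TT, TT, Matrix.mul_smul, Matrix.smul_mul]
  congr 1
  rw [mul_vecMulVec, vecMulVec_mul, mulVec_transpose]

theorem mm_mem_TT (h : GL (Fin n) F) {lam : F} {x : Fin n → F} {v : V}
    (hv : v ∈ Wt ρ ψ (TT lam x)) :
    ρ (mm h) v ∈ Wt ρ ψ (TT lam (x ᵥ* ((h⁻¹ : GL (Fin n) F) : Matrix (Fin n) (Fin n) F))) := by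
  rw [← actT_TT]; exact mm_mem_Wt h hv

theorem rho_mul (g h : Sp n F) (v : V) : ρ (g * h) v = ρ g (ρ h v) := by
  rw [map_mul, Module.End.mul_apply]

theorem rho_inj (g : Sp n F) {v w : V} (h : ρ g v = ρ g w) : v = w := by
  have := congrArg (ρ g⁻¹) h
  rwa [← rho_mul, ← rho_mul, inv_mul_cancel, map_one] at this

/-- (F1) -/
theorem fix_of_fix (hψ : ψ.IsPrimitive) (h2 : (2 : F) ≠ 0) (hR : RkOne ρ ψ) (i : Fin n) {v : V}
    (hv : ∀ s, ρ (uu (sD i s)) v = v) (S : Sym n F)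
    (hS : ∀ k l, k ≠ i → l ≠ i → S.1 k l = 0) : ρ (uu S) v = v := by
  have key : ∀ T : Sym n F, ρ (uu S) (Pj ρ ψ T.1 v) = Pj ρ ψ T.1 v := by
    intro T
    by_cases h0 : Pj ρ ψ T.1 v = 0
    · rw [h0, map_zero]
    have hT := Pj_mem (ρ := ρ) (ψ := ψ) T.1 v
    have h1 : T.1 i i = 0 := by
      by_contra hne
      obtain ⟨s, hs⟩ := exists_ne_one hψ hne
      apply hs
      have h3 := hT (sD i s)
      rw [rho_uu_Pj, hv, pr_sD] at h3
      have h4 : (ψ (s * T.1 i i) - 1) • Pj ρ ψ T.1 v = 0 := by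
        rw [sub_smul, one_smul, ← h3, sub_self]
      rcases smul_eq_zero.mp h4 with h5 | h5
      · exact sub_eq_zero.mp h5
      · exact absurd h5 h0
    have h6 : ∀ k, T.1 i k = 0 := by
      intro k
      have := hR T.1 T.2 _ hT h0 i i k k
      rw [h1, zero_mul, Sym.apply T k i] at this
      exact mul_self_eq_zero.mp this.symm
    rw [hT S]
    have h7 : pr T.1 S.1 = 0 := by
      simp only [pr]
      refine Finset.sum_eq_zero fun k _ => Finset.sum_eq_zero fun l _ => ?_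
      by_cases hk : k = i
      · rw [hk, h6, zero_mul]
      · by_cases hl : l = i
        · rw [hl, Sym.apply T, h6, zero_mul]
        · rw [hS k l hk hl, mul_zero]
    rw [h7, AddChar.map_zero_eq_one, one_smul]
  conv_lhs => rw [← sum_Pj (ρ := ρ) hψ h2 v, map_sum]
  conv_rhs => rw [← sum_Pj (ρ := ρ) hψ h2 v]
  exact Finset.sum_congr rfl fun T _ => key T

theorem sE_zero_of_ne (i j : Fin n) (b : F) (k l : Fin n) (h1 : ¬ (k = i ∧ l = j))
    (h2 : ¬ (k = j ∧ l = i)) : (sE i j b).1 k l = 0 := by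
  simp only [sE, Matrix.add_apply, Matrix.single_apply]
  rw [if_neg, if_neg, add_zero]
  · rintro ⟨rfl, rfl⟩; exact h2 ⟨rfl, rfl⟩
  · rintro ⟨rfl, rfl⟩; exact h1 ⟨rfl, rfl⟩

theorem sD_zero_of_ne (i : Fin n) (b : F) (k l : Fin n) (h1 : ¬ (k = i ∧ l = i)) :
    (sD i b).1 k l = 0 := by
  simp only [sD, Matrix.single_apply]
  rw [if_neg]
  rintro ⟨rfl, rfl⟩; exact h1 ⟨rfl, rfl⟩

theorem ww_comm_sD (i j : Fin n) (hij : i ≠ j) (s : F) :
    ww j * uu (sD i s) = uu (sD i s) * ww j := by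
  apply ww_comm_uu
  intro k
  apply sD_zero_of_ne
  rintro ⟨h, -⟩
  exact hij h.symm

/-- (F1') -/
theorem fix_tv (hψ : ψ.IsPrimitive) (h2 : (2 : F) ≠ 0) (hR : RkOne ρ ψ) (i j : Fin n)
    (hij : i ≠ j) {v : V} (hv : ∀ s, ρ (uu (sD i s)) v = v) (b : F) :
    ρ (mm (tv i j hij b)) v = v := by
  have h1 : ρ (uu (sE i j b)) (ρ (ww j)⁻¹ v) = ρ (ww j)⁻¹ v := by
    apply fix_of_fix hψ h2 hR i
    · intro s
      have : uu (sD i s) * (ww j)⁻¹ = (ww j)⁻¹ * uu (sD i s) := by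
        rw [eq_inv_mul_iff_mul_eq, ← mul_assoc, ww_comm_sD i j hij, mul_inv_cancel_right]
      rw [← rho_mul, this, rho_mul, hv]
    · intro k l hk hl
      apply sE_zero_of_ne
      · rintro ⟨rfl, rfl⟩; exact hk rfl
      · rintro ⟨rfl, rfl⟩; exact hl rfl
  have h3 : mm (tv i j hij b) = ww j * uu (sE i j b) * (ww j)⁻¹ := by
    rw [ww_mul_uu i j hij, mul_inv_cancel_right]
  rw [h3, rho_mul, rho_mul, h1, ← rho_mul, mul_inv_cancel, map_one, Module.End.one_apply]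

/-- `uu S` acts trivially on `Wt (TT lam e_i)` when `S i i = 0`. -/
theorem uu_TT_single {lam : F} {i : Fin n} {v : V} (hv : v ∈ Wt ρ ψ (TT lam (Pi.single i 1)))
    (S : Sym n F) : ρ (uu S) v = ψ (lam * S.1 i i) • v := by
  rw [hv S, pr_TT]
  simp

section F2

variable (hψ : ψ.IsPrimitive) (h2 : (2 : F) ≠ 0) (hR : RkOne ρ ψ) {i j : Fin n} (hij : i ≠ j)
  {lam : F} (hlam : lam ≠ 0)

/-- the vector `e_i + y e_j`. -/
def ev (i j : Fin n) (y : F) : Fin n → F := Pi.single i 1 + Pi.single j y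

theorem ev_zero (i j : Fin n) : (ev i j (0 : F)) = Pi.single i 1 := by simp [ev]

include hij in
theorem ev_vecMul (y y' : F) :
    ev i j y' ᵥ* (((tv i j hij (-y))⁻¹ : GL (Fin n) F) : Matrix (Fin n) (Fin n) F) =
      ev i j (y + y') := by
  rw [tv_inv_coe, vecMul_add, vecMul_one, vecMul_sgl, neg_neg, ev, ev]
  simp only [Pi.add_apply, Pi.single_eq_same, Pi.single_eq_of_ne hij, add_zero, one_mul]
  rw [add_assoc, ← Pi.single_add, add_comm y']

include hij hlam in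
theorem TT_ev_inj : Function.Injective (fun y => TT lam (ev i j y)) := by
  intro y y' h
  have := congrFun (congrFun h i) j
  simp only [TT_apply, ev, Pi.add_apply, Pi.single_eq_same, Pi.single_eq_of_ne hij,
    Pi.single_eq_of_ne hij.symm, add_zero, zero_add, one_mul] at this
  exact mul_left_cancel₀ hlam this

/-- The operators `N(y)`. -/
noncomputable def Ny (ρ : Representation ℂ (Sp n F) V) (i j : Fin n) (hij : i ≠ j) (y : F) :
    V →ₗ[ℂ] V := ρ (mm (tv i j hij (-y)))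

theorem Ny_mem {y y' : F} {v : V} (hv : v ∈ Wt ρ ψ (TT lam (ev i j y'))) :
    Ny ρ i j hij y v ∈ Wt ρ ψ (TT lam (ev i j (y + y'))) := by
  have := mm_mem_TT (tv i j hij (-y)) hv
  rwa [ev_vecMul] at this

theorem Ny_Pj (y y' : F) (v : V) :
    Ny ρ i j hij y (Pj ρ ψ (TT lam (ev i j y')) v) =
      Pj ρ ψ (TT lam (ev i j (y + y'))) (Ny ρ i j hij y v) := by
  rw [Ny, mm_Pj, actT_TT, ev_vecMul]

theorem tv_add (y y' : F) : tv i j hij (y + y') = tv i j hij y * tv i j hij y' := by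
  apply Units.ext
  rw [Units.val_mul]
  exact (transvection_mul_transvection_same i j hij y y').symm

theorem Ny_add (y y' : F) (v : V) :
    Ny ρ i j hij (y + y') v = Ny ρ i j hij y (Ny ρ i j hij y' v) := by
  rw [Ny, Ny, Ny, ← rho_mul, ← map_mul, ← tv_add, neg_add]

/-- The operator `K`. -/
noncomputable def Kop (ρ : Representation ℂ (Sp n F) V) (ψ : AddChar F ℂ) (i j : Fin n) (lam : F)
    (v : V) : V := Pj ρ ψ (TT lam (ev i j 0)) (ρ (ww j) v)

include hψ h2 hR hij hlam in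
theorem ww_decomp {v : V} (hv : v ∈ Wt ρ ψ (TT lam (Pi.single i 1))) :
    ∑ y : F, Pj ρ ψ (TT lam (ev i j y)) (ρ (ww j) v) = ρ (ww j) v := by
  classical
  conv_rhs => rw [← sum_Pj (ρ := ρ) hψ h2 (ρ (ww j) v)]
  refine Fintype.sum_of_injective (fun y => (⟨TT lam (ev i j y), TT_mem _ _⟩ : Sym n F))
    (fun y y' h => TT_ev_inj hij hlam (congrArg Subtype.val h)) _ _ ?_ (fun y => rfl)
  intro T hT
  by_contra h0
  apply hT
  have hTm := Pj_mem (ρ := ρ) (ψ := ψ) T.1 (ρ (ww j) v)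
  -- action of `uu S` commuting with `ww j`
  have h1 : ∀ S : Sym n F, (∀ k, S.1 j k = 0) → ψ (pr T.1 S.1) = ψ (lam * S.1 i i) := by
    intro S hS
    have h3 := hTm S
    rw [rho_uu_Pj, ← rho_mul, ← ww_comm_uu j S hS, rho_mul, uu_TT_single hv, map_smul,
      map_smul] at h3
    have h4 : (ψ (lam * S.1 i i) - ψ (pr T.1 S.1)) • Pj ρ ψ T.1 (ρ (ww j) v) = 0 := by
      rw [sub_smul, h3, sub_self]
    rcases smul_eq_zero.mp h4 with h5 | h5
    · exact (sub_eq_zero.mp h5).symm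
    · exact absurd h5 h0
  have hii : T.1 i i = lam := by
    by_contra hne
    obtain ⟨s, hs⟩ := exists_ne_one hψ (sub_ne_zero.mpr hne)
    apply hs
    have := h1 (sD i s) (fun k => sD_zero_of_ne _ _ _ _ (fun h => hij h.1.symm))
    rw [pr_sD] at this
    rw [mul_sub, sub_eq_add_neg, AddChar.map_add_eq_mul, this, ← AddChar.map_add_eq_mul]
    simp only [sD, single_apply_same]
    rw [mul_comm lam, add_neg_cancel, AddChar.map_zero_eq_one]
  have hik : ∀ k, k ≠ i → k ≠ j → T.1 i k = 0 := by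
    intro k hki hkj
    by_contra hne
    obtain ⟨s, hs⟩ := exists_ne_one hψ (mul_ne_zero h2 hne)
    apply hs
    have := h1 (sE i k s) (fun l => sE_zero_of_ne _ _ _ _ _ (fun h => hij h.1.symm)
      (fun h => hkj h.1.symm))
    rw [pr_sE, Sym.apply T k i, ← two_mul] at this
    rw [this, sE_zero_of_ne _ _ _ _ _ (fun h => hki h.2.symm) (fun h => hki h.1.symm), mul_zero,
      AddChar.map_zero_eq_one]
  refine ⟨lam⁻¹ * T.1 i j, ?_⟩
  apply Subtype.ext
  ext k l
  have hrk := hR T.1 T.2 _ hTm h0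
  -- T k l = T i k T i l / lam
  have hkl : T.1 k l = lam⁻¹ * (T.1 i k * T.1 i l) := by
    have := hrk i i k l
    rw [hii] at this
    rw [Sym.apply T i k, mul_comm (T.1 k i), ← this, inv_mul_cancel_left₀ hlam]
  show TT lam (ev i j (lam⁻¹ * T.1 i j)) k l = T.1 k l
  have hev : ∀ k, lam * (ev i j (lam⁻¹ * T.1 i j)) k = T.1 i k := by
    intro k
    by_cases hki : k = i
    · subst hki
      simp [ev, hii, hij]
    · by_cases hkj : k = j
      · subst hkj
        simp [ev, hki, hlam]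
      · rw [hik k hki hkj]
        simp [ev, hki, hkj]
  rw [TT_apply, hkl, ← hev k, ← hev l]
  field_simp

include hij in
theorem Ny_ww {v : V} (hv : v ∈ Wt ρ ψ (TT lam (Pi.single i 1))) (a : F) :
    Ny ρ i j hij a (ρ (ww j) v) = ρ (ww j) v := by
  rw [Ny, ← rho_mul, ← ww_mul_uu i j hij, rho_mul, uu_TT_single hv, 
    sE_zero_of_ne _ _ _ _ _ (fun h => hij h.2) (fun h => hij h.1), mul_zero,
      AddChar.map_zero_eq_one, one_smul]

include hψ h2 hR hij hlam in
theorem ww_eq_sum {v : V} (hv : v ∈ Wt ρ ψ (TT lam (Pi.single i 1))) :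
    ρ (ww j) v = ∑ y : F, Ny ρ i j hij y (Kop ρ ψ i j lam v) := by
  rw [← ww_decomp hψ h2 hR hij hlam hv]
  refine Finset.sum_congr rfl fun y _ => ?_
  rw [Kop, Ny_Pj, Ny_ww hij hv, add_zero]

theorem Kop_mem (v : V) : Kop ρ ψ i j lam v ∈ Wt ρ ψ (TT lam (Pi.single i 1)) := by
  rw [← ev_zero i j]
  exact Pj_mem _ _

include hψ h2 hR hij hlam in
theorem ww_Ny {v : V} (hv : v ∈ Wt ρ ψ (TT lam (Pi.single i 1))) (a : F) :
    ρ (ww j) (Ny ρ i j hij a v) =
      ∑ y : F, ψ (2 * lam * a * y) • Ny ρ i j hij y (Kop ρ ψ i j lam v) := by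
  rw [Ny, ← rho_mul, ww_mul_mm, rho_mul, ww_eq_sum hψ h2 hR hij hlam hv, map_sum, neg_neg]
  refine Finset.sum_congr rfl fun y _ => ?_
  have h := Ny_mem hij (y := y) (y' := 0) (v := Kop ρ ψ i j lam v) (by
    rw [ev_zero]; exact Kop_mem v)
  rw [add_zero] at h
  rw [h (sE i j a)]
  congr 2
  rw [pr_sE, TT_apply, TT_apply]
  simp only [ev, Pi.add_apply, Pi.single_eq_same, Pi.single_eq_of_ne hij,
    Pi.single_eq_of_ne hij.symm, add_zero, zero_add, one_mul, mul_one]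
  ring

/-- The quadratic Gauss sum. -/
noncomputable def gs (ψ : AddChar F ℂ) (a : F) : ℂ := ∑ y : F, ψ (a * y ^ 2)

include hψ h2 hR hij hlam in
theorem key_ht {v : V} (hv : v ∈ Wt ρ ψ (TT lam (Pi.single i 1))) (t : Fˣ) :
    gs ψ (-((t⁻¹ : Fˣ) : F) * lam) • Kop ρ ψ i j lam (Kop ρ ψ i j lam v) =
      ρ (mm (ht j t)) (Kop ρ ψ i j lam v) := by
  classical
  have hK := Kop_mem (ρ := ρ) (ψ := ψ) (i := i) (j := j) (lam := lam) v
  have hN : ∀ y, Ny ρ i j hij y (Kop ρ ψ i j lam v) ∈ Wt ρ ψ (TT lam (ev i j y)) := by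
    intro y
    have h := Ny_mem hij (y := y) (y' := 0) (v := Kop ρ ψ i j lam v) (by
      rw [ev_zero]; exact Kop_mem v)
    rwa [add_zero] at h
  have hE : ∀ y y' : F, ∀ u : V, u ∈ Wt ρ ψ (TT lam (ev i j y')) →
      Pj ρ ψ (TT lam (ev i j y)) u = if y' = y then u else 0 := by
    intro y y' u hu
    split_ifs with h
    · subst h; exact Pj_of_mem hu
    · exact Pj_of_mem_ne hψ h2 (TT_mem _ _) (TT_mem _ _)
        (fun h' => h (TT_ev_inj hij hlam h').symm) hu
  have hrel := congrArg (fun g => Pj ρ ψ (TT lam (ev i j 0)) (ρ g v)) (ww_uu_ww j t)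
  simp only [rho_mul] at hrel
  -- left side
  have hL : Pj ρ ψ (TT lam (ev i j 0))
      (ρ (ww j) (ρ (uu (sD j (-((t⁻¹ : Fˣ) : F)))) (ρ (ww j) v))) =
      gs ψ (-((t⁻¹ : Fˣ) : F) * lam) • Kop ρ ψ i j lam (Kop ρ ψ i j lam v) := by
    rw [ww_eq_sum hψ h2 hR hij hlam hv, map_sum, map_sum, map_sum, gs, Finset.sum_smul]
    refine Finset.sum_congr rfl fun y _ => ?_
    rw [hN y, map_smul, map_smul, ww_Ny hψ h2 hR hij hlam hK, map_sum]
    rw [Finset.sum_eq_single 0]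
    · rw [mul_zero, AddChar.map_zero_eq_one, one_smul]
      have h0 : Ny ρ i j hij 0 (Kop ρ ψ i j lam (Kop ρ ψ i j lam v)) =
          Kop ρ ψ i j lam (Kop ρ ψ i j lam v) := by
        rw [Ny, neg_zero]
        have : tv i j hij (0 : F) = 1 := by
          apply Units.ext
          rw [tv_coe]; simp
        rw [this, map_one, map_one, Module.End.one_apply]
      rw [h0, hE 0 0 _ (by rw [ev_zero]; exact Kop_mem _), if_pos rfl]
      congr 2
      rw [pr_sD, TT_apply]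
      simp only [ev, Pi.add_apply, Pi.single_eq_same, Pi.single_eq_of_ne hij.symm, zero_add]
      ring
    · intro y' _ hy'
      have h := Ny_mem hij (y := y') (y' := 0) (v := Kop ρ ψ i j lam (Kop ρ ψ i j lam v)) (by
        rw [ev_zero]; exact Kop_mem _)
      rw [add_zero] at h
      rw [map_smul, hE 0 y' _ h, if_neg hy', smul_zero]
    · simp
  have hR' : Pj ρ ψ (TT lam (ev i j 0))
      (ρ (uu (sD j (t : F))) (ρ (mm (ht j t)) (ρ (ww j) (ρ (uu (sD j (t : F))) v)))) =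
      ρ (mm (ht j t)) (Kop ρ ψ i j lam v) := by
    rw [uu_TT_single hv, sD_zero_of_ne _ _ _ _ (fun h => hij h.1), mul_zero,
      AddChar.map_zero_eq_one, one_smul, ww_eq_sum hψ h2 hR hij hlam hv, map_sum, map_sum,
      map_sum]
    have hm : ∀ y, ρ (mm (ht j t)) (Ny ρ i j hij y (Kop ρ ψ i j lam v)) ∈
        Wt ρ ψ (TT lam (ev i j (y * ((t⁻¹ : Fˣ) : F)))) := by
      intro y
      have := mm_mem_TT (ht j t) (hN y)
      rw [ht_inv, ht_coe, vecMul_add, vecMul_one, vecMul_sgl] at this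
      have he : ev i j y + Pi.single j (ev i j y j * (((t⁻¹ : Fˣ) : F) - 1)) =
          ev i j (y * ((t⁻¹ : Fˣ) : F)) := by
        simp only [ev]
        rw [add_assoc, ← Pi.single_add]
        congr 2
        simp only [Pi.add_apply, Pi.single_eq_same, Pi.single_eq_of_ne hij.symm, zero_add]
        ring
      rwa [he] at this
    rw [Finset.sum_eq_single 0]
    · have h0 : Ny ρ i j hij 0 (Kop ρ ψ i j lam v) = Kop ρ ψ i j lam v := by
        rw [Ny, neg_zero]
        have : tv i j hij (0 : F) = 1 := by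
          apply Units.ext
          rw [tv_coe]; simp
        rw [this, map_one, map_one, Module.End.one_apply]
      have h3 := hm 0
      rw [h0, zero_mul] at h3
      rw [h0, h3, map_smul, hE 0 0 _ h3, if_pos rfl, pr_sD, TT_apply]
      simp only [ev, Pi.add_apply, Pi.single_eq_same, Pi.single_eq_of_ne hij.symm, zero_add]
      rw [mul_zero, mul_zero, mul_zero, AddChar.map_zero_eq_one, one_smul]
    · intro y _ hy
      rw [hm y, map_smul, hE 0 _ _ (hm y), if_neg, smul_zero]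
      exact mul_ne_zero hy (Units.ne_zero _)
    · simp
  rw [← hL, ← hR', hrel]

include hψ h2 hR hij hlam in
theorem gs_Kop {v : V} (hv : v ∈ Wt ρ ψ (TT lam (Pi.single i 1))) :
    gs ψ (-lam) • Kop ρ ψ i j lam v = v := by
  have h1 := key_ht hψ h2 hR hij hlam hv 1
  have h3 : ht j (1 : Fˣ) = 1 := by
    apply Units.ext
    rw [ht_coe]; simp
  rw [h3, map_one, map_one, Module.End.one_apply, inv_one, Units.val_one, neg_one_mul] at h1
  have hlin : ∀ u w : V, Kop ρ ψ i j lam (u - w) = Kop ρ ψ i j lam u - Kop ρ ψ i j lam w := by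
    intro u w; simp [Kop]
  have hsm : ∀ (c : ℂ) (u : V), Kop ρ ψ i j lam (c • u) = c • Kop ρ ψ i j lam u := by
    intro c u; simp [Kop]
  set u := gs ψ (-lam) • Kop ρ ψ i j lam v - v with hu
  have hu0 : Kop ρ ψ i j lam u = 0 := by
    rw [hu, hlin, hsm, h1, sub_self]
  have hum : u ∈ Wt ρ ψ (TT lam (Pi.single i 1)) :=
    Submodule.sub_mem _ (Submodule.smul_mem _ _ (Kop_mem v)) hv
  have := ww_eq_sum hψ h2 hR hij hlam hum
  simp only [hu0, map_zero, Finset.sum_const_zero] at this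
  have h5 : u = 0 := by
    apply rho_inj (ρ := ρ) (ww j)
    rw [this, map_zero]
  exact sub_eq_zero.mp h5

include hψ h2 hR hij hlam in
/-- (F2) -/
theorem gs_ww {v : V} (hv : v ∈ Wt ρ ψ (TT lam (Pi.single i 1))) (a : F) :
    gs ψ (-lam) • ρ (ww j) (Ny ρ i j hij a v) =
      ∑ y : F, ψ (2 * lam * a * y) • Ny ρ i j hij y v := by
  rw [ww_Ny hψ h2 hR hij hlam hv, Finset.smul_sum]
  refine Finset.sum_congr rfl fun y _ => ?_
  rw [smul_comm, ← map_smul, gs_Kop hψ h2 hR hij hlam hv]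

include hψ h2 hR hij hlam in
/-- (F3) -/
theorem gs_ht {v : V} (hv : v ∈ Wt ρ ψ (TT lam (Pi.single i 1))) (t : Fˣ) :
    gs ψ (-lam) • ρ (mm (ht j t)) v = gs ψ (-((t⁻¹ : Fˣ) : F) * lam) • v := by
  have h1 := key_ht hψ h2 hR hij hlam hv t
  have hsm : ∀ (c : ℂ) (u : V), Kop ρ ψ i j lam (c • u) = c • Kop ρ ψ i j lam u := by
    intro c u; simp [Kop]
  have h3 : (gs ψ (-lam) * gs ψ (-lam)) • gs ψ (-((t⁻¹ : Fˣ) : F) * lam) •
      Kop ρ ψ i j lam (Kop ρ ψ i j lam v) =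
      (gs ψ (-lam) * gs ψ (-lam)) • ρ (mm (ht j t)) (Kop ρ ψ i j lam v) :=
    congrArg (fun w => (gs ψ (-lam) * gs ψ (-lam)) • w) h1
  rw [mul_smul, mul_smul, smul_comm (gs ψ (-lam)) (gs ψ (-((t⁻¹ : Fˣ) : F) * lam)), ← hsm,
    gs_Kop hψ h2 hR hij hlam hv, smul_comm (gs ψ (-lam)) (gs ψ (-((t⁻¹ : Fˣ) : F) * lam)),
    gs_Kop hψ h2 hR hij hlam hv, ← map_smul (ρ (mm (ht j t))), gs_Kop hψ h2 hR hij hlam hv] at h3
  exact h3.symm

end F2

end Cfsg.Agent.H162.Weil
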