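import Mathlib
import Cfsg.Prelude.Def_ClassicalGeometry
import Cfsg.Agent.S0765

/-!
# Elements of the symplectic group used for the Weil representation (helper162)

`uu S` (unipotent radical of the Siegel parabolic), `mm h` (Levi), `ww j` (partial Weyl elements),
their relations, and the generation of `Sp_2n(F)` by them.
-/

set_option autoImplicit false
open Matrix

namespace Cfsg.Agent.H162.Weil

variable {F : Type*} [Field F] {n : ℕ}

/-- The symplectic group. -/
abbrev Sp (n : ℕ) (F : Type*) [Field F] : Type _ := ↥(Matrix.symplecticGroup (Fin n) F)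

/-- Symmetric matrices. -/
def Sym (n : ℕ) (F : Type*) [Field F] : AddSubgroup (Matrix (Fin n) (Fin n) F) where
  carrier := {S | Sᵀ = S}
  add_mem' {a b} ha hb := by
    simp only [Set.mem_ofPred_eq] at *
    rw [transpose_add, ha, hb]
  zero_mem' := by simp
  neg_mem' {a} ha := by
    simp only [Set.mem_ofPred_eq] at *
    rw [transpose_neg, ha]

theorem mem_Sym {S : Matrix (Fin n) (Fin n) F} : S ∈ Sym n F ↔ Sᵀ = S := Iff.rfl

theorem Sym.apply (S : Sym n F) (i j : Fin n) : S.1 i j = S.1 j i := by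
  have h := S.2
  rw [mem_Sym] at h
  conv_lhs => rw [← h]
  rfl

instance instFiniteSym [Finite F] : Finite (Sym n F) := Subtype.finite

noncomputable instance instFintypeSym [Finite F] : Fintype (Sym n F) := Fintype.ofFinite _

/-- The symmetric matrix `s (E_ij + E_ji)`. -/
def sE (i j : Fin n) (s : F) : Sym n F :=
  ⟨single i j s + single j i s, by
    rw [mem_Sym, transpose_add, transpose_single, transpose_single, add_comm]⟩

/-- The symmetric matrix `s E_ii`. -/
def sD (i : Fin n) (s : F) : Sym n F :=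
  ⟨single i i s, by rw [mem_Sym, transpose_single]⟩

/-- conjugation action of `GL` on symmetric matrices `h S hᵀ`. -/
def cong (h : Matrix (Fin n) (Fin n) F) (S : Sym n F) : Sym n F :=
  ⟨h * S.1 * hᵀ, by
    have := S.2
    rw [mem_Sym] at this ⊢
    rw [transpose_mul, transpose_mul, transpose_transpose, this, Matrix.mul_assoc]⟩

theorem uu_mem (S : Sym n F) : fromBlocks 1 S.1 0 1 ∈ Matrix.symplecticGroup (Fin n) F := by
  rw [SymplecticGroup.fromBlocks_mem_iff]
  have := S.2
  rw [mem_Sym] at this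
  simp [this]

/-- Unipotent radical of the Siegel parabolic. -/
def uu (S : Sym n F) : Sp n F := ⟨fromBlocks 1 S.1 0 1, uu_mem S⟩

theorem uu_zero : uu (0 : Sym n F) = 1 := by
  apply Subtype.ext
  show fromBlocks 1 ((0 : Sym n F) : Matrix (Fin n) (Fin n) F) 0 1 = 1
  rw [ZeroMemClass.coe_zero, fromBlocks_one]

theorem uu_add (S T : Sym n F) : uu (S + T) = uu S * uu T := by
  apply Subtype.ext
  show fromBlocks 1 ((S + T : Sym n F) : Matrix (Fin n) (Fin n) F) 0 1 =
    fromBlocks 1 S.1 0 1 * fromBlocks 1 T.1 0 1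
  rw [fromBlocks_multiply]
  simp [add_comm]

theorem uu_neg (S : Sym n F) : uu (-S) = (uu S)⁻¹ := by
  rw [eq_inv_iff_mul_eq_one, ← uu_add, neg_add_cancel, uu_zero]

theorem mm_mem (h : GL (Fin n) F) :
    fromBlocks (h : Matrix (Fin n) (Fin n) F) 0 0 ((h⁻¹ : GL (Fin n) F) : Matrix (Fin n) (Fin n) F)ᵀ ∈
      Matrix.symplecticGroup (Fin n) F := by
  rw [SymplecticGroup.fromBlocks_mem_iff]
  refine ⟨by simp, by simp, ?_⟩
  rw [← transpose_mul, ← Units.val_mul, inv_mul_cancel]
  simp

/-- Levi factor of the Siegel parabolic. -/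
def mm : GL (Fin n) F →* Sp n F where
  toFun h := ⟨fromBlocks (h : Matrix (Fin n) (Fin n) F) 0 0
    ((h⁻¹ : GL (Fin n) F) : Matrix (Fin n) (Fin n) F)ᵀ, mm_mem h⟩
  map_one' := by
    apply Subtype.ext
    show fromBlocks _ 0 0 _ = (1 : Matrix (Fin n ⊕ Fin n) (Fin n ⊕ Fin n) F)
    simp
  map_mul' g h := by
    apply Subtype.ext
    show fromBlocks _ 0 0 _ = fromBlocks _ 0 0 _ * fromBlocks _ 0 0 _
    rw [fromBlocks_multiply]
    simp [_root_.mul_inv_rev, transpose_mul]

theorem mm_coe (h : GL (Fin n) F) : ((mm h : Sp n F) : Matrix (Fin n ⊕ Fin n) (Fin n ⊕ Fin n) F) =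
    fromBlocks (h : Matrix (Fin n) (Fin n) F) 0 0
    ((h⁻¹ : GL (Fin n) F) : Matrix (Fin n) (Fin n) F)ᵀ := rfl

theorem uu_coe (S : Sym n F) : ((uu S : Sp n F) : Matrix (Fin n ⊕ Fin n) (Fin n ⊕ Fin n) F) =
    fromBlocks 1 S.1 0 1 := rfl

theorem ww_mem (j : Fin n) :
    fromBlocks (1 - single j j 1) (single j j 1) (- single j j 1) (1 - single j j 1) ∈
      Matrix.symplecticGroup (Fin n) F := by
  rw [SymplecticGroup.fromBlocks_mem_iff]
  simp [Matrix.mul_sub, Matrix.sub_mul, transpose_sub]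

/-- Partial Weyl element. -/
def ww (j : Fin n) : Sp n F :=
  ⟨fromBlocks (1 - single j j 1) (single j j 1) (- single j j 1) (1 - single j j 1), ww_mem j⟩

theorem ww_coe (j : Fin n) : ((ww j : Sp n F) : Matrix (Fin n ⊕ Fin n) (Fin n ⊕ Fin n) F) =
    fromBlocks (1 - single j j 1) (single j j 1) (- single j j 1) (1 - single j j 1) := rfl

/-- Elementary transvections in `GL`. -/
def tv (i j : Fin n) (h : i ≠ j) (b : F) : GL (Fin n) F :=
  ⟨transvection i j b, transvection i j (-b), by
    rw [transvection_mul_transvection_same i j h, add_neg_cancel, transvection_zero], by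
    rw [transvection_mul_transvection_same i j h, neg_add_cancel, transvection_zero]⟩

theorem tv_coe (i j : Fin n) (h : i ≠ j) (b : F) :
    ((tv i j h b : GL (Fin n) F) : Matrix (Fin n) (Fin n) F) = 1 + single i j b := rfl

theorem tv_inv_coe (i j : Fin n) (h : i ≠ j) (b : F) :
    (((tv i j h b)⁻¹ : GL (Fin n) F) : Matrix (Fin n) (Fin n) F) = 1 + single i j (-b) := rfl

/-- Diagonal matrices in `GL`. -/
def dg (d : Fin n → Fˣ) : GL (Fin n) F :=
  ⟨diagonal (fun i => (d i : F)), diagonal (fun i => (((d i)⁻¹ : Fˣ) : F)), by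
    rw [diagonal_mul_diagonal, ← diagonal_one]; congr 1; ext i; simp, by
    rw [diagonal_mul_diagonal, ← diagonal_one]; congr 1; ext i; simp⟩

theorem dg_coe (d : Fin n → Fˣ) :
    ((dg d : GL (Fin n) F) : Matrix (Fin n) (Fin n) F) = diagonal (fun i => (d i : F)) := rfl

theorem dg_inv_coe (d : Fin n → Fˣ) :
    (((dg d)⁻¹ : GL (Fin n) F) : Matrix (Fin n) (Fin n) F) =
      diagonal (fun i => (((d i)⁻¹ : Fˣ) : F)) := rfl

theorem dg_mul (d e : Fin n → Fˣ) : dg (d * e) = dg d * dg e := by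
  apply Units.ext
  rw [Units.val_mul, dg_coe, dg_coe, dg_coe, diagonal_mul_diagonal]
  rfl

/-- One-dimensional tori. -/
def ht (j : Fin n) (t : Fˣ) : GL (Fin n) F := dg (Pi.mulSingle j t)

theorem ht_coe (j : Fin n) (t : Fˣ) : ((ht j t : GL (Fin n) F) : Matrix (Fin n) (Fin n) F) =
    1 + single j j ((t : F) - 1) := by
  rw [ht, dg_coe]
  ext a b
  by_cases hab : a = b
  · subst hab
    by_cases haj : a = j
    · subst haj; simp
    · simp [haj, Matrix.single, Ne.symm haj]
  · rw [diagonal_apply_ne _ hab, Matrix.add_apply, one_apply_ne hab]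
    by_cases h1 : j = a
    · subst h1
      simp [Matrix.single, hab]
    · simp [Matrix.single, h1]

theorem ht_inv (j : Fin n) (t : Fˣ) : (ht j t)⁻¹ = ht j t⁻¹ := by
  rw [inv_eq_iff_mul_eq_one, ht, ht, ← dg_mul, ← Pi.mulSingle_mul, mul_inv_cancel,
    Pi.mulSingle_one]
  apply Units.ext
  rw [dg_coe]
  simp

/-- (a) `mm h * uu S = uu (h S hᵀ) * mm h`. -/
theorem mm_mul_uu (h : GL (Fin n) F) (S : Sym n F) :
    mm h * uu S = uu (cong (h : Matrix (Fin n) (Fin n) F) S) * mm h := by
  apply Subtype.ext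
  rw [Submonoid.coe_mul, Submonoid.coe_mul, mm_coe, uu_coe, uu_coe, fromBlocks_multiply,
    fromBlocks_multiply]
  have : (h : Matrix (Fin n) (Fin n) F)ᵀ *
      ((h⁻¹ : GL (Fin n) F) : Matrix (Fin n) (Fin n) F)ᵀ = 1 := by
    rw [← transpose_mul, ← Units.val_mul, inv_mul_cancel]; simp
  simp only [Matrix.mul_one, Matrix.mul_zero, Matrix.zero_mul, Matrix.one_mul, add_zero, zero_add,
    cong]
  rw [Matrix.mul_assoc (_ * _), this, Matrix.mul_one]

/-- (b) `ww j` commutes with `uu S` when row `j` of `S` is zero. -/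
theorem ww_comm_uu (j : Fin n) (S : Sym n F) (h : ∀ k, S.1 j k = 0) :
    ww j * uu S = uu S * ww j := by
  have h1 : single j j 1 * S.1 = 0 := by
    ext a b
    by_cases haj : a = j
    · subst haj; simp [h]
    · simp [haj]
  have h2 : S.1 * single j j 1 = 0 := by
    ext a b
    by_cases hbj : b = j
    · subst hbj; simp [Sym.apply S a, h]
    · simp [hbj]
  apply Subtype.ext
  rw [Submonoid.coe_mul, Submonoid.coe_mul, ww_coe, uu_coe, fromBlocks_multiply,
    fromBlocks_multiply]
  simp [Matrix.mul_sub, Matrix.sub_mul, h1, h2, add_comm]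

/-- (c) -/
theorem ww_mul_uu (i j : Fin n) (hij : i ≠ j) (b : F) :
    ww j * uu (sE i j b) = mm (tv i j hij b) * ww j := by
  apply Subtype.ext
  rw [Submonoid.coe_mul, Submonoid.coe_mul, ww_coe, uu_coe, mm_coe, tv_coe, tv_inv_coe,
    fromBlocks_multiply, fromBlocks_multiply]
  simp only [sE]
  congr 1 <;>
  simp [Matrix.mul_add, Matrix.add_mul, hij, hij.symm,
    transpose_add, sub_eq_add_neg, ← Matrix.single_neg] <;> abel

/-- (d) -/
theorem ww_mul_mm (i j : Fin n) (hij : i ≠ j) (b : F) :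
    ww j * mm (tv i j hij b) = uu (sE i j (-b)) * ww j := by
  apply Subtype.ext
  rw [Submonoid.coe_mul, Submonoid.coe_mul, ww_coe, uu_coe, mm_coe, tv_coe, tv_inv_coe,
    fromBlocks_multiply, fromBlocks_multiply]
  simp only [sE]
  congr 1 <;>
  simp [Matrix.mul_add, Matrix.add_mul, hij, hij.symm,
    transpose_add, sub_eq_add_neg, ← Matrix.single_neg]

/-- (e) -/
theorem ww_uu_ww (j : Fin n) (t : Fˣ) :
    ww j * uu (sD j (-((t⁻¹ : Fˣ) : F))) * ww j =
      uu (sD j (t : F)) * mm (ht j t) * ww j * uu (sD j (t : F)) := by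
  apply Subtype.ext
  simp only [Submonoid.coe_mul, ww_coe, uu_coe, mm_coe, ht_inv, ht_coe, fromBlocks_multiply]
  simp only [sD]
  congr 1 <;>
  simp [transpose_add, sub_eq_add_neg, ← Matrix.single_neg, Matrix.single_add, add_mul, mul_add] <;>
  abel

/-- (g) `mm h` commutes with `ww j` when `h` fixes the `j`-th coordinate. -/
theorem mm_comm_ww (j : Fin n) (h : GL (Fin n) F)
    (h1 : (h : Matrix (Fin n) (Fin n) F) * single j j 1 = single j j 1)
    (h2 : single j j 1 * (h : Matrix (Fin n) (Fin n) F) = single j j 1) :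
    mm h * ww j = ww j * mm h := by
  have h3 : ((h⁻¹ : GL (Fin n) F) : Matrix (Fin n) (Fin n) F)ᵀ * single j j 1 = single j j 1 := by
    have : single j j 1 * ((h⁻¹ : GL (Fin n) F) : Matrix (Fin n) (Fin n) F) = single j j 1 := by
      conv_lhs => rw [← h2, Matrix.mul_assoc, ← Units.val_mul, mul_inv_cancel]
      simp
    have h4 := congrArg transpose this
    rwa [transpose_mul, transpose_single] at h4
  have h3' : single j j 1 * ((h⁻¹ : GL (Fin n) F) : Matrix (Fin n) (Fin n) F)ᵀ = single j j 1 := by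
    have : ((h⁻¹ : GL (Fin n) F) : Matrix (Fin n) (Fin n) F) * single j j 1 = single j j 1 := by
      conv_lhs => rw [← h1, ← Matrix.mul_assoc, ← Units.val_mul, inv_mul_cancel]
      simp
    have h4 := congrArg transpose this
    rwa [transpose_mul, transpose_single] at h4
  apply Subtype.ext
  rw [Submonoid.coe_mul, Submonoid.coe_mul, ww_coe, mm_coe, fromBlocks_multiply,
    fromBlocks_multiply]
  simp [-Matrix.coe_units_inv, Matrix.mul_sub, Matrix.sub_mul, h1, h2, h3, h3']

/-- (f) `ww j ^ 2` is the torus element `ht j (-1)`. -/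
theorem ww_sq (j : Fin n) : ww j * ww j = mm (ht j (-1) : GL (Fin n) F) := by
  apply Subtype.ext
  rw [Submonoid.coe_mul, ww_coe, mm_coe, ht_inv, ht_coe, ht_coe, fromBlocks_multiply]
  congr 1 <;>
  simp [sub_eq_add_neg, ← Matrix.single_neg, Matrix.single_add, add_mul, mul_add, transpose_add] <;>
  abel

theorem ww_pow_four (j : Fin n) : (ww j : Sp n F) ^ 4 = 1 := by
  have : (ww j : Sp n F) ^ 4 = (ww j * ww j) * (ww j * ww j) := by
    simp only [pow_succ, pow_zero, one_mul, mul_assoc]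
  rw [this, ww_sq, ← map_mul, ht, ← dg_mul, ← Pi.mulSingle_mul]
  simp only [mul_neg, mul_one, neg_neg, Pi.mulSingle_one]
  have : (dg (1 : Fin n → Fˣ) : GL (Fin n) F) = 1 := by
    apply Units.ext
    rw [dg_coe]
    simp
  rw [this, map_one]

end Cfsg.Agent.H162.Weil
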