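import Cfsg.Agent.H162.WeilGen

/-!
# Weights of the Siegel unipotent radical (helper162)
-/

set_option autoImplicit false
open Matrix

namespace Cfsg.Agent.H162.Weil

variable {F : Type*} [Field F] {n : ℕ}

/-- The pairing of matrices `∑ T_kl S_kl`. -/
def pr (T S : Matrix (Fin n) (Fin n) F) : F := ∑ k, ∑ l, T k l * S k l

theorem pr_eq_trace (T S : Matrix (Fin n) (Fin n) F) : pr T S = trace (T * Sᵀ) := by
  simp [pr, trace, Matrix.mul_apply]

theorem pr_add_left (T T' S : Matrix (Fin n) (Fin n) F) : pr (T + T') S = pr T S + pr T' S := by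
  simp [pr_eq_trace, Matrix.add_mul, trace_add]

theorem pr_add_right (T S S' : Matrix (Fin n) (Fin n) F) : pr T (S + S') = pr T S + pr T S' := by
  simp [pr_eq_trace, Matrix.mul_add, trace_add, transpose_add]

theorem pr_neg_left (T S : Matrix (Fin n) (Fin n) F) : pr (-T) S = - pr T S := by
  simp [pr_eq_trace]

theorem pr_neg_right (T S : Matrix (Fin n) (Fin n) F) : pr T (-S) = - pr T S := by
  simp [pr_eq_trace]

theorem pr_zero_right (T : Matrix (Fin n) (Fin n) F) : pr T 0 = 0 := by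
  simp [pr_eq_trace]

theorem pr_zero_left (T : Matrix (Fin n) (Fin n) F) : pr 0 T = 0 := by
  simp [pr_eq_trace]

theorem pr_smul_left (c : F) (T S : Matrix (Fin n) (Fin n) F) : pr (c • T) S = c * pr T S := by
  simp [pr_eq_trace]

theorem pr_comm (T S : Matrix (Fin n) (Fin n) F) : pr T S = pr S T := by
  simp [pr, mul_comm]

theorem pr_conj (B T S : Matrix (Fin n) (Fin n) F) : pr (B * T * Bᵀ) S = pr T (Bᵀ * S * B) := by
  rw [pr_eq_trace, pr_eq_trace, Matrix.mul_assoc, Matrix.mul_assoc, trace_mul_comm]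
  congr 1
  simp only [transpose_mul, transpose_transpose, Matrix.mul_assoc]

theorem pr_sE (T : Matrix (Fin n) (Fin n) F) (i j : Fin n) (s : F) :
    pr T (sE i j s).1 = s * (T i j + T j i) := by
  simp only [sE]
  rw [pr_add_right]
  have h : ∀ a b : Fin n, pr T (single a b s) = s * T a b := by
    intro a b
    simp only [pr]
    rw [Finset.sum_eq_single a, Finset.sum_eq_single b]
    · simp [mul_comm]
    · intro l _ hl; simp [Matrix.single_apply, hl.symm]
    · simp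
    · intro l _ hl; simp [Matrix.single_apply, hl.symm]
    · simp
  rw [h, h]; ring

theorem pr_sD (T : Matrix (Fin n) (Fin n) F) (i : Fin n) (s : F) :
    pr T (sD i s).1 = s * T i i := by
  simp only [sD]
  simp only [pr]
  rw [Finset.sum_eq_single i, Finset.sum_eq_single i]
  · simp [mul_comm]
  · intro l _ hl; simp [Matrix.single_apply, hl.symm]
  · simp
  · intro l _ hl; simp [Matrix.single_apply, hl.symm]
  · simp

theorem pr_vec (lam : F) (x : Fin n → F) (S : Matrix (Fin n) (Fin n) F) :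
    pr (lam • vecMulVec x x) S = lam * (x ⬝ᵥ (S *ᵥ x)) := by
  rw [pr_smul_left]
  congr 1
  simp only [pr, vecMulVec_apply, dotProduct, mulVec, Finset.mul_sum]
  refine Finset.sum_congr rfl fun k _ => Finset.sum_congr rfl fun l _ => ?_
  ring

/-- A primitive additive character takes a non-trivial value on a line. -/
theorem exists_ne_one {ψ : AddChar F ℂ} (hψ : ψ.IsPrimitive) {a : F} (ha : a ≠ 0) :
    ∃ s, ψ (s * a) ≠ 1 := by
  by_contra h
  push Not at h
  apply hψ ha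
  ext s
  rw [AddChar.mulShift_apply, mul_comm, h]
  simp

theorem pr_nondeg {ψ : AddChar F ℂ} (hψ : ψ.IsPrimitive) (h2 : (2 : F) ≠ 0)
    {T : Matrix (Fin n) (Fin n) F} (hT : T ∈ Sym n F) (h : ∀ S : Sym n F, ψ (pr T S.1) = 1) :
    T = 0 := by
  ext i j
  by_contra hij
  have hs : T j i = T i j := Sym.apply ⟨T, hT⟩ j i
  have : (2 : F) * T i j ≠ 0 := mul_ne_zero h2 hij
  obtain ⟨s, hs'⟩ := exists_ne_one hψ this
  apply hs'
  have := h (sE i j s)
  rw [pr_sE, hs, ← two_mul] at this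
  exact this

section rep

variable [Finite F] {V : Type*} [AddCommGroup V] [Module ℂ V] (ρ : Representation ℂ (Sp n F) V)
  (ψ : AddChar F ℂ)

/-- Weight space for the weight `S ↦ ψ (pr T S)`. -/
def Wt (T : Matrix (Fin n) (Fin n) F) : Submodule ℂ V where
  carrier := {v | ∀ S : Sym n F, ρ (uu S) v = ψ (pr T S.1) • v}
  add_mem' {a b} ha hb S := by rw [map_add, ha S, hb S, smul_add]
  zero_mem' S := by simp
  smul_mem' c v hv S := by rw [map_smul, hv S, smul_comm]

variable {ρ ψ}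

theorem mem_Wt {T : Matrix (Fin n) (Fin n) F} {v : V} :
    v ∈ Wt ρ ψ T ↔ ∀ S : Sym n F, ρ (uu S) v = ψ (pr T S.1) • v := Iff.rfl

variable (ρ ψ)

/-- Projection onto the weight space. -/
noncomputable def Pj (T : Matrix (Fin n) (Fin n) F) : V →ₗ[ℂ] V :=
  (Nat.card (Sym n F) : ℂ)⁻¹ • ∑ S : Sym n F, ψ (-(pr T S.1)) • ρ (uu S)

variable {ρ ψ}

theorem Pj_apply (T : Matrix (Fin n) (Fin n) F) (v : V) :
    Pj ρ ψ T v = (Nat.card (Sym n F) : ℂ)⁻¹ • ∑ S : Sym n F, ψ (-(pr T S.1)) • ρ (uu S) v := by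
  simp [Pj, LinearMap.sum_apply]

theorem Pj_mem (T : Matrix (Fin n) (Fin n) F) (v : V) : Pj ρ ψ T v ∈ Wt ρ ψ T := by
  intro S
  rw [Pj_apply, map_smul, map_sum, smul_comm]
  congr 1
  rw [Finset.smul_sum]
  refine Fintype.sum_equiv (Equiv.addLeft S) _ _ fun S' => ?_
  rw [map_smul, Equiv.coe_addLeft, uu_add, map_mul, Module.End.mul_apply, smul_smul]
  congr 1
  rw [← AddChar.map_add_eq_mul]
  congr 1
  rw [AddSubgroup.coe_add, pr_add_right]
  ring

theorem card_Sym_ne : (Nat.card (Sym n F) : ℂ) ≠ 0 := by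
  rw [Nat.cast_ne_zero]
  exact Nat.card_pos.ne'

theorem Pj_of_mem {T : Matrix (Fin n) (Fin n) F} {v : V} (hv : v ∈ Wt ρ ψ T) :
    Pj ρ ψ T v = v := by
  rw [Pj_apply]
  have : ∀ S : Sym n F, ψ (-(pr T S.1)) • ρ (uu S) v = v := by
    intro S
    rw [hv S, smul_smul, ← AddChar.map_add_eq_mul, neg_add_cancel, AddChar.map_zero_eq_one,
      one_smul]
  simp only [this, Finset.sum_const, Finset.card_univ, ← Nat.card_eq_fintype_card]
  rw [← Nat.cast_smul_eq_nsmul ℂ, smul_smul, inv_mul_cancel₀ card_Sym_ne, one_smul]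

/-- The character of `Sym` attached to `T`. -/
def chT (ψ : AddChar F ℂ) (T : Matrix (Fin n) (Fin n) F) : AddChar (Sym n F) ℂ where
  toFun S := ψ (pr T S.1)
  map_zero_eq_one' := by
    rw [ZeroMemClass.coe_zero, pr_zero_right, AddChar.map_zero_eq_one]
  map_add_eq_mul' S S' := by
    rw [AddSubgroup.coe_add, pr_add_right, AddChar.map_add_eq_mul]

theorem chT_apply (T : Matrix (Fin n) (Fin n) F) (S : Sym n F) : chT ψ T S = ψ (pr T S.1) := rfl

theorem sum_chT (hψ : ψ.IsPrimitive) (h2 : (2 : F) ≠ 0) {T : Matrix (Fin n) (Fin n) F}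
    (hT : T ∈ Sym n F) (hT0 : T ≠ 0) : ∑ S : Sym n F, ψ (pr T S.1) = 0 := by
  have h : chT ψ T ≠ 1 := by
    intro h
    apply hT0
    refine pr_nondeg hψ h2 hT fun S => ?_
    rw [← chT_apply, h]; simp
  exact AddChar.sum_eq_zero_of_ne_one h

theorem Pj_of_mem_ne (hψ : ψ.IsPrimitive) (h2 : (2 : F) ≠ 0) {T T' : Matrix (Fin n) (Fin n) F}
    (hT : T ∈ Sym n F) (hT' : T' ∈ Sym n F) (hne : T ≠ T') {v : V} (hv : v ∈ Wt ρ ψ T') :
    Pj ρ ψ T v = 0 := by
  rw [Pj_apply]
  have : ∀ S : Sym n F, ψ (-(pr T S.1)) • ρ (uu S) v = ψ (pr (T' - T) S.1) • v := by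
    intro S
    rw [hv S, smul_smul, ← AddChar.map_add_eq_mul, sub_eq_add_neg, pr_add_left, pr_neg_left,
      add_comm]
  simp only [this]
  rw [← Finset.sum_smul, sum_chT hψ h2 (sub_mem hT' hT) (sub_ne_zero.mpr hne.symm), zero_smul,
    smul_zero]

theorem sum_Pj (hψ : ψ.IsPrimitive) (h2 : (2 : F) ≠ 0) (v : V) :
    ∑ T : Sym n F, Pj ρ ψ T.1 v = v := by
  classical
  simp only [Pj_apply]
  rw [← Finset.smul_sum, Finset.sum_comm]
  have : ∀ S : Sym n F, ∑ T : Sym n F, ψ (-(pr T.1 S.1)) • ρ (uu S) v =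
      if S = 0 then (Nat.card (Sym n F) : ℂ) • v else 0 := by
    intro S
    rw [← Finset.sum_smul]
    split_ifs with hS
    · subst hS
      rw [uu_zero, map_one, Module.End.one_apply]
      congr 1
      simp [pr_zero_right]
    · have h1 : ∑ T : Sym n F, ψ (-(pr T.1 S.1)) = 0 := by
        have := sum_chT (n := n) hψ h2 (T := -S.1) (neg_mem S.2) (by
          intro h
          apply hS
          apply Subtype.ext
          rw [← neg_neg S.1, h, neg_zero]
          rfl)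
        rw [← this]
        refine Finset.sum_congr rfl fun T _ => ?_
        rw [pr_neg_left, pr_comm]
      rw [h1, zero_smul]
  rw [Finset.sum_congr rfl fun S _ => this S]
  rw [Finset.sum_ite_eq' Finset.univ (0 : Sym n F), if_pos (Finset.mem_univ _), smul_smul,
    inv_mul_cancel₀ card_Sym_ne, one_smul]

theorem Wt_disjoint (hψ : ψ.IsPrimitive) (h2 : (2 : F) ≠ 0) {T T' : Matrix (Fin n) (Fin n) F}
    (hT : T ∈ Sym n F) (hT' : T' ∈ Sym n F) (hne : T ≠ T') {v : V} (hv : v ∈ Wt ρ ψ T)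
    (hv' : v ∈ Wt ρ ψ T') : v = 0 := by
  rw [← Pj_of_mem hv, Pj_of_mem_ne hψ h2 hT hT' hne hv']

theorem rho_uu_Pj (T : Matrix (Fin n) (Fin n) F) (S : Sym n F) (v : V) :
    ρ (uu S) (Pj ρ ψ T v) = Pj ρ ψ T (ρ (uu S) v) := by
  rw [Pj_apply, Pj_apply, map_smul, map_sum]
  congr 1
  refine Finset.sum_congr rfl fun S' _ => ?_
  rw [map_smul, ← Module.End.mul_apply, ← Module.End.mul_apply, ← map_mul, ← map_mul, ← uu_add,
    ← uu_add, add_comm]

/-- The action of `GL` on weights. -/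
def actT (h : GL (Fin n) F) (T : Matrix (Fin n) (Fin n) F) : Matrix (Fin n) (Fin n) F :=
  ((h⁻¹ : GL (Fin n) F) : Matrix (Fin n) (Fin n) F)ᵀ * T *
    ((h⁻¹ : GL (Fin n) F) : Matrix (Fin n) (Fin n) F)

theorem actT_mem (h : GL (Fin n) F) {T : Matrix (Fin n) (Fin n) F} (hT : T ∈ Sym n F) :
    actT h T ∈ Sym n F := by
  rw [mem_Sym] at hT ⊢
  simp only [actT, transpose_mul, transpose_transpose, hT, Matrix.mul_assoc]

theorem uu_mul_mm (h : GL (Fin n) F) (S : Sym n F) :
    uu S * mm h = mm h * uu (cong ((h⁻¹ : GL (Fin n) F) : Matrix (Fin n) (Fin n) F) S) := by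
  rw [mm_mul_uu]
  congr 2
  apply Subtype.ext
  simp only [cong]
  rw [← Matrix.mul_assoc, ← Matrix.mul_assoc, ← Units.val_mul, mul_inv_cancel, Units.val_one,
    Matrix.one_mul, Matrix.mul_assoc, ← transpose_mul, ← Units.val_mul, mul_inv_cancel]
  simp

theorem pr_actT (h : GL (Fin n) F) (T : Matrix (Fin n) (Fin n) F) (S : Sym n F) :
    pr (actT h T) S.1 = pr T (cong ((h⁻¹ : GL (Fin n) F) : Matrix (Fin n) (Fin n) F) S).1 := by
  simp only [actT, cong]
  have := pr_conj (((h⁻¹ : GL (Fin n) F) : Matrix (Fin n) (Fin n) F)ᵀ) T S.1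
  rw [transpose_transpose] at this
  exact this

theorem mm_mem_Wt (h : GL (Fin n) F) {T : Matrix (Fin n) (Fin n) F} {v : V}
    (hv : v ∈ Wt ρ ψ T) : ρ (mm h) v ∈ Wt ρ ψ (actT h T) := by
  intro S
  rw [← Module.End.mul_apply, ← map_mul, uu_mul_mm, map_mul, Module.End.mul_apply, hv, map_smul,
    pr_actT]

theorem cong_inv (h : GL (Fin n) F) (S : Sym n F) :
    cong ((h⁻¹ : GL (Fin n) F) : Matrix (Fin n) (Fin n) F)
      (cong (h : Matrix (Fin n) (Fin n) F) S) = S := by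
  apply Subtype.ext
  simp only [cong]
  rw [← Matrix.mul_assoc, ← Matrix.mul_assoc, ← Units.val_mul, inv_mul_cancel, Units.val_one,
    Matrix.one_mul, Matrix.mul_assoc, ← transpose_mul, ← Units.val_mul, inv_mul_cancel]
  simp

theorem cong_inv' (h : GL (Fin n) F) (S : Sym n F) :
    cong (h : Matrix (Fin n) (Fin n) F)
      (cong ((h⁻¹ : GL (Fin n) F) : Matrix (Fin n) (Fin n) F) S) = S := by
  have := cong_inv h⁻¹ S
  rwa [inv_inv] at this

theorem mm_Pj (h : GL (Fin n) F) (T : Matrix (Fin n) (Fin n) F) (v : V) :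
    ρ (mm h) (Pj ρ ψ T v) = Pj ρ ψ (actT h T) (ρ (mm h) v) := by
  rw [Pj_apply, Pj_apply, map_smul, map_sum]
  congr 1
  refine Fintype.sum_equiv ⟨fun S => cong (h : Matrix (Fin n) (Fin n) F) S,
    fun S => cong ((h⁻¹ : GL (Fin n) F) : Matrix (Fin n) (Fin n) F) S, cong_inv h, cong_inv' h⟩
    _ _ fun S => ?_
  rw [map_smul, Equiv.coe_fn_mk, pr_actT, cong_inv, ← Module.End.mul_apply, ← Module.End.mul_apply,
    ← map_mul, ← map_mul, mm_mul_uu]

end rep

end Cfsg.Agent.H162.Weil
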